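import Cfsg.Agent.L0.HN.Tc1T

/-! Generated checks. -/

set_option autoImplicit false
set_option maxRecDepth 100000

namespace Cfsg.Agent.L0.HNTc1

theorem b40 : allR chk 9 40 = true := by decide +kernel
theorem b41 : allR chk 9 41 = true := by decide +kernel
theorem b42 : allR chk 9 42 = true := by decide +kernel
theorem b43 : allR chk 9 43 = true := by decide +kernel

end Cfsg.Agent.L0.HNTc1
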