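import Cfsg.Agent.L0.HN.Tc1C0
import Cfsg.Agent.L0.HN.Tc1C1

/-! Generated coset table certificate. -/

set_option autoImplicit false
set_option maxRecDepth 100000

namespace Cfsg.Agent.L0.HNTc1

noncomputable def T : CT := ⟨row, nat_lit 22407, nat_lit 352, nat_lit 0x7fff, nat_lit 0xff8000, nat_lit 24, nat_lit 0xff, nat_lit 0, nat_lit 0x7fff, nat_lit 15, nat_lit 0x1ff, nat_lit 0xf000000, nat_lit 444, nat_lit 476, nat_lit 6, nat_lit 49, [], cols, erots, gens⟩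

theorem all : ∀ c < 22407, chk c = true := fun c hc =>
  allR_glue (d := 9) (n := 44) (forall_lt_succ' (forall_lt_succ' (forall_lt_succ' (forall_lt_succ' (forall_lt_succ' (forall_lt_succ' (forall_lt_succ' (forall_lt_succ' (forall_lt_succ' (forall_lt_succ' (forall_lt_succ' (forall_lt_succ' (forall_lt_succ' (forall_lt_succ' (forall_lt_succ' (forall_lt_succ' (forall_lt_succ' (forall_lt_succ' (forall_lt_succ' (forall_lt_succ' (forall_lt_succ' (forall_lt_succ' (forall_lt_succ' (forall_lt_succ' (forall_lt_succ' (forall_lt_succ' (forall_lt_succ' (forall_lt_succ' (forall_lt_succ' (forall_lt_succ' (forall_lt_succ' (forall_lt_succ' (forall_lt_succ' (forall_lt_succ' (forall_lt_succ' (forall_lt_succ' (forall_lt_succ' (forall_lt_succ' (forall_lt_succ' (forall_lt_succ' (forall_lt_succ' (forall_lt_succ' (forall_lt_succ' (forall_lt_succ' forall_lt_zero' b0) b1) b2) b3) b4) b5) b6)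 b7) b8) b9) b10) b11) b12) b13) b14) b15) b16) b17) b18) b19) b20) b21) b22) b23) b24) b25) b26) b27) b28) b29) b30) b31) b32) b33) b34) b35) b36) b37) b38) b39) b40) b41) b42) b43) c (lt_of_lt_of_le hc (by norm_num))

/-- the relators used -/
def R : List (List ℕ) := [[nat_lit 0, nat_lit 4],
  [nat_lit 1, nat_lit 5],
  [nat_lit 2, nat_lit 2],
  [nat_lit 3, nat_lit 6],
  [nat_lit 7, nat_lit 8],
  [nat_lit 9, nat_lit 10],
  [nat_lit 11, nat_lit 12],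
  [nat_lit 1, nat_lit 1, nat_lit 1, nat_lit 1, nat_lit 1, nat_lit 1],
  [nat_lit 0, nat_lit 0, nat_lit 1, nat_lit 0, nat_lit 0, nat_lit 5],
  [nat_lit 4, nat_lit 5, nat_lit 0, nat_lit 1, nat_lit 4, nat_lit 5, nat_lit 0, nat_lit 1, nat_lit 4, nat_lit 5, nat_lit 0, nat_lit 1],
  [nat_lit 4, nat_lit 1, nat_lit 1, nat_lit 0, nat_lit 1, nat_lit 1, nat_lit 1, nat_lit 4, nat_lit 1, nat_lit 1, nat_lit 0, nat_lit 1, nat_lit 1, nat_lit 1, nat_lit 4, nat_lit 1, nat_lit 1, nat_lit 0, nat_lit 1, nat_lit 1, nat_lit 1],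
  [nat_lit 0, nat_lit 1, nat_lit 0, nat_lit 1, nat_lit 0, nat_lit 1, nat_lit 0, nat_lit 1, nat_lit 0, nat_lit 1, nat_lit 0, nat_lit 1, nat_lit 0, nat_lit 1, nat_lit 0, nat_lit 1],
  [nat_lit 0, nat_lit 1, nat_lit 0, nat_lit 1, nat_lit 1, nat_lit 1, nat_lit 0, nat_lit 1, nat_lit 0, nat_lit 1, nat_lit 1, nat_lit 1, nat_lit 0, nat_lit 1, nat_lit 0, nat_lit 1, nat_lit 1, nat_lit 1, nat_lit 0, nat_lit 1, nat_lit 0, nat_lit 1, nat_lit 1, nat_lit 1],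
  [nat_lit 2, nat_lit 0, nat_lit 2, nat_lit 0],
  [nat_lit 2, nat_lit 10, nat_lit 2, nat_lit 9, nat_lit 4, nat_lit 4],
  [nat_lit 2, nat_lit 5, nat_lit 4, nat_lit 5, nat_lit 4, nat_lit 5, nat_lit 5, nat_lit 5, nat_lit 2, nat_lit 1, nat_lit 1, nat_lit 1, nat_lit 0, nat_lit 1, nat_lit 0, nat_lit 1, nat_lit 0, nat_lit 5, nat_lit 4, nat_lit 5, nat_lit 4, nat_lit 5, nat_lit 5, nat_lit 5, nat_lit 2, nat_lit 1, nat_lit 1, nat_lit 1, nat_lit 0, nat_lit 1, nat_lit 0, nat_lit 1, nat_lit 0, nat_lit 5, nat_lit 4, nat_lit 5, nat_lit 4, nat_lit 5, nat_lit 5, nat_lit 5, nat_lit 2, nat_lit 1, nat_lit 1, nat_lit 1, nat_lit 0, nat_lit 1, nat_lit 0, nat_lit 1, nat_lit 0],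
  [nat_lit 0, nat_lit 0, nat_lit 0, nat_lit 0],
  [nat_lit 10, nat_lit 4, nat_lit 4, nat_lit 9, nat_lit 0, nat_lit 0],
  [nat_lit 9, nat_lit 9, nat_lit 9, nat_lit 9, nat_lit 9, nat_lit 9, nat_lit 9, nat_lit 9, nat_lit 9, nat_lit 9, nat_lit 9, nat_lit 9],
  [nat_lit 10, nat_lit 4, nat_lit 9, nat_lit 4, nat_lit 10, nat_lit 4, nat_lit 9, nat_lit 4],
  [nat_lit 10, nat_lit 10, nat_lit 4, nat_lit 9, nat_lit 9, nat_lit 4, nat_lit 10, nat_lit 10, nat_lit 4, nat_lit 9, nat_lit 9, nat_lit 4],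
  [nat_lit 0, nat_lit 9, nat_lit 0, nat_lit 9, nat_lit 0, nat_lit 9, nat_lit 0, nat_lit 9, nat_lit 0, nat_lit 9, nat_lit 0, nat_lit 9, nat_lit 0, nat_lit 9],
  [nat_lit 6, nat_lit 4, nat_lit 1, nat_lit 0],
  [nat_lit 8, nat_lit 2, nat_lit 1, nat_lit 2],
  [nat_lit 10, nat_lit 1, nat_lit 0, nat_lit 1, nat_lit 0, nat_lit 1, nat_lit 1, nat_lit 0, nat_lit 5],
  [nat_lit 12, nat_lit 1, nat_lit 1, nat_lit 1, nat_lit 0, nat_lit 1, nat_lit 0, nat_lit 1],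
  [nat_lit 2, nat_lit 12, nat_lit 2, nat_lit 11, nat_lit 0, nat_lit 12, nat_lit 2, nat_lit 11, nat_lit 0, nat_lit 12, nat_lit 2, nat_lit 11, nat_lit 0],
  [nat_lit 2, nat_lit 0, nat_lit 9, nat_lit 2, nat_lit 10, nat_lit 4]]

theorem cert : Cert T (R.map fun r => (r, 0)) ([0, 1, 3, 4, 5, 6, 9, 10, 11, 12].map fun y => (y, 0)) 28 32 [0, 1, 2, 3, 4, 5, 6, 7, 8, 9, 10, 11, 12] :=
  ⟨by decide +kernel, ⟨[[(0, 0), (22, 3), (8, 1), (8, 4), (13, 1), (17, 5), (16, 0), (24, 7), (8, 0), (24, 2), (9, 2), (8, 3), (25, 6), (11, 0), (25, 4), (17, 4), (24, 4), (12, 2), (26, 8), (21, 0), (10, 3), (12, 0)], [(1, 0), (7, 0), (25, 2), (25, 1), (24, 1), (25, 7), (24, 6), (11, 1), (22, 2), (24, 3), (25, 5), (9, 3), (24, 5), (25, 3), (23, 2), (12, 1), (10, 2), (10, 1), (10, 5), (12, 4), (8, 2), (12, 5), (10, 6), (10, 4), (12, 3)], [(2, 0), (23, 3), (23, 1), (13, 0), (27, 3), (14, 2), (14,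 0), (27, 0), (26, 2), (26, 6)], [(3, 0)], [(0, 1), (22, 1), (17, 1), (9, 0), (14, 4), (19, 3), (17, 2), (14, 5), (27, 5), (19, 1), (10, 0), (15, 4), (15, 20)], [(1, 1), (24, 8), (9, 1), (8, 5)], [(3, 1), (22, 0)], [(4, 0)], [(4, 1), (23, 0)], [(5, 0), (27, 2), (14, 3), (19, 2), (18, 0)], [(5, 1), (24, 0), (14, 1), (19, 0), (27, 4), (17, 0)], [(6, 0), (26, 3), (26, 11)], [(6, 1), (25, 0), (26, 1), (26, 9)]], [(1, 0), (1, 1), (2, 0), (3, 1), (0, 1), (3, 0), (5, 1), (5, 0), (6, 1), (6, 0), (4, 0), (4, 1), (8, 5), (22, 0), (13, 0), (8, 4), (22, 1), (25, 0), (25, 1), (24, 1), (24, 0), (0, 0), (24, 2), (7, 0), (8, 2), (25, 7), (11, 0), (25, 2), (9, 1), (8, 1), (11, 1), (9, 3), (9, 2), (24, 8), (10, 2), (12, 5), (27, 3), (24, 3), (24, 5), (12, 3), (23, 1), (9, 0), (12, 4), (17, 2), (23, 0), (17, 5), (12, 0), (15, 10), (14, 2), (26, 4), (10, 4), (13, 1), (10, 6), (26, 2),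 (14, 1), (26, 3), (12, 2), (15, 9), (19, 3), (14, 3), (19, 0), (15, 12), (24, 6), (10, 5), (15, 11), (15, 43), (26, 6), (10, 1), (12, 1), (14, 5), (19, 1), (10, 0), (18, 0), (26, 9), (8, 3), (24, 7), (10, 3), (22, 2), (15, 41), (26, 0), (14, 4), (21, 1), (8, 0), (17, 4), (24, 4), (26, 12), (21, 0), (15, 44), (25, 3), (15, 26), (15, 27), (27, 5), (15, 20), (15, 1), (19, 2), (27, 4), (20, 0), (26, 7), (26, 1), (26, 5)], by decide +kernel⟩, by decide +kernel, Or.inr all⟩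

theorem bound {Γ : Type*} [Group Γ] {x : ℕ → Γ} (hR : ∀ r ∈ R, ev x r = 1) {n : ℕ}
    (h : CardLe x [0, 1, 3, 4, 5, 6, 9, 10, 11, 12] n) : CardLe x [0, 1, 2, 3, 4, 5, 6, 7, 8, 9, 10, 11, 12] (352 * n) :=
  cert.cardLe rfl hR h

end Cfsg.Agent.L0.HNTc1
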