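import Cfsg.Agent.L0.CosetChain

/-! Generated coset table certificate. -/

set_option autoImplicit false
set_option maxRecDepth 100000

namespace Cfsg.Agent.L0.HNTc4

noncomputable def t0 : BT := .node (.leaf (nat_lit 0x960a00000000000000000095942654000000000000000001de49408000000000000000000758c1e4c0000000000000000015e2920600000000000000000055841644000000000000000000de0910400000000000000000035800c08000000000000000000000)) (.leaf (nat_lit 0x9aeb000000000000000000d5a6f264000000000000000002de8980c000000000000000000b59c2e5c0000000000000000025e6))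

noncomputable def tree : BT := t0

noncomputable def row : ℕ → ℕ := rowOf tree (nat_lit 3) (nat_lit 7) (nat_lit 102) (nat_lit 0x3fffffffffffffffffffffffff)

noncomputable def cols : List Col := [⟨nat_lit 86, nat_lit 0, [([nat_lit 94], nat_lit 0), ([nat_lit 86, nat_lit 86, nat_lit 86, nat_lit 86, nat_lit 86, nat_lit 86, nat_lit 86, nat_lit 86, nat_lit 86, nat_lit 86, nat_lit 86], nat_lit 0)]⟩,
  ⟨nat_lit 94, nat_lit 0, [([nat_lit 86], nat_lit 0)]⟩]

noncomputable def erots : List (List ℕ × ℕ) := []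

noncomputable def gens : List ℕ := [nat_lit 86, nat_lit 94]

noncomputable def chk : ℕ → Bool := chkRow0 row (nat_lit 12) (nat_lit 0xf) (nat_lit 0x30) (nat_lit 6) (nat_lit 0x3) (nat_lit 0) (nat_lit 0xf) (nat_lit 4) (nat_lit 0x7f) (nat_lit 0x3800) [] cols gens

theorem b0 : allR chk 4 0 = true := by decide +kernel

noncomputable def T : CT := ⟨row, nat_lit 12, nat_lit 12, nat_lit 0xf, nat_lit 0x30, nat_lit 6, nat_lit 0x3, nat_lit 0, nat_lit 0xf, nat_lit 4, nat_lit 0x7f, nat_lit 0x3800, nat_lit 102, nat_lit 102, nat_lit 0, nat_lit 12, [], cols, erots, gens⟩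

theorem all : ∀ c < 12, chk c = true := fun c hc =>
  allR_glue (d := 4) (n := 1) (forall_lt_succ' forall_lt_zero' b0) c (lt_of_lt_of_le hc (by norm_num))

/-- the relators used -/
def R : List (List ℕ) := [[nat_lit 9, nat_lit 10],
  [nat_lit 9, nat_lit 9, nat_lit 9, nat_lit 9, nat_lit 9, nat_lit 9, nat_lit 9, nat_lit 9, nat_lit 9, nat_lit 9, nat_lit 9, nat_lit 9]]

theorem cert : Cert T (R.map fun r => (r, 0)) ([].map fun y => (y, 0)) 14 8 [9, 10] :=
  ⟨by decide +kernel, ⟨[[(0, 0), (1, 0)], [(0, 1)]], [], by decide +kernel⟩, by decide +kernel, Or.inl ⟨rfl, all⟩⟩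

theorem bound {Γ : Type*} [Group Γ] {x : ℕ → Γ} (hR : ∀ r ∈ R, ev x r = 1) {n : ℕ}
    (h : CardLe x [] n) : CardLe x [9, 10] (12 * n) :=
  cert.cardLe rfl hR h

end Cfsg.Agent.L0.HNTc4
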