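import Cfsg.Agent.L0.CosetChain

/-! Generated coset table certificate. -/

set_option autoImplicit false
set_option maxRecDepth 100000

namespace Cfsg.Agent.L0.HNU2

noncomputable def t0 : BT := .node (.node (.leaf (nat_lit 0x26752600000000027e20000000000225b268000000002662000000700000000000000032221e100000068000062108000000001ae0000000580500000480000021097e000000000000040038000000001660000000000000000000000000311e000000028000020018000000010000)) (.leaf (nat_lit 0x72a800000000466f0000000000318b4980000000041f000000000002792180000000004aef000000000000063a00000000041ee000000000000046880000028a396b000000000000021500023580abae9))) (.leaf (nat_lit 0xa00031500b00000000031e90000000000000000000214809b96800000000000002130000000003ae500000000000002128000000002ae40000000009000545800000212a7e40000256228800212000000233aae30000008800000427800212008296300002120078003540000000002663))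

noncomputable def tree : BT := t0

noncomputable def row : ℕ → ℕ := rowOf tree (nat_lit 3) (nat_lit 7) (nat_lit 116) (nat_lit 0xfffffffffffffffffffffffffffff)

noncomputable def cols : List Col := [⟨nat_lit 15, nat_lit 0, [([nat_lit 63], nat_lit 0), ([nat_lit 15, nat_lit 15, nat_lit 15], nat_lit 0)]⟩,
  ⟨nat_lit 27, nat_lit 0, [([nat_lit 75], nat_lit 0)]⟩,
  ⟨nat_lit 51, nat_lit 0, [([nat_lit 87], nat_lit 0), ([nat_lit 51, nat_lit 51, nat_lit 51, nat_lit 51], nat_lit 0), ([nat_lit 27, nat_lit 87, nat_lit 75], nat_lit 0), ([nat_lit 15, nat_lit 51, nat_lit 51, nat_lit 63], nat_lit 0), ([nat_lit 51, nat_lit 63, nat_lit 51, nat_lit 15], nat_lit 0), ([nat_lit 63, nat_lit 51, nat_lit 15, nat_lit 51], nat_lit 0)]⟩,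
  ⟨nat_lit 63, nat_lit 0, [([nat_lit 51, nat_lit 15, nat_lit 51, nat_lit 51], nat_lit 0), ([nat_lit 15], nat_lit 0)]⟩,
  ⟨nat_lit 75, nat_lit 0, [([nat_lit 51, nat_lit 27, nat_lit 87], nat_lit 0)]⟩,
  ⟨nat_lit 87, nat_lit 0, [([nat_lit 51], nat_lit 0)]⟩]

noncomputable def erots : List (List ℕ × ℕ) := []

noncomputable def gens : List ℕ := []

noncomputable def chk : ℕ → Bool := chkRow1 row (nat_lit 22) (nat_lit 21) (nat_lit 0x1f) (nat_lit 0x1e0) (nat_lit 9) (nat_lit 0x7) (nat_lit 0) (nat_lit 0x1f) (nat_lit 5) (nat_lit 0x7f) (nat_lit 0x7000) (nat_lit 99) (nat_lit 111) (nat_lit 0) [] cols erots gens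

theorem b0 : allR chk 5 0 = true := by decide +kernel

noncomputable def T : CT := ⟨row, nat_lit 22, nat_lit 21, nat_lit 0x1f, nat_lit 0x1e0, nat_lit 9, nat_lit 0x7, nat_lit 0, nat_lit 0x1f, nat_lit 5, nat_lit 0x7f, nat_lit 0x7000, nat_lit 99, nat_lit 111, nat_lit 0, nat_lit 5, [], cols, erots, gens⟩

theorem all : ∀ c < 22, chk c = true := fun c hc =>
  allR_glue (d := 5) (n := 1) (forall_lt_succ' forall_lt_zero' b0) c (lt_of_lt_of_le hc (by norm_num))

/-- the relators used -/
def R : List (List ℕ) := [[nat_lit 0, nat_lit 4],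
  [nat_lit 1, nat_lit 5],
  [nat_lit 3, nat_lit 6],
  [nat_lit 3, nat_lit 3, nat_lit 3, nat_lit 3, nat_lit 3],
  [nat_lit 4, nat_lit 3, nat_lit 0, nat_lit 3, nat_lit 3],
  [nat_lit 6, nat_lit 5, nat_lit 3, nat_lit 1],
  [nat_lit 0, nat_lit 0, nat_lit 0, nat_lit 0]]

theorem cert : Cert T (R.map fun r => (r, 0)) ([].map fun y => (y, 0)) 15 12 [] :=
  ⟨by decide +kernel, ⟨[[(0, 0), (6, 0)], [(1, 0)], [(2, 0), (3, 0), (5, 2), (4, 1), (4, 3), (4, 4)], [(4, 0), (0, 1)], [(5, 1)], [(2, 1)]], [], by decide +kernel⟩, by decide +kernel, Or.inr all⟩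

/-- the traced words -/
def U : List (List ℕ) := [[nat_lit 3, nat_lit 4, nat_lit 4, nat_lit 3, nat_lit 0, nat_lit 0],
  [nat_lit 6, nat_lit 4, nat_lit 5, nat_lit 0, nat_lit 3, nat_lit 4, nat_lit 1, nat_lit 0]]

theorem mem {Γ : Type*} [Group Γ] {x : ℕ → Γ} (hR : ∀ r ∈ R, ev x r = 1) :
    ∀ u ∈ U, ev x u ∈ genL x [] :=
  cert.mem_genL hR (by decide +kernel)

end Cfsg.Agent.L0.HNU2
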