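import Cfsg.Agent.L0.CosetChain

/-! Generated coset table certificate. -/

set_option autoImplicit false
set_option maxRecDepth 100000

namespace Cfsg.Agent.L0.HNU3

noncomputable def t0 : BT := .node (.leaf (nat_lit 0x45000000000000056400000000026830017a000000000000000690000020e2448000000000000000000280002668100000000000000044800000006920e10000800000000004d40000000445360000000000000000000000000001d22000006000000000044400000000150e00000000000000000100000c00008000)) (.leaf (nat_lit 0x79c000000000000000004580000322500000000000000045800000009230e5))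

noncomputable def tree : BT := t0

noncomputable def row : ℕ → ℕ := rowOf tree (nat_lit 3) (nat_lit 7) (nat_lit 124) (nat_lit 0xfffffffffffffffffffffffffffffff)

noncomputable def cols : List Col := [⟨nat_lit 14, nat_lit 0, [([nat_lit 54], nat_lit 0), ([nat_lit 14, nat_lit 14, nat_lit 14], nat_lit 0), ([nat_lit 114, nat_lit 54, nat_lit 54, nat_lit 104, nat_lit 14], nat_lit 0)]⟩,
  ⟨nat_lit 34, nat_lit 0, [([nat_lit 34], nat_lit 0), ([nat_lit 14, nat_lit 34, nat_lit 14], nat_lit 0)]⟩,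
  ⟨nat_lit 54, nat_lit 0, [([nat_lit 14], nat_lit 0)]⟩,
  ⟨nat_lit 104, nat_lit 0, [([nat_lit 114], nat_lit 0)]⟩,
  ⟨nat_lit 114, nat_lit 0, [([nat_lit 104], nat_lit 0), ([nat_lit 34, nat_lit 104, nat_lit 54, nat_lit 54, nat_lit 34], nat_lit 0)]⟩]

noncomputable def erots : List (List ℕ × ℕ) := []

noncomputable def gens : List ℕ := []

noncomputable def chk : ℕ → Bool := chkRow0 row (nat_lit 10) (nat_lit 0xf) (nat_lit 0x70) (nat_lit 7) (nat_lit 0x7) (nat_lit 0) (nat_lit 0xf) (nat_lit 4) (nat_lit 0xff) (nat_lit 0x3000) [] cols gens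

theorem b0 : allR chk 4 0 = true := by decide +kernel

noncomputable def T : CT := ⟨row, nat_lit 10, nat_lit 10, nat_lit 0xf, nat_lit 0x70, nat_lit 7, nat_lit 0x7, nat_lit 0, nat_lit 0xf, nat_lit 4, nat_lit 0xff, nat_lit 0x3000, nat_lit 124, nat_lit 124, nat_lit 0, nat_lit 6, [], cols, erots, gens⟩

theorem all : ∀ c < 10, chk c = true := fun c hc =>
  allR_glue (d := 4) (n := 1) (forall_lt_succ' forall_lt_zero' b0) c (lt_of_lt_of_le hc (by norm_num))

/-- the relators used -/
def R : List (List ℕ) := [[nat_lit 0, nat_lit 4],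
  [nat_lit 2, nat_lit 2],
  [nat_lit 9, nat_lit 10],
  [nat_lit 2, nat_lit 0, nat_lit 2, nat_lit 0],
  [nat_lit 2, nat_lit 10, nat_lit 2, nat_lit 9, nat_lit 4, nat_lit 4],
  [nat_lit 0, nat_lit 0, nat_lit 0, nat_lit 0],
  [nat_lit 10, nat_lit 4, nat_lit 4, nat_lit 9, nat_lit 0, nat_lit 0]]

theorem cert : Cert T (R.map fun r => (r, 0)) ([].map fun y => (y, 0)) 14 10 [] :=
  ⟨by decide +kernel, ⟨[[(0, 0), (5, 0), (6, 5)], [(1, 0), (3, 0)], [(0, 1)], [(2, 0)], [(2, 1), (4, 1)]], [], by decide +kernel⟩, by decide +kernel, Or.inl ⟨rfl, all⟩⟩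

/-- the traced words -/
def U : List (List ℕ) := [[nat_lit 2, nat_lit 0, nat_lit 9, nat_lit 2, nat_lit 10, nat_lit 4]]

theorem mem {Γ : Type*} [Group Γ] {x : ℕ → Γ} (hR : ∀ r ∈ R, ev x r = 1) :
    ∀ u ∈ U, ev x u ∈ genL x [] :=
  cert.mem_genL hR (by decide +kernel)

end Cfsg.Agent.L0.HNU3
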