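import Cfsg.Agent.L0.CosetChain

/-! Generated coset table certificate. -/

set_option autoImplicit false
set_option maxRecDepth 100000

namespace Cfsg.Agent.L0.HNV1

noncomputable def t0 : BT := .node (.node (.node (.node (.node (.leaf (nat_lit 0x1300000000530f22604420400240000002248c0400400000003cc810898080070006908080060c30000002306000b210116600420200140012001028c0000008404001c00184980000280020001800100000)) (.leaf (nat_lit 0x9600000000217ca66f6012a00000000000144dec85ec02500000024e91bd004900000048a13cd1377298c217600005277a26ea0120000042eac91b50dd000000000023c000291ba0047004690ba004654373))) (.leaf (nat_lit 0x213100006866000b4000000004262cccc00164000000000001899800000000002c00003232f212e0000322f37546465a00ae4c5e0000425acccb001580000000110bd89961096000000003b183232b))) (.node (.leaf (nat_lit 0x3b521d52634423400000000667488c64846400e8000000e5118c00000000001c108ba331600370000003642184262c006a00000000422a8cc5000d0000000000001098a108a000000000019a2313)) (.leaf (nat_lit 0x2154237400003375846a6000000ea000000e908d480000000001cc854a19a8800000000000212ac13510000000021510000886a00000000042a000e510d3c0000000000024d7e11a78000000010a700003c34d))))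 (.node (.node (.node (.leaf (nat_lit 0x210d3325386180000004a0000004870c2c00008c7c8428cc80e18490848011990700111a308000021090021000032610000000400000003e70c1c0078902c0074841cd983000e1083800da90599306)) (.leaf (nat_lit 0x328ea396c471400004314a738000164e24000000008620de6ae1c3800000000000324c5c386009e248900002186b670a013a430c0000a51364e140270000086140002e1c200000000004d80005a384))) (.leaf (nat_lit 0x6c3248006b746880000000042860000f0d08000001a8000001a5e1a080000000109f19b33c33d000000000068213d766780000000000ceac88e4cf00000019800000195e19d8032121f8000109dbb33a))) (.node (.leaf (nat_lit 0x2125234b00000000546480000009842480000b0c8c000000000000012d519180000000109180002c322000000000000004a586420000424200920000a4c800000d50000000001518f80240023908f80232c31e)) (.leaf (nat_lit 0x85986d442d447080000000128da485a400000000021251b400418000004110b3cb3660081000000805268926cc00006afe0000000128d940000858c01fd099249b1000000001930803f4235f))))) (.node (.node (.node (.node (.leaf (nat_lit 0x240c0000620d3860a420c48100000e41468c148c54006884140064a182000c00000000108293304001700000000331022608420846220000662448c0c00588c3c0000840c998110818000000a800a12302))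 (.leaf (nat_lit 0x239a269921830000b8704000000000134000168e048e60000086040266e1c000000000000010c0db3800000218148840000b2700000000000130000168dfc85f800000000025e91be90be8000000019ca5237c))) (.leaf (nat_lit 0x6300000062523f726740000000042740000d0ce40184000084e59979a19c000000000030000032338005f0000000021376666c00bc00000000a470c4cd401740000017108d58999909980000000002db2332))) (.node (.leaf (nat_lit 0x211f2741004525405463c46884a84423c6a86b0c74847494f00110d4f9518e00000021800000212c31b0000241e0041211c56636000042380080843ca4c6c0000000000fc846d598d0000001f001e801e2a31a)) (.leaf (nat_lit 0x215d0000886b842b800fa00f800f708d6c856c000000024dea11ad003d00000000212d413580079000000002158866ae00f000000000000104d5c0000000001dc855a19aa80000000003b212bc1355)))) (.node (.node (.node (.leaf (nat_lit 0x32211346624006200000060842c84c4800bc00008448ccb12188908900000017199522311002d002c2111002b48620000000540052005088c4000000000009c8438d98680001087001300001930d)) (.leaf (nat_lit 0x553a0001113db0e60000000008650000321c98000000010c9b4cfe43920000000021920000c872200000000692e000188e4000000000ca419a5711c7004f8000000022c86138d)))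 (.leaf (nat_lit 0x710000746980000000042980000f0d2c00009d380002153de1a50038000010a500003c349214a0000006f0000746920000429200dc0000e4d2000008db4851c0001e1a30000000000000036bc345))) (.node (.leaf (nat_lit 0x212b3430000000006465442540000000066a2c8ca401540000000084a599940000002a00000029b2328005200000000542e62650000000a2000000a0c8c9c013c909c000084995992802710930026a913a9325)) (.leaf (nat_lit 0x8b0000a46e642e400000000000148dc4000085c40228000249b800000000004490b7cb36e216f008832700087946dc000042de010c000124db8000091b885b4000261b6000011c290b600004c36b)))))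

noncomputable def tree : BT := t0

noncomputable def row : ℕ → ℕ := rowOf tree (nat_lit 3) (nat_lit 7) (nat_lit 83) (nat_lit 0x7ffffffffffffffffffff)

noncomputable def cols : List Col := [⟨nat_lit 19, nat_lit 0, [([nat_lit 51], nat_lit 0), ([nat_lit 19, nat_lit 19, nat_lit 19], nat_lit 0), ([nat_lit 35, nat_lit 19, nat_lit 19, nat_lit 67, nat_lit 19], nat_lit 0), ([nat_lit 67, nat_lit 19, nat_lit 19, nat_lit 35, nat_lit 19], nat_lit 0), ([nat_lit 19, nat_lit 35, nat_lit 19, nat_lit 19, nat_lit 67], nat_lit 0), ([nat_lit 19, nat_lit 67, nat_lit 19, nat_lit 19, nat_lit 35], nat_lit 0), ([nat_lit 35, nat_lit 51, nat_lit 67, nat_lit 19, nat_lit 35, nat_lit 51, nat_lit 67, nat_lit 19, nat_lit 35, nat_lit 51, nat_lit 67], nat_lit 0), ([nat_lit 35, nat_lit 19, nat_lit 35, nat_lit 19, nat_lit 35, nat_lit 19, nat_lit 35, nat_lit 19, nat_lit 35, nat_lit 19, nat_lit 35, nat_lit 19, nat_lit 35, nat_lit 19, nat_lit 35], nat_lit 0), ([nat_lit 35, nat_lit 19, nat_lit 35, nat_lit 35,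 nat_lit 35, nat_lit 19, nat_lit 35, nat_lit 19, nat_lit 35, nat_lit 35, nat_lit 35, nat_lit 19, nat_lit 35, nat_lit 19, nat_lit 35, nat_lit 35, nat_lit 35, nat_lit 19, nat_lit 35, nat_lit 19, nat_lit 35, nat_lit 35, nat_lit 35], nat_lit 0)]⟩,
  ⟨nat_lit 35, nat_lit 0, [([nat_lit 67], nat_lit 0), ([nat_lit 35, nat_lit 35, nat_lit 35, nat_lit 35, nat_lit 35], nat_lit 0), ([nat_lit 51, nat_lit 67, nat_lit 19, nat_lit 35, nat_lit 51, nat_lit 67, nat_lit 19, nat_lit 35, nat_lit 51, nat_lit 67, nat_lit 19], nat_lit 0), ([nat_lit 35, nat_lit 35, nat_lit 19, nat_lit 35, nat_lit 19, nat_lit 35, nat_lit 35, nat_lit 35, nat_lit 19, nat_lit 35, nat_lit 19, nat_lit 35, nat_lit 35, nat_lit 35, nat_lit 19, nat_lit 35, nat_lit 19, nat_lit 35, nat_lit 35, nat_lit 35, nat_lit 19, nat_lit 35, nat_lit 19], nat_lit 0)]⟩,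
  ⟨nat_lit 51, nat_lit 0, [([nat_lit 19], nat_lit 0), ([nat_lit 67, nat_lit 19, nat_lit 35, nat_lit 51, nat_lit 67, nat_lit 19, nat_lit 35, nat_lit 51, nat_lit 67, nat_lit 19, nat_lit 35], nat_lit 0)]⟩,
  ⟨nat_lit 67, nat_lit 0, [([nat_lit 35], nat_lit 0)]⟩]

noncomputable def erots : List (List ℕ × ℕ) := []

noncomputable def gens : List ℕ := []

noncomputable def chk : ℕ → Bool := chkRow0 row (nat_lit 159) (nat_lit 0xff) (nat_lit 0xf00) (nat_lit 12) (nat_lit 0xf) (nat_lit 0) (nat_lit 0xff) (nat_lit 8) (nat_lit 0x7f) (nat_lit 0x78000) [] cols gens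

theorem b0 : allR chk 8 0 = true := by decide +kernel

noncomputable def T : CT := ⟨row, nat_lit 159, nat_lit 159, nat_lit 0xff, nat_lit 0xf00, nat_lit 12, nat_lit 0xf, nat_lit 0, nat_lit 0xff, nat_lit 8, nat_lit 0x7f, nat_lit 0x78000, nat_lit 83, nat_lit 83, nat_lit 0, nat_lit 24, [], cols, erots, gens⟩

theorem all : ∀ c < 159, chk c = true := fun c hc =>
  allR_glue (d := 8) (n := 1) (forall_lt_succ' forall_lt_zero' b0) c (lt_of_lt_of_le hc (by norm_num))

/-- the relators used -/
def R : List (List ℕ) := [[nat_lit 0, nat_lit 2],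
  [nat_lit 1, nat_lit 3],
  [nat_lit 1, nat_lit 1, nat_lit 1, nat_lit 1, nat_lit 1, nat_lit 1],
  [nat_lit 0, nat_lit 0, nat_lit 1, nat_lit 0, nat_lit 0, nat_lit 3],
  [nat_lit 2, nat_lit 3, nat_lit 0, nat_lit 1, nat_lit 2, nat_lit 3, nat_lit 0, nat_lit 1, nat_lit 2, nat_lit 3, nat_lit 0, nat_lit 1],
  [nat_lit 0, nat_lit 1, nat_lit 0, nat_lit 1, nat_lit 0, nat_lit 1, nat_lit 0, nat_lit 1, nat_lit 0, nat_lit 1, nat_lit 0, nat_lit 1, nat_lit 0, nat_lit 1, nat_lit 0, nat_lit 1],
  [nat_lit 0, nat_lit 1, nat_lit 0, nat_lit 1, nat_lit 1, nat_lit 1, nat_lit 0, nat_lit 1, nat_lit 0, nat_lit 1, nat_lit 1, nat_lit 1, nat_lit 0, nat_lit 1, nat_lit 0, nat_lit 1, nat_lit 1, nat_lit 1, nat_lit 0, nat_lit 1, nat_lit 0, nat_lit 1, nat_lit 1, nat_lit 1],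
  [nat_lit 0, nat_lit 0, nat_lit 0, nat_lit 0]]

theorem cert : Cert T (R.map fun r => (r, 0)) ([].map fun y => (y, 0)) 19 16 [] :=
  ⟨by decide +kernel, ⟨[[(0, 0), (7, 0), (3, 1), (3, 4), (3, 0), (3, 3), (4, 2), (5, 0), (6, 0)], [(1, 0), (2, 0), (4, 3), (6, 3)], [(0, 1), (4, 0)], [(1, 1)]], [], by decide +kernel⟩, by decide +kernel, Or.inl ⟨rfl, all⟩⟩

/-- the traced words -/
def U : List (List ℕ) := [[nat_lit 1, nat_lit 2, nat_lit 3, nat_lit 2, nat_lit 1, nat_lit 2, nat_lit 3, nat_lit 2, nat_lit 1, nat_lit 2, nat_lit 3, nat_lit 2, nat_lit 1, nat_lit 2, nat_lit 3, nat_lit 2, nat_lit 1, nat_lit 2, nat_lit 3, nat_lit 2, nat_lit 1, nat_lit 2, nat_lit 3, nat_lit 2],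
  [nat_lit 3, nat_lit 3, nat_lit 3, nat_lit 3, nat_lit 3, nat_lit 3],
  [nat_lit 1, nat_lit 2, nat_lit 3, nat_lit 2, nat_lit 1, nat_lit 2, nat_lit 3, nat_lit 2, nat_lit 1, nat_lit 2, nat_lit 3, nat_lit 2, nat_lit 3, nat_lit 2, nat_lit 3, nat_lit 2, nat_lit 1, nat_lit 2, nat_lit 3, nat_lit 2, nat_lit 1, nat_lit 2, nat_lit 3, nat_lit 2, nat_lit 1, nat_lit 1],
  [nat_lit 1, nat_lit 2, nat_lit 3, nat_lit 2, nat_lit 3, nat_lit 2, nat_lit 3, nat_lit 2, nat_lit 3, nat_lit 2, nat_lit 3, nat_lit 2, nat_lit 3, nat_lit 2, nat_lit 3, nat_lit 2, nat_lit 3, nat_lit 3],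
  [nat_lit 1, nat_lit 2, nat_lit 3, nat_lit 2, nat_lit 1, nat_lit 1, nat_lit 1, nat_lit 2, nat_lit 3, nat_lit 2, nat_lit 1, nat_lit 1, nat_lit 1, nat_lit 2, nat_lit 3, nat_lit 2, nat_lit 1, nat_lit 1, nat_lit 1, nat_lit 2, nat_lit 3, nat_lit 2, nat_lit 1, nat_lit 1],
  [nat_lit 1, nat_lit 2, nat_lit 3, nat_lit 2, nat_lit 1, nat_lit 2, nat_lit 3, nat_lit 2, nat_lit 3, nat_lit 2, nat_lit 3, nat_lit 2, nat_lit 1, nat_lit 2, nat_lit 3, nat_lit 2, nat_lit 3, nat_lit 3, nat_lit 0, nat_lit 1, nat_lit 0, nat_lit 3, nat_lit 3, nat_lit 3, nat_lit 0, nat_lit 1, nat_lit 0, nat_lit 3, nat_lit 3, nat_lit 3],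
  [nat_lit 1, nat_lit 2, nat_lit 3, nat_lit 2, nat_lit 1, nat_lit 2, nat_lit 3, nat_lit 2, nat_lit 3, nat_lit 3, nat_lit 0, nat_lit 1, nat_lit 0, nat_lit 3, nat_lit 3, nat_lit 2, nat_lit 3, nat_lit 2, nat_lit 1, nat_lit 2, nat_lit 3, nat_lit 2, nat_lit 3, nat_lit 3, nat_lit 0, nat_lit 1, nat_lit 0, nat_lit 3, nat_lit 3, nat_lit 3],
  [nat_lit 1, nat_lit 2, nat_lit 3, nat_lit 2, nat_lit 1, nat_lit 2, nat_lit 3, nat_lit 2, nat_lit 1, nat_lit 1, nat_lit 1, nat_lit 2, nat_lit 3, nat_lit 2, nat_lit 1, nat_lit 2, nat_lit 3, nat_lit 2, nat_lit 1, nat_lit 1, nat_lit 0, nat_lit 1, nat_lit 0, nat_lit 1, nat_lit 0, nat_lit 1, nat_lit 0, nat_lit 1]]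

theorem mem {Γ : Type*} [Group Γ] {x : ℕ → Γ} (hR : ∀ r ∈ R, ev x r = 1) :
    ∀ u ∈ U, ev x u ∈ genL x [] :=
  cert.mem_genL hR (by decide +kernel)

end Cfsg.Agent.L0.HNV1
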