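import Cfsg.Agent.L0.HN.U1
import Cfsg.Agent.L0.HN.U2
import Cfsg.Agent.L0.HN.U3
import Cfsg.Agent.L0.HN.V1
import Cfsg.Agent.L0.HN.V2
import Cfsg.Agent.L0.HN.V3
import Cfsg.Agent.L0.HN.Tc1
import Cfsg.Agent.L0.HN.Tc2
import Cfsg.Agent.L0.HN.Tc3
import Cfsg.Agent.L0.HN.Tc4
import Cfsg.Agent.L0.HN.Ch
import Cfsg.Agent.L0.HN.Ch0
import Cfsg.Agent.L0.HN.Clo
import Cfsg.Agent.L0.Mu.HNP2
import Cfsg.Agent.L0.Mu.HNP3
import Cfsg.Agent.L0.Mu.HNP5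
import Cfsg.Agent.L0.DceY
import Cfsg.Prelude.Def_Spor_HN

/-! The presented group HN: finiteness and the multiplier. -/

set_option autoImplicit false
set_option maxRecDepth 100000
set_option linter.style.haveILetI false

namespace Cfsg.Agent.L0.HNG

open Cfsg.Spor Dce

/-- letter of a generator -/
def idx : HN.Gen → ℕ
  | .x => 0
  | .y => 1
  | .z => 2
  | .t => 3

/-- inverse letters -/
def iv (i : ℕ) : ℕ := List.getD [4, 5, 2, 6, 0, 1, 3] i 0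

/-- all generators -/
def all : List HN.Gen := [.x, .y, .z, .t]

/-- the letters -/
def x (i : ℕ) : HN := ([PresentedGroup.of .x, PresentedGroup.of .y, PresentedGroup.of .z,
  PresentedGroup.of .t, (PresentedGroup.of .x)⁻¹, (PresentedGroup.of .y)⁻¹,
  (PresentedGroup.of .t)⁻¹] : List HN).getD i 1

theorem hall : ∀ q, q ∈ all := by intro q; cases q <;> decide

theorem hiv : ∀ q, x (iv (idx q)) = (PresentedGroup.of q)⁻¹ := by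
  intro q
  cases q
  case z =>
    have := PresentedGroup.one_of_mem (rels := coxRelators HN.edges ∪ {r | r ∈ HN.extra})
      (x := HN.z ^ 2) (Or.inr (by simp [HN.extra]))
    rw [map_pow, sq] at this
    exact eq_inv_of_mul_eq_one_left this
  all_goals rfl

/-- the defining relators -/
def R : List (List ℕ) := [[1, 1, 1, 1, 1, 1],
    [0, 0, 1, 0, 0, 5],
    [4, 5, 0, 1, 4, 5, 0, 1, 4, 5, 0, 1],
    [4, 1, 1, 0, 1, 1, 1, 4, 1, 1, 0, 1, 1, 1, 4, 1, 1, 0, 1, 1, 1],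
    [0, 1, 0, 1, 0, 1, 0, 1, 0, 1, 0, 1, 0, 1, 0, 1],
    [0, 1, 0, 1, 1, 1, 0, 1, 0, 1, 1, 1, 0, 1, 0, 1, 1, 1, 0, 1, 0, 1, 1, 1],
    [2, 2],
    [2, 0, 2, 0],
    [2, 1, 4, 5, 5, 4, 5, 4, 5, 2, 1, 0, 1, 0, 1, 1, 0, 5, 4, 4],
    [2, 5, 4, 5, 4, 5, 5, 5, 2, 1, 1, 1, 0, 1, 0, 1, 0, 5, 4, 5, 4, 5, 5, 5, 2, 1, 1, 1, 0, 1, 0, 1, 0, 5, 4, 5, 4, 5, 5, 5, 2, 1, 1, 1, 0, 1, 0, 1, 0],
    [3, 3, 3, 3, 3],
    [4, 3, 0, 3, 3],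
    [6, 5, 3, 1],
    [2, 3, 2, 3, 2, 3],
    [0, 4],
    [4, 0],
    [1, 5],
    [5, 1],
    [2, 2],
    [2, 2],
    [3, 6],
    [6, 3]]

theorem isPres : IsPres x 7 R :=
  isPres_cox (idx := idx) (iv := fun q => iv (idx q)) hall (by intro q; cases q <;> rfl) hiv
    (by decide +kernel) (by decide +kernel) (by decide +kernel)
    (by decide +kernel) (by decide +kernel)

/-! ### the group on `x, y` -/

theorem iv0 : ∀ q < 4, PG.gen 4 HN0.R ((q + 2) % 4) = (PG.gen 4 HN0.R q)⁻¹ :=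
  iv_of_rel (R := HN0.R) (fun _ => PG.rel) (by decide +kernel)

/-- further letters -/
def E0 (i : ℕ) : List ℕ := List.getD [[0],
    [1],
    [2],
    [3],
    [0, 1, 0, 3],
    [1, 2, 3, 2],
    [1, 1],
    [3, 3]] i []

theorem card0 : Finite (PG 4 HN0.R) ∧ Nat.card (PG 4 HN0.R) ≤ 1512000 := by
  have h := forall_app (fun _ => PG.rel (R := HN0.R))
    (tr_one (HNV1.mem (cons_all iv0 (fun _ => PG.rel (R := HN0.R)) (by decide +kernel))))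
  have := ((HNV2.bound (cons_ext iv0 h E0 (by decide +kernel))
    (HNV3.bound (cons_ext iv0 h E0 (by decide +kernel)) (cardLe_nil _))).ext
      (l' := List.range 4) (by decide +kernel)).top (PG.genL_range _ _)
  simpa using this

/-- relators of the group on `x, y` -/
def D0 : List (List ℕ) := [[0, 1, 0, 1, 0, 1, 1, 0, 3, 0, 1, 0, 1, 0, 1, 1, 0, 3, 0, 1, 0, 1, 0, 1, 1, 0, 3, 0, 1, 0, 1, 0, 1, 1, 0, 3, 0, 1, 0, 1, 0, 1, 1, 0, 3, 0, 1, 0, 1, 0, 1, 1, 0, 3, 0, 1, 0, 1, 0, 1, 1, 0, 3, 0, 1, 0, 1, 0, 1, 1, 0, 3, 0, 1, 0, 1, 0, 1, 1, 0, 3, 0, 1, 0, 1, 0, 1, 1, 0, 3, 0, 1, 0, 1, 0, 1, 1, 0, 3, 0, 1, 0, 1, 0, 1, 1, 0, 3, 0, 1, 0, 1, 0, 1, 1, 0, 3, 0, 1, 0, 1, 0, 1, 1, 0, 3, 0, 1, 0, 1, 0, 1, 1, 0, 3, 0, 1, 0, 1, 0, 1, 1, 0, 3, 0, 1, 0, 1, 0, 1, 1, 0, 3, 0, 1, 0, 1, 0, 1, 1, 0, 3, 0, 1, 0, 1, 0, 1, 1, 0, 3, 0, 1, 0, 1, 0, 1, 1, 0, 3,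 0, 1, 0, 1, 0, 1, 1, 0, 3],
    [0, 0, 1, 0, 1, 0, 1, 1, 0, 3, 0, 1, 0, 1, 0, 1, 1, 0, 3, 0, 1, 0, 1, 0, 1, 1, 0, 3, 0, 1, 0, 1, 0, 1, 1, 0, 3, 0, 1, 0, 1, 0, 1, 1, 0, 3, 0, 1, 0, 1, 0, 1, 1, 0, 3, 0, 1, 0, 1, 0, 1, 1, 0, 0, 1, 0, 1, 1, 0, 3, 0, 1, 0, 1, 0, 1, 1, 0, 3, 0, 1, 0, 1, 0, 1, 1, 0, 3, 0, 1, 0, 1, 0, 1, 1, 0, 3, 0, 1, 0, 1, 0, 1, 1, 0, 3, 0, 1, 0, 1, 0, 1, 1, 0, 3, 0, 1, 0, 1, 0, 1, 1, 0, 3],
    [1, 0, 1, 0, 1, 1, 0, 3, 0, 1, 0, 1, 0, 1, 1, 0, 3, 0, 1, 0, 1, 0, 1, 1, 0, 3, 0, 1, 0, 1, 0, 1, 1, 0, 3, 0, 1, 0, 1, 0, 1, 1, 0, 3, 0, 1, 0, 1, 0, 1, 1, 0, 3, 0, 1, 0, 1, 0, 1, 1, 0, 3, 0, 0, 1, 0, 1, 0, 1, 1, 0, 3, 0, 1, 0, 1, 0, 1, 1, 0, 3, 0, 1, 0, 1, 0, 1, 1, 0, 3, 0, 1, 0, 1, 0, 1, 1, 0, 3, 0, 1, 0, 1, 0, 1, 1, 0, 3, 0, 1, 0, 1, 0, 1, 1, 0, 3, 0, 1, 0, 1, 0, 1, 1, 0, 3],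
    [1, 0, 1, 0, 1, 0, 1, 1, 0, 3, 0, 1, 0, 1, 0, 1, 1, 0, 3, 0, 1, 0, 1, 0, 1, 1, 0, 3, 0, 1, 0, 1, 0, 1, 1, 0, 3, 0, 1, 0, 1, 0, 1, 1, 0, 3, 0, 1, 0, 1, 0, 1, 1, 0, 3, 0, 1, 0, 1, 0, 1, 1, 0, 3, 2, 3, 3, 2, 3, 2, 3, 2, 1, 2, 3, 3, 2, 3, 2, 3, 2, 1, 2, 3, 3, 2, 3, 2, 3, 2, 1, 2, 3, 3, 2, 3, 2, 3, 2, 1, 2, 3, 3, 2, 3, 2, 3, 2, 1, 2, 3, 3, 2, 3, 2, 3, 2, 1, 2, 3, 3, 2, 3, 2, 3, 2],
    [3, 0, 1, 0, 1, 0, 1, 1, 0, 3, 0, 1, 0, 1, 0, 1, 1, 0, 3, 0, 1, 0, 1, 0, 1, 1, 0, 3, 0, 1, 0, 1, 0, 1, 1, 0, 3, 0, 1, 0, 1, 0, 1, 1, 0, 3, 0, 1, 0, 1, 0, 1, 1, 0, 3, 0, 1, 0, 1, 0, 1, 1, 0, 1, 2, 3, 3, 2, 3, 2, 3, 2, 1, 2, 3, 3, 2, 3, 2, 3, 2, 1, 2, 3, 3, 2, 3, 2, 3, 2, 1, 2, 3, 3, 2, 3, 2, 3, 2, 1, 2, 3, 3, 2, 3, 2, 3, 2, 1, 2, 3, 3, 2, 3, 2, 3, 2, 1, 2, 3, 3, 2, 3, 2, 3, 2],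
    [1, 2, 3, 3, 2, 3, 2, 3, 2, 2, 1, 0, 1, 0, 1, 1, 0, 3, 0, 0],
    [1, 0, 1, 0, 1, 1, 0, 0, 1, 0, 1, 1, 0, 0, 1, 0, 1, 1, 0, 0, 1, 0, 1, 1, 0, 0, 1, 0, 1, 1, 0, 0, 1, 0, 1, 1, 0, 0, 1, 0, 1, 1, 0, 0, 1, 0, 1, 1, 0, 0, 1, 0, 1, 1, 0, 0, 1, 0, 1, 1, 0, 0, 1, 0, 1, 1, 0, 0, 1, 0, 1, 1, 0, 3],
    [1, 2, 3, 3, 2, 3, 2, 3, 2, 1, 0, 1, 0, 1, 1, 0, 3, 2, 1, 2, 3, 3, 2, 3, 2, 3, 2, 1, 0, 1, 0, 1, 1, 0, 3, 2],
    [1, 2, 3, 3, 2, 3, 2, 2, 3, 3, 2, 3, 2, 3, 2, 1, 0, 1, 0, 1, 1, 0, 0, 1, 0, 1, 1, 0, 3, 2, 1, 2, 3, 3, 2, 3, 2, 2, 3, 3, 2, 3, 2, 3, 2, 1, 0, 1, 0, 1, 1, 0, 0, 1, 0, 1, 1, 0, 3, 2]]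

theorem rel0 : ∀ r ∈ D0, ev (PG.gen 4 HN0.R) r = 1 := by
  haveI := card0.1
  obtain ⟨A, hA⟩ := HNAct0.ex
  exact (HNCh0.ch hA card0.2).1.ev_eq_one hA (by decide +kernel) (by decide +kernel)

/-- the letters of the enumeration -/
def t (i : ℕ) : List ℕ := List.getD [[0],
    [1],
    [2],
    [4, 1, 0],
    [4],
    [5],
    [4, 5, 0],
    [2, 1, 2],
    [2, 5, 2],
    [1, 0, 1, 0, 1, 1, 0, 5],
    [1, 4, 5, 5, 4, 5, 4, 5],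
    [3],
    [6]] i []

/-- the relators in the letters of the enumeration -/
def K : List (List ℕ) := [[0, 4],
    [1, 5],
    [2, 2],
    [3, 6],
    [4, 0],
    [5, 1],
    [6, 3],
    [7, 8],
    [8, 7],
    [9, 10],
    [10, 9],
    [1, 1, 1, 1, 1, 1],
    [0, 0, 1, 0, 0, 5],
    [4, 5, 0, 1, 4, 5, 0, 1, 4, 5, 0, 1],
    [4, 1, 1, 0, 1, 1, 1, 4, 1, 1, 0, 1, 1, 1, 4, 1, 1, 0, 1, 1, 1],
    [0, 1, 0, 1, 0, 1, 0, 1, 0, 1, 0, 1, 0, 1, 0, 1],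
    [0, 1, 0, 1, 1, 1, 0, 1, 0, 1, 1, 1, 0, 1, 0, 1, 1, 1, 0, 1, 0, 1, 1, 1],
    [2, 0, 2, 0],
    [2, 10, 2, 9, 4, 4],
    [2, 5, 4, 5, 4, 5, 5, 5, 2, 1, 1, 1, 0, 1, 0, 1, 0, 5, 4, 5, 4, 5, 5, 5, 2, 1, 1, 1, 0, 1, 0, 1, 0, 5, 4, 5, 4, 5, 5, 5, 2, 1, 1, 1, 0, 1, 0, 1, 0],
    [0, 0, 0, 0],
    [10, 4, 4, 9, 0, 0],
    [9, 9, 9, 9, 9, 9, 9, 9, 9, 9, 9, 9],
    [10, 4, 9, 4, 10, 4, 9, 4],
    [10, 10, 4, 9, 9, 4, 10, 10, 4, 9, 9, 4],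
    [0, 9, 0, 9, 0, 9, 0, 9, 0, 9, 0, 9, 0, 9],
    [6, 4, 1, 0],
    [8, 2, 1, 2],
    [10, 1, 0, 1, 0, 1, 1, 0, 5],
    [11, 12],
    [12, 11],
    [11, 11, 11, 11, 11],
    [4, 11, 0, 11, 11],
    [12, 5, 11, 1],
    [2, 11, 2, 11, 2, 11],
    [11, 4, 4, 11, 0, 0],
    [12, 6, 11, 3]]

theorem relK : ∀ r ∈ K, ev (fun i => ev x (t i)) r = 1 := by
  have hi : ∀ q < 7, x (iv q) = (x q)⁻¹ := iv_of_rel isPres.rel (by decide +kernel)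
  have h1 := forall_app isPres.rel (tr_one (HNU1.mem (cons_all hi isPres.rel (by decide +kernel))))
  have h2 := forall_app h1 (tr_one (HNU2.mem (cons_all hi h1 (by decide +kernel))))
  have h3 := forall_app h2 (rel_hom (k := 4) (E := fun i => List.getD [[0], [1], [4], [5]] i [])
    (PG.lift _ (by decide +kernel) (cons_ext hi h1 _ (L := HN0.R) (by decide +kernel)))
    (fun i hi => PG.lift_gen_apply _ _ _ hi) rel0 (by decide +kernel))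
  have hY : ∀ q < 13, ev x (t (HNFB.P.iv q)) = (ev x (t q))⁻¹ :=
    iv_of_rel (y := fun i => ev x (t i)) (cons_ext hi h3 t
      (L := (List.range 13).map fun q => [q, HNFB.P.iv q]) (by decide +kernel)) (by decide +kernel)
  have h4 := tr_one (HNU3.mem (cons_ext hi h3 t (by decide +kernel))) _ List.mem_cons_self
  let w : List ℕ := (List.replicate 7 [0, 9]).flatten
  have h5 := cons_ext hi h3 t (L := [w ++ w ++ w, [0] ++ w ++ [4] ++ w, [4] ++ w ++ [0] ++ w,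
    [1] ++ w ++ [5] ++ (w.map HNFB.P.iv).reverse, [5] ++ w ++ [1] ++ (w.map HNFB.P.iv).reverse,
    [2, 5, 4, 5, 4, 5, 5, 5, 2, 1, 1, 1, 0, 1, 0, 1, 0, 5, 4, 5, 4, 5, 5, 5, 2, 1, 1, 1, 0, 1, 0, 1, 0, 5, 4, 5, 4, 5, 5, 5, 2, 1, 1, 1, 0, 1, 0, 1, 0], [2, 2]]) (by decide +kernel)
  have h6 : ev (fun i => ev x (t i)) w = 1 := by
    generalize hy : (fun i => ev x (t i)) = y at h4 h5
    have hY' : ∀ q < 13, y (HNFB.P.iv q) = (y q)⁻¹ := hy ▸ hY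
    have i4 : y 4 = (y 0)⁻¹ := hY' 0 (by norm_num)
    have i5 : y 5 = (y 1)⁻¹ := hY' 1 (by norm_num)
    have i10 : y 10 = (y 9)⁻¹ := hY' 9 (by norm_num)
    simp only [List.forall_mem_cons, ev_append, ev_singleton,
      ev_inv_word hY' (w := w) (by decide +kernel), i4, i5] at h5
    obtain ⟨a1, a2, a3, a4, a5, a6, a7, -⟩ := h5
    have a8 : Commute (y 2) (ev y w) := by
      rw [ev_replicate_flatten]
      refine Commute.pow_right ?_ _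
      have b1 : y 2 * y 2 = 1 := by simpa using a7
      have b2 : y 2 * (y 0 * y 9) * y 2 * (y 0 * y 9)⁻¹ = 1 := by simpa [i4, i10, mul_assoc] using h4
      rw [mul_inv_eq_one] at b2
      rw [Commute, SemiconjBy, show ev y [0, 9] = y 0 * y 9 by simp]
      nth_rewrite 2 [← b2]
      rw [mul_assoc _ (y 2), b1, mul_one]
    have a9 := semiconj_ev (y := y) (c := ev y w) (fun q => if q = 0 ∨ q = 4 then -1 else 1)
      (r := [2, 5, 4, 5, 4, 5, 5, 5, 2, 1, 1, 1, 0, 1, 0, 1, 0, 5, 4, 5, 4, 5, 5, 5, 2, 1, 1, 1, 0, 1, 0, 1, 0, 5, 4, 5, 4, 5, 5, 5, 2, 1, 1, 1, 0, 1, 0, 1, 0]) fun q hq => by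
      have : q = 0 ∨ q = 4 ∨ q = 1 ∨ q = 5 ∨ q = 2 := by revert q; decide +kernel
      rcases this with rfl | rfl | rfl | rfl | rfl
      · simpa [mul_inv_eq_iff_eq_mul] using eq_inv_of_mul_eq_one_left a2
      · simpa [i4, ← mul_inv_eq_iff_eq_mul] using eq_inv_of_mul_eq_one_left a3
      · simpa [mul_inv_eq_iff_eq_mul] using a4
      · simpa [i5, ← mul_inv_eq_iff_eq_mul, mul_inv_eq_one] using a5
      · simpa using a8.eq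
    rw [a6, show List.prod (α := ℤ) _ = -1 by decide +kernel, one_mul, mul_one, zpow_neg_one] at a9
    nth_rewrite 1 [a9] at a1
    simpa using a1
  exact cons_ext hi (forall_app h3 (L := [w.flatMap t]) (by simpa [ev_flatMap] using h6)) t
    (by decide +kernel)

/-! ### the group on `x, y, z` -/

theorem ivH : ∀ q < 11, PG.gen 11 HNH.R (HNFB.P.iv q) = (PG.gen 11 HNH.R q)⁻¹ :=
  iv_of_rel (R := HNH.R) (fun _ => PG.rel) (by decide +kernel)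

/-- further letters -/
def E (i : ℕ) : List ℕ := List.getD [[0],
    [1],
    [2],
    [3],
    [4],
    [5],
    [6],
    [7],
    [8],
    [9],
    [10],
    [1, 1, 1, 0, 1, 0, 1],
    [5, 4, 5, 4, 5, 5, 5]] i []

theorem card_H : Finite (PG 11 HNH.R) ∧ Nat.card (PG 11 HNH.R) ≤ 177408000 := by
  have h := forall_app (fun _ => PG.rel (R := HNH.R))
    (tr_one (HNU3.mem (cons_all ivH (fun _ => PG.rel (R := HNH.R)) (by decide +kernel))))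
  have := ((HNTc1.bound (cons_ext ivH h E (by decide +kernel))
    (HNTc2.bound (cons_ext ivH h E (by decide +kernel))
    (HNTc3.bound (cons_ext ivH h E (by decide +kernel))
    (HNTc4.bound (cons_ext ivH h E (by decide +kernel)) (cardLe_nil _))))).ext
      (l' := List.range 11) (by decide +kernel)).top (PG.genL_range _ _)
  simpa using this

instance : Finite (PG 11 HNH.R) := card_H.1

theorem exists_act : ∃ A : RAct (PG 11 HNH.R) 1408, A.Tab (PG.gen 11 HNH.R) 11 HNAct.T ∧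
    A.IsBase HNCh.B ∧ Nat.card (PG 11 HNH.R) = 177408000 := by
  obtain ⟨A, hA⟩ := HNAct.ex
  exact ⟨A, hA, HNCh.ch hA card_H.2⟩

theorem perfect_N : commutator (subL (PG.gen 11 HNH.R) HNN.l) = ⊤ := by
  obtain ⟨A, ht, hb, -⟩ := exists_act
  exact perfect_subL ivH (hb.ev_eq_one ht (S := [[0, 4],
    [1, 5],
    [7, 8],
    [1, 1, 1, 1, 1, 1],
    [7, 7, 7, 7, 7, 7],
    [0, 0, 0, 0],
    [4, 1, 1, 0, 1, 1, 1, 4, 1, 1, 0, 1, 1, 1, 4, 1, 1, 0, 1, 1, 1],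
    [0, 1, 0, 1, 0, 1, 0, 1, 0, 1, 0, 1, 0, 1, 0, 1],
    [0, 7, 7, 4, 7, 7, 7, 0, 7, 7, 4, 7, 7, 7, 0, 7, 7, 4, 7, 7, 7],
    [4, 7, 4, 7, 4, 7, 4, 7, 4, 7, 4, 7, 4, 7, 4, 7],
    [8, 0, 8, 0, 8, 8, 8, 1, 1, 1, 0, 1, 0, 1, 0, 5, 4, 5, 4, 5, 5, 5, 7, 7, 7, 4, 7, 4, 7, 4, 8, 0, 8, 0, 8, 8, 8, 1, 1, 1, 0, 1, 0, 1, 0]])
    (by decide +kernel) (by decide +kernel)) (R := [[0, 3],
    [1, 4],
    [2, 5],
    [1, 1, 1, 1, 1, 1],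
    [2, 2, 2, 2, 2, 2],
    [0, 0, 0, 0],
    [3, 1, 1, 0, 1, 1, 1, 3, 1, 1, 0, 1, 1, 1, 3, 1, 1, 0, 1, 1, 1],
    [0, 1, 0, 1, 0, 1, 0, 1, 0, 1, 0, 1, 0, 1, 0, 1],
    [0, 2, 2, 3, 2, 2, 2, 0, 2, 2, 3, 2, 2, 2, 0, 2, 2, 3, 2, 2, 2],
    [3, 2, 3, 2, 3, 2, 3, 2, 3, 2, 3, 2, 3, 2, 3, 2],
    [5, 0, 5, 0, 5, 5, 5, 1, 1, 1, 0, 1, 0, 1, 0, 4, 3, 4, 3, 4, 4, 4, 2, 2, 2, 3, 2, 3, 2, 3, 5, 0, 5, 0, 5, 5, 5, 1, 1, 1, 0, 1, 0, 1, 0],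
    [3, 0],
    [4, 1],
    [5, 2]])
    (Ls := [[(35, 0), (-5, 1), (-10, 2), (5, 3), (-5, 4), (-21, 5), (-5, 6), (5, 7), (5, 8), (-5, 9), (1, 10)],
    [(-3, 0), (-1, 3), (2, 5), (1, 6), (-1, 7)],
    [(5, 0), (-1, 4), (-2, 5), (1, 8), (-1, 9)],
    [(-34, 0), (5, 1), (10, 2), (-5, 3), (5, 4), (21, 5), (5, 6), (-5, 7), (-5, 8), (5, 9), (-1, 10)],
    [(3, 0), (1, 1), (1, 3), (-2, 5), (-1, 6), (1, 7)],
    [(-5, 0), (1, 2), (1, 4), (2, 5), (-1, 8), (1, 9)]]) (by decide +kernel)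

theorem upper_N : UpperMult (subL (PG.gen 11 HNH.R) HNN.l) (Multiplicative (ZMod 1)) ∧
    Nat.card (subL (PG.gen 11 HNH.R) HNN.l) = 88704000 := by
  obtain ⟨A, hA⟩ := HNAct.ex
  have ht := hA.genLet (l := HNN.l) (by decide +kernel)
  have h := (card_subL_half (k := 11) (R := HNH.R) (l := HNN.l) (j := 2)
    (by decide +kernel)).trans card_H.2
  obtain ⟨hb, hc⟩ := HNChN.ch ht (by rw [← subL]; omega)
  exact ⟨upper_cyclic (k2 := 0) (k3 := 0) rfl ((HNP2.pm hb ht hc).mono (by norm_num))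
    ((HNP3.pm hb ht hc).mono (by norm_num))
    (pmult_rest hc [5] (by simpa using HNP5.pm hb ht hc) (by decide +kernel) (by decide +kernel)),
    hc⟩

/-- the generators in the letters of the enumeration -/
def s (i : ℕ) : List ℕ := [List.getD [0, 1, 2, 11, 4, 5, 12] i 0]

theorem br : ∃ (φ : PG 11 HNH.R →* HN) (z : HN),
    (∀ i < 7, x i = ev (XX 11 (PG.gen 11 HNH.R) φ z) (s i)) ∧
      ∀ r ∈ K.map fun r => r.flatMap fun i => [i], ev (XX 11 (PG.gen 11 HNH.R) φ z) r = 1 := by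
  obtain ⟨φ, z, h1, h2⟩ := bridge (n := 13) (k := 11) (RH := HNH.R) relK HNFB.P.iv HNFB.P.iv
    (fun i => [i]) (fun i => [i]) (by decide +kernel) (by decide +kernel) (by decide +kernel)
    (by decide +kernel)
  refine ⟨φ, z, fun i hi => Eq.trans ?_ (h1 _ (by interval_cases i <;> decide)), h2⟩
  interval_cases i <;> exact (ev_singleton _ _).symm

theorem finite : Finite HN := by
  obtain ⟨A, ht, hb, hc⟩ := exists_act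
  obtain ⟨B, hB⟩ := HNActN.ex
  obtain ⟨φ, z, h1, h2⟩ := br
  have h : CtxH HNFB.P A (PG.gen 11 HNH.R) :=
    ctxH_of (R := HNH.R) ht hb (fun _ => PG.rel) (by decide +kernel)
  exact (HNClo.fin h (ctxG_one h h2 (by decide +kernel)) hB hc.le (gen_of isPres.gen_top h1)).1

theorem upper : UpperMult HN (Multiplicative (ZMod 1)) := upper_of_section_root (x 2) (m := 2)
    (by norm_num) (by simpa [sq] using isPres.rel [2, 2] (by decide +kernel))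
    fun Γ _ σ hs hσ η e1 e2 => by
  obtain ⟨A, ht, hb, hc⟩ := exists_act
  obtain ⟨φ, z, h1, h2⟩ := br
  have h : CtxH HNFB.P A (PG.gen 11 HNH.R) :=
    ctxH_of (R := HNH.R) ht hb (fun _ => PG.rel) (by decide +kernel)
  obtain ⟨ψ, hψ, -⟩ := exists_lift_let ivH (K := HNH.R) (fun _ => PG.rel) (PG.genL_range _ _)
    perfect_N upper_N.1 (by rw [upper_N.2, hc]; norm_num) (j := 2) Nat.prime_two
    [[4], [7], [1], [0], [8], [5]]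
    [[0],
    [1],
    [2],
    [3],
    [4],
    [5],
    [6],
    [7],
    [8],
    [9],
    [10],
    [4, 1, 0],
    [4, 5, 0],
    [1, 0, 1, 0, 1, 1, 0, 5],
    [1, 4, 5, 5, 4, 5, 4, 5]]
    (by decide +kernel) φ hs hσ (e1.trans (by simpa [s, XX] using h1 2 (by norm_num))) e2
  have k0 := cons_all (h.xiv φ z) h2 (L := [[11, 11, 11, 11, 11], [4, 11, 0, 11, 11], [12, 5, 11, 1],
    [2, 11, 2, 11, 2, 11], [12, 12, 12, 12, 12]]) (by decide +kernel)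
  obtain ⟨τ, rfl, k1⟩ := exists_norm (k := 11) hs hσ hψ (w := [4, 11, 0, 11, 11] ++ [4, 11, 0, 11, 11])
    (by rw [ev_append]; exact (congrArg₂ _ (k0 _ (by simp)) (k0 _ (by simp))).trans (one_mul 1))
    (k0 [12, 12, 12, 12, 12] (by simp)) (by decide +kernel)
  have k2 : ∀ r ∈ [[11, 11, 11, 11, 11], [4, 11, 0, 11, 11], [12, 5, 11, 1], [2, 11, 2, 11, 2, 11],
      [12, 12, 12, 12, 12]], ev (XX 11 (PG.gen 11 HNH.R) ψ τ) r ∈ σ.ker := fun r hr =>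
    (map_XX hψ r).trans (k0 r hr)
  have k3 := rel_XX (k := 11) (R := HNH.R) (by decide +kernel) (fun _ => PG.rel) ψ τ
  have k8 := rel_XX (k := 11) (R := [[2, 1, 4, 5, 5, 4, 5, 4, 5, 2, 1, 0, 1, 0, 1, 1, 0, 5, 4, 4]]) (by decide +kernel)
    (hb.ev_eq_one ht (by decide +kernel) (by decide +kernel)) ψ τ
  have k4 : ∀ q < 13, XX 11 (PG.gen 11 HNH.R) ψ τ (HNFB.P.iv q) =
    (XX 11 (PG.gen 11 HNH.R) ψ τ q)⁻¹ := h.xiv ψ τ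
  have k5 : ∀ i < 7, σ (ev (XX 11 (PG.gen 11 HNH.R) ψ τ) (s i)) = x i := fun i hi =>
    (map_XX hψ _).trans (h1 i hi).symm
  generalize XX 11 (PG.gen 11 HNH.R) ψ τ = y at k1 k2 k3 k4 k5 k8
  have i4 : y 4 = (y 0)⁻¹ := k4 0 (by norm_num)
  have i5 : y 5 = (y 1)⁻¹ := k4 1 (by norm_num)
  have i12 : y 12 = (y 11)⁻¹ := k4 11 (by norm_num)
  have k6 : (y 2 * y 11) ^ 3 ∈ σ.ker := by
    simpa [pow_succ, mul_assoc] using k2 [2, 11, 2, 11, 2, 11] (by simp)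
  obtain ⟨a1, a2, a3, a4⟩ := hn_labels (a := y 0) (b := y 1) (e := y 2) (t := y 11)
    (hσ (by simpa [pow_succ, mul_assoc] using k2 [11, 11, 11, 11, 11] (by simp)))
    (hσ (by simpa [pow_succ, mul_assoc, i4] using k2 [4, 11, 0, 11, 11] (by simp)))
    (hσ (by simpa [pow_succ, mul_assoc, i5, i12] using k2 [12, 5, 11, 1] (by simp))) (hσ k6)
    (by rw [← mul_inv_eq_one]; simpa [pow_succ, mul_assoc, i4, i12] using k1)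
    (by simpa [pow_succ, mul_assoc] using k3 [1, 1, 1, 1, 1, 1] (by decide +kernel))
    (by simpa using k3 [2, 2] (by decide +kernel))
    (by simpa [mul_assoc] using k3 [2, 0, 2, 0] (by decide +kernel))
    (by simpa [pow_succ, mul_assoc] using k3 [0, 0, 0, 0] (by decide +kernel))
  have k7 := forall_app (forall_app k3 k8) (L := [[11, 11, 11, 11, 11], [4, 11, 0, 11, 11], [12, 5, 11, 1]])
    (by simpa [pow_succ, mul_assoc, i4, i5, i12] using And.intro a1 (And.intro a2 a3))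
  obtain ⟨f, hf⟩ := isPres.exists_hom
    (fun i => if i = 2 then ev y (s i) * (y 2 * y 11) ^ 3 else ev y (s i)) fun r hr => by
      rw [ev_scale (y := fun i => ev y (s i)) (hσ k6), ← ev_flatMap]
      have := List.all_eq_true.mp (show (R.all fun r => consB 13 HNFB.P.iv (HNH.R ++
        [[2, 1, 4, 5, 5, 4, 5, 4, 5, 2, 1, 0, 1, 0, 1, 1, 0, 5, 4, 4]] ++
        [[11, 11, 11, 11, 11], [4, 11, 0, 11, 11], [12, 5, 11, 1]]) (r.flatMap s) &&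
          r.count 2 % 2 == 0 || r == [2, 3, 2, 3, 2, 3]) = true by decide +kernel) r hr
      simp only [Bool.or_eq_true, Bool.and_eq_true, beq_iff_eq] at this
      rcases this with ⟨b1, b2⟩ | rfl
      · obtain ⟨m, hm⟩ := Nat.dvd_of_mod_eq_zero b2
        rw [consB_spec k4 k7 b1, hm, pow_mul, a4, one_pow, one_mul]
      · rw [show ev y _ = (y 2 * y 11) ^ 3 by simp [s, pow_succ, mul_assoc], ← pow_succ',
          show List.count 2 [2, 3, 2, 3, 2, 3] + 1 = 2 * 2 from rfl, pow_mul, a4, one_pow]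
  have : (σ.comp f).eqLocus (MonoidHom.id _) = ⊤ := by
    rw [eq_top_iff, ← isPres.gen_top]
    exact genL_le fun i hi => by
      have hi := List.mem_range.mp hi
      change σ (f (x i)) = x i
      rw [hf i hi]
      split_ifs
      · rw [map_mul, k5 i hi, k6, mul_one]
      · exact k5 i hi
  exact ⟨f, fun a => (this ▸ Subgroup.mem_top a : a ∈ (σ.comp f).eqLocus (MonoidHom.id _))⟩

end Cfsg.Agent.L0.HNG
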