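import Cfsg.Agent.L0.Dce
import Cfsg.Agent.L0.HN.Act

/-! Generated: double coset enumeration. -/

set_option autoImplicit false
set_option maxRecDepth 100000

namespace Cfsg.Agent.L0.HNFB

open Dce

noncomputable def F0 : GT Fa := .node (.node (.node (.node (.node (.leaf ⟨nat_lit 1, nat_lit 0, nat_lit 1, nat_lit 0, nat_lit 0, nat_lit 0, [], [], []⟩) (.leaf ⟨nat_lit 0, nat_lit 1, nat_lit 1, nat_lit 0, nat_lit 0x532c8a218cb, nat_lit 0xa108eb3a841, [], [], []⟩)) (.node (.leaf ⟨nat_lit 0, nat_lit 1, nat_lit 1, nat_lit 0, nat_lit 0x588eb22c8b, nat_lit 0x51d47510ca, [], [], []⟩) (.leaf ⟨nat_lit 0, nat_lit 3, nat_lit 3, nat_lit 0, nat_lit 0x5914659146, nat_lit 0x515663888b, [], [], []⟩))) (.node (.node (.leaf ⟨nat_lit 0, nat_lit 1, nat_lit 1, nat_lit 0, nat_lit 0x10cb3a8c6, nat_lit 0x84b22847, [], [], []⟩) (.leaf ⟨nat_lit 0, nat_lit 1, nat_lit 1, nat_lit 0, nat_lit 0x2ac8a38967, nat_lit 0x228c459d41,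 [], [], []⟩)) (.node (.leaf ⟨nat_lit 0, nat_lit 1, nat_lit 1, nat_lit 0, nat_lit 0x32c2b59c42, nat_lit 0x3188a51542, [], [], []⟩) (.leaf ⟨nat_lit 0, nat_lit 6, nat_lit 6, nat_lit 0, nat_lit 0xa3598a94a842, nat_lit 0xeb20947324c3, [], [], []⟩)))) (.node (.node (.node (.leaf ⟨nat_lit 0, nat_lit 0, nat_lit 0, nat_lit 0, nat_lit 0x108ea12946, nat_lit 0x12d66590c6, [], [], []⟩) (.leaf ⟨nat_lit 0, nat_lit 1, nat_lit 1, nat_lit 0, nat_lit 0x2ce151d46, nat_lit 0x9645948a, [], [], []⟩)) (.node (.leaf ⟨nat_lit 0, nat_lit 1, nat_lit 1, nat_lit 0, nat_lit 0x31cea32d65, nat_lit 0xa94259082, [], [], []⟩) (.leaf ⟨nat_lit 2, nat_lit 0, nat_lit 0, nat_lit 35, nat_lit 0, nat_lit 0, [], [], [nat_lit 0x7324c41acc6, nat_lit 97, nat_lit 0x6428e7590c7]⟩))) (.node (.node (.leaf ⟨nat_lit 0, nat_lit 1, nat_lit 1, nat_lit 0, nat_lit 0x25908b31821, nat_lit 0x52884a39d46, [], [], []⟩) (.leaf ⟨nat_lit 0, nat_lit 1, nat_lit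 1, nat_lit 0, nat_lit 0x22d623a8ca, nat_lit 0x5896432947, [], [], []⟩)) (.node (.leaf ⟨nat_lit 0, nat_lit 1, nat_lit 1, nat_lit 0, nat_lit 0x59ccb328a4, nat_lit 0x385625088a, [], [], []⟩) (.leaf ⟨nat_lit 1, nat_lit 7, nat_lit 7, nat_lit 0xc95a565228e7, nat_lit 0x7599620ad29, nat_lit 0x143508444ac81, [], [], []⟩))))) (.node (.node (.node (.node (.leaf ⟨nat_lit 0, nat_lit 1, nat_lit 1, nat_lit 0, nat_lit 7, nat_lit 4, [], [], []⟩) (.leaf ⟨nat_lit 0, nat_lit 1, nat_lit 1, nat_lit 0, nat_lit 0x651c4a52884, nat_lit 0x73ad6b31162, [], [], []⟩)) (.node (.leaf ⟨nat_lit 0, nat_lit 1, nat_lit 1, nat_lit 0, nat_lit 0x2a88651146, nat_lit 0x12ceb11d61, [], [], []⟩) (.leaf ⟨nat_lit 1, nat_lit 3, nat_lit 2, nat_lit 0x33accb598ca, nat_lit 0x14152944, nat_lit 0x1047328aa, [], [], []⟩))) (.node (.node (.leaf ⟨nat_lit 0, nat_lit 1, nat_lit 1, nat_lit 0, nat_lit 0xaccb110c1, nat_lit 0x288e650945, [], [], []⟩) (.leaf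 ⟨nat_lit 0, nat_lit 1, nat_lit 1, nat_lit 0, nat_lit 0x54711086, nat_lit 0x8e731165, [], [], []⟩)) (.node (.leaf ⟨nat_lit 0, nat_lit 1, nat_lit 1, nat_lit 0, nat_lit 0xea218c1, nat_lit 0xa211d64, [], [], []⟩) (.leaf ⟨nat_lit 1, nat_lit 3, nat_lit 7, nat_lit 0x10622d675ac41, nat_lit 0xa64a543210ca, nat_lit 0x144b2a945, [], [], []⟩)))) (.node (.node (.node (.leaf ⟨nat_lit 0, nat_lit 0, nat_lit 0, nat_lit 0, nat_lit 0x4318cb2ace1, nat_lit 0x52282a10847, [], [], []⟩) (.leaf ⟨nat_lit 0, nat_lit 1, nat_lit 1, nat_lit 0, nat_lit 0xa41294a, nat_lit 0x16b598e1, [], [], []⟩)) (.node (.leaf ⟨nat_lit 0, nat_lit 1, nat_lit 1, nat_lit 0, nat_lit 0x14650564, nat_lit 0xea2ac4b, [], [], []⟩) (.leaf ⟨nat_lit 1, nat_lit 3, nat_lit 5, nat_lit 0xa259d23508e6, nat_lit 0x9475956b, nat_lit 0xa632ceb19141, [], [], []⟩))) (.node (.node (.leaf ⟨nat_lit 0, nat_lit 1, nat_lit 1, nat_lit 0, nat_lit 0x6510823a82b, nat_lit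 0xa2ac8639d62, [], [], []⟩) (.leaf ⟨nat_lit 0, nat_lit 2, nat_lit 2, nat_lit 0, nat_lit 0x194259084, nat_lit 0x539cea32c24, [], [], []⟩)) (.node (.leaf ⟨nat_lit 0, nat_lit 1, nat_lit 1, nat_lit 0, nat_lit 0x3ace659945, nat_lit 0xac4a11144, [], [], []⟩) (.leaf ⟨nat_lit 1, nat_lit 9, nat_lit 7, nat_lit 0x10ca2a843, nat_lit 0x18aa190c1, nat_lit 0x12b4112a10862, [], [], []⟩)))))

noncomputable def F1 : GT Fa := .node (.node (.node (.node (.node (.leaf ⟨nat_lit 2, nat_lit 0, nat_lit 0, nat_lit 165, nat_lit 0, nat_lit 0, [], [], [nat_lit 0, nat_lit 0, nat_lit 0, nat_lit 33]⟩) (.leaf ⟨nat_lit 0, nat_lit 1, nat_lit 1, nat_lit 0, nat_lit 0x18c421042, nat_lit 0x18c739c42, [], [], []⟩)) (.node (.leaf ⟨nat_lit 0, nat_lit 1, nat_lit 1, nat_lit 0, nat_lit 199, nat_lit 130, [], [], []⟩) (.leaf ⟨nat_lit 0, nat_lit 3, nat_lit 3, nat_lit 0, nat_lit 0x14a2ad61, nat_lit 0xaa5056b, [], [], []⟩))) (.node (.node (.leaf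 ⟨nat_lit 0, nat_lit 1, nat_lit 1, nat_lit 0, nat_lit 198, nat_lit 66, [], [], []⟩) (.leaf ⟨nat_lit 0, nat_lit 1, nat_lit 1, nat_lit 0, nat_lit 0x55982a31141, nat_lit 0x559c4b28941, [], [], []⟩)) (.node (.leaf ⟨nat_lit 0, nat_lit 1, nat_lit 1, nat_lit 0, nat_lit 0x318ea0a8c1, nat_lit 0x2896559042, [], [], []⟩) (.leaf ⟨nat_lit 2, nat_lit 0, nat_lit 0, nat_lit 0x624088b31d44, nat_lit 0, nat_lit 0, [], [], [nat_lit 9411, nat_lit 0xc65a10512861, nat_lit 0x10a043]⟩)))) (.node (.node (.node (.leaf ⟨nat_lit 1, nat_lit 1, nat_lit 1, nat_lit 0x51d463ad62, nat_lit 1, nat_lit 0x12d66590c6, [], [], []⟩) (.leaf ⟨nat_lit 0, nat_lit 1, nat_lit 1, nat_lit 0, nat_lit 0x28e252947, nat_lit 0x116b5988b, [], [], []⟩)) (.node (.leaf ⟨nat_lit 0, nat_lit 1, nat_lit 1, nat_lit 0, nat_lit 0x1d42398eb, nat_lit 0x288221964, [], [], []⟩) (.leaf ⟨nat_lit 2, nat_lit 0, nat_lit 0, nat_lit 0x33992622d29, nat_lit 0, nat_lit 0,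 [], [], [nat_lit 97, nat_lit 0x28428e240881, nat_lit 35]⟩))) (.node (.node (.leaf ⟨nat_lit 0, nat_lit 1, nat_lit 1, nat_lit 0, nat_lit 0x54a569528e9, nat_lit 0x822d6852101, [], [], []⟩) (.leaf ⟨nat_lit 0, nat_lit 1, nat_lit 1, nat_lit 0, nat_lit 0x328e252942, nat_lit 0x32d6b31162, [], [], []⟩)) (.node (.leaf ⟨nat_lit 0, nat_lit 1, nat_lit 1, nat_lit 0, nat_lit 0x218cb28941, nat_lit 0x2acc150847, [], [], []⟩) (.leaf ⟨nat_lit 1, nat_lit 5, nat_lit 8, nat_lit 40, nat_lit 0, nat_lit 0, [], [], []⟩))))) (.node (.node (.node (.node (.leaf ⟨nat_lit 0, nat_lit 1, nat_lit 1, nat_lit 0, nat_lit 0x31c4b3ad61, nat_lit 0x2a94451882, [], [], []⟩) (.leaf ⟨nat_lit 0, nat_lit 1, nat_lit 1, nat_lit 0, nat_lit 0x51caa39d46, nat_lit 0x12c845848b, [], [], []⟩)) (.node (.leaf ⟨nat_lit 0, nat_lit 1, nat_lit 1, nat_lit 0, nat_lit 0x55882b0ac42, nat_lit 0x6328aa29941, [], [], []⟩) (.leaf ⟨nat_lit 1, nat_lit 3, nat_lit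 3, nat_lit 0x52194750942, nat_lit 0x958cea1084b, nat_lit 0x108a50447, [], [], []⟩))) (.node (.node (.leaf ⟨nat_lit 0, nat_lit 1, nat_lit 1, nat_lit 0, nat_lit 0x5194159044, nat_lit 0x398ea2ac4b, [], [], []⟩) (.leaf ⟨nat_lit 0, nat_lit 1, nat_lit 1, nat_lit 0, nat_lit 0x4210ca38841, nat_lit 0x53188b11ce7, [], [], []⟩)) (.node (.leaf ⟨nat_lit 0, nat_lit 1, nat_lit 1, nat_lit 0, nat_lit 67718, nat_lit 72902, [], [], []⟩) (.leaf ⟨nat_lit 1, nat_lit 5, nat_lit 7, nat_lit 0x598ab22ce3, nat_lit 0x22094759922, nat_lit 0x34148b32c86, [], [], []⟩)))) (.node (.node (.node (.leaf ⟨nat_lit 1, nat_lit 1, nat_lit 1, nat_lit 0x51d473054a, nat_lit 5, nat_lit 0xa3a8e60a941, [], [], []⟩) (.leaf ⟨nat_lit 0, nat_lit 1, nat_lit 1, nat_lit 0, nat_lit 0x532947528e1, nat_lit 0x522d645ac41, [], [], []⟩)) (.node (.leaf ⟨nat_lit 0, nat_lit 1, nat_lit 1, nat_lit 0, nat_lit 6340, nat_lit 7234, [], [], []⟩) (.leaf ⟨nat_lit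 1, nat_lit 5, nat_lit 5, nat_lit 0x5884b12844, nat_lit 0x59cca51cab, nat_lit 0xa11ccb3982a, [], [], []⟩))) (.node (.node (.leaf ⟨nat_lit 0, nat_lit 1, nat_lit 1, nat_lit 0, nat_lit 0x5884a1082a, nat_lit 0x594c6598ca, [], [], []⟩) (.leaf ⟨nat_lit 0, nat_lit 2, nat_lit 2, nat_lit 0, nat_lit 0x31c4b3ad61, nat_lit 0x5096b5894a, [], [], []⟩)) (.node (.leaf ⟨nat_lit 0, nat_lit 1, nat_lit 1, nat_lit 0, nat_lit 0x2844518aa, nat_lit 0x2c2259ccb, [], [], []⟩) (.leaf ⟨nat_lit 0, nat_lit 9, nat_lit 9, nat_lit 0, nat_lit 0x448ce9128c9, nat_lit 0x212cc8408e1, [], [], []⟩)))))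

noncomputable def F2 : GT Fa := .node (.node (.node (.node (.node (.leaf ⟨nat_lit 2, nat_lit 0, nat_lit 0, nat_lit 165, nat_lit 0, nat_lit 0, [], [], [nat_lit 0, nat_lit 0, nat_lit 0, nat_lit 33]⟩) (.leaf ⟨nat_lit 0, nat_lit 1, nat_lit 1, nat_lit 0, nat_lit 0x12ceb11d61, nat_lit 0x2a88651146, [], [], []⟩)) (.node (.leaf ⟨nat_lit 0, nat_lit 1, nat_lit 1, nat_lit 0, nat_lit 0x18eb1084a, nat_lit 0x2cc632882, [], [], []⟩) (.leaf ⟨nat_lit 1, nat_lit 1, nat_lit 3, nat_lit 0x51294a51861, nat_lit 0xa528ab0ac61, nat_lit 0x5328a222d64, [], [], []⟩))) (.node (.node (.leaf ⟨nat_lit 0, nat_lit 1, nat_lit 1, nat_lit 0, nat_lit 0x881528c1, nat_lit 0x144b594e6, [], [], []⟩) (.leaf ⟨nat_lit 0, nat_lit 1, nat_lit 1, nat_lit 0, nat_lit 0x55896b0ac82, nat_lit 0x63a8aa51941, [], [], []⟩)) (.node (.leaf ⟨nat_lit 0, nat_lit 1, nat_lit 1, nat_lit 0, nat_lit 0x53894752886, nat_lit 0x23ad6459881, [], [], []⟩) (.leaf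 ⟨nat_lit 2, nat_lit 0, nat_lit 0, nat_lit 0xa3598a94a842, nat_lit 0, nat_lit 0, [], [], [nat_lit 8259, nat_lit 0x146b398e25a544, nat_lit 0x332421]⟩)))) (.node (.node (.node (.leaf ⟨nat_lit 2, nat_lit 0, nat_lit 0, nat_lit 0x65996432c8a, nat_lit 0, nat_lit 0, [], [], [nat_lit 0x208e650847, nat_lit 5]⟩) (.leaf ⟨nat_lit 0, nat_lit 1, nat_lit 1, nat_lit 0, nat_lit 0x65094a11d46, nat_lit 0x2590cb59962, [], [], []⟩)) (.node (.leaf ⟨nat_lit 0, nat_lit 1, nat_lit 1, nat_lit 0, nat_lit 0x54632c4a, nat_lit 0x2cca10965, [], [], []⟩) (.leaf ⟨nat_lit 1, nat_lit 1, nat_lit 5, nat_lit 257, nat_lit 0, nat_lit 0, [], [], []⟩))) (.node (.node (.leaf ⟨nat_lit 0, nat_lit 1, nat_lit 1, nat_lit 0, nat_lit 2114, nat_lit 6342, [], [], []⟩) (.leaf ⟨nat_lit 0, nat_lit 1, nat_lit 1, nat_lit 0, nat_lit 0x1cea208e1, nat_lit 0x14863ac84, [], [], []⟩)) (.node (.leaf ⟨nat_lit 0, nat_lit 1, nat_lit 1, nat_lit 0, nat_lit 0x12d6b31ce1,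 nat_lit 0x2908252946, [], [], []⟩) (.leaf ⟨nat_lit 0, nat_lit 8, nat_lit 8, nat_lit 0, nat_lit 0x14a29144, nat_lit 0x22186a22082, [], [], []⟩))))) (.node (.node (.node (.node (.leaf ⟨nat_lit 0, nat_lit 1, nat_lit 1, nat_lit 0, nat_lit 0x3884a39966, nat_lit 0x12844598c4, [], [], []⟩) (.leaf ⟨nat_lit 0, nat_lit 1, nat_lit 1, nat_lit 0, nat_lit 0x2ce151d44, nat_lit 0x1d645948a, [], [], []⟩)) (.node (.leaf ⟨nat_lit 0, nat_lit 1, nat_lit 1, nat_lit 0, nat_lit 0x94a52842, nat_lit 0x18cb5ad66, [], [], []⟩) (.leaf ⟨nat_lit 1, nat_lit 1, nat_lit 4, nat_lit 8, nat_lit 0, nat_lit 0, [], [], []⟩))) (.node (.node (.leaf ⟨nat_lit 0, nat_lit 1, nat_lit 1, nat_lit 0, nat_lit 0x5114151d61, nat_lit 0x2a88b2aceb, [], [], []⟩) (.leaf ⟨nat_lit 0, nat_lit 1, nat_lit 1, nat_lit 0, nat_lit 0x5904a51964, nat_lit 0x3a84b598ea, [], [], []⟩)) (.node (.leaf ⟨nat_lit 0, nat_lit 1, nat_lit 1, nat_lit 0, nat_lit 0x51c2a39966,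 nat_lit 0x128445948b, [], [], []⟩) (.leaf ⟨nat_lit 1, nat_lit 5, nat_lit 7, nat_lit 0x16239d4a50861, nat_lit 0x641caa50561, nat_lit 0xb3196658884, [], [], []⟩)))) (.node (.node (.node (.leaf ⟨nat_lit 2, nat_lit 0, nat_lit 0, nat_lit 0x51d473154a, nat_lit 0, nat_lit 0, [], [], [nat_lit 0x55ac820ac8b, nat_lit 1]⟩) (.leaf ⟨nat_lit 0, nat_lit 1, nat_lit 1, nat_lit 0, nat_lit 0xb12c8459041, nat_lit 0x531d473a8ca, [], [], []⟩)) (.node (.leaf ⟨nat_lit 0, nat_lit 1, nat_lit 1, nat_lit 0, nat_lit 0x4751966, nat_lit 0x4a12c86, [], [], []⟩) (.leaf ⟨nat_lit 1, nat_lit 5, nat_lit 5, nat_lit 0x41a88210c81, nat_lit 0x342d685152a, nat_lit 0x18cb22ce3, [], [], []⟩))) (.node (.node (.leaf ⟨nat_lit 0, nat_lit 1, nat_lit 1, nat_lit 0, nat_lit 226, nat_lit 196, [], [], []⟩) (.leaf ⟨nat_lit 0, nat_lit 2, nat_lit 2, nat_lit 0, nat_lit 0x5914659146, nat_lit 0x515663888b, [], [], []⟩)) (.node (.leaf ⟨nat_lit 0, nat_lit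 1, nat_lit 1, nat_lit 0, nat_lit 0x55acc60a942, nat_lit 0x65aca212941, [], [], []⟩) (.leaf ⟨nat_lit 1, nat_lit 9, nat_lit 7, nat_lit 0x5894a52844, nat_lit 0x539d47324c5, nat_lit 0x20d4a51144, [], [], []⟩)))))

noncomputable def F3 : GT Fa := .node (.node (.node (.node (.node (.leaf ⟨nat_lit 2, nat_lit 0, nat_lit 0, nat_lit 5, nat_lit 0, nat_lit 0, [], [], [nat_lit 0, nat_lit 1]⟩) (.leaf ⟨nat_lit 0, nat_lit 1, nat_lit 1, nat_lit 0, nat_lit 0x65114752847, nat_lit 0x432d6459d62, [], [], []⟩)) (.node (.leaf ⟨nat_lit 0, nat_lit 1, nat_lit 1, nat_lit 0, nat_lit 0x53a8cb12c84, nat_lit 0x73a8ca12c81, [], [], []⟩) (.leaf ⟨nat_lit 2, nat_lit 0, nat_lit 0, nat_lit 0x7528e60ac41, nat_lit 0, nat_lit 0, [], [], [nat_lit 35, nat_lit 0x7528e622861, nat_lit 0x11294a51861]⟩))) (.node (.node (.leaf ⟨nat_lit 0, nat_lit 1, nat_lit 1, nat_lit 0, nat_lit 0x22c2a51ce2, nat_lit 0x3108b59547, [], [], []⟩) (.leaf ⟨nat_lit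 0, nat_lit 1, nat_lit 1, nat_lit 0, nat_lit 0x54a11081, nat_lit 0x14e732d65, [], [], []⟩)) (.node (.leaf ⟨nat_lit 0, nat_lit 1, nat_lit 1, nat_lit 0, nat_lit 0x2114559041, nat_lit 0x298ea0ace7, [], [], []⟩) (.leaf ⟨nat_lit 1, nat_lit 6, nat_lit 6, nat_lit 0x32d064a902, nat_lit 0xb419485292b, nat_lit 0x835252a2ac82, [], [], []⟩)))) (.node (.node (.node (.leaf ⟨nat_lit 2, nat_lit 0, nat_lit 0, nat_lit 0x108ea12946, nat_lit 0, nat_lit 0, [], [], [nat_lit 1, nat_lit 0x65996432c8a]⟩) (.leaf ⟨nat_lit 0, nat_lit 1, nat_lit 1, nat_lit 0, nat_lit 0x5116430542, nat_lit 0x32ca23a8eb, [], [], []⟩)) (.node (.leaf ⟨nat_lit 0, nat_lit 1, nat_lit 1, nat_lit 0, nat_lit 0x2d673a8e5, nat_lit 0x48b2114a, [], [], []⟩) (.leaf ⟨nat_lit 0, nat_lit 5, nat_lit 5, nat_lit 0, nat_lit 0x2ace731941, nat_lit 0x22cca38882, [], [], []⟩))) (.node (.node (.leaf ⟨nat_lit 0, nat_lit 1, nat_lit 1, nat_lit 0, nat_lit 0x9473154a,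 nat_lit 0x2d6111166, [], [], []⟩) (.leaf ⟨nat_lit 0, nat_lit 1, nat_lit 1, nat_lit 0, nat_lit 0x111663a882, nat_lit 0x31d64128e6, [], [], []⟩)) (.node (.leaf ⟨nat_lit 0, nat_lit 1, nat_lit 1, nat_lit 0, nat_lit 2278, nat_lit 2182, [], [], []⟩) (.leaf ⟨nat_lit 0, nat_lit 8, nat_lit 8, nat_lit 0, nat_lit 0x3988239882, nat_lit 0xaa5056b, [], [], []⟩))))) (.node (.node (.node (.node (.leaf ⟨nat_lit 0, nat_lit 1, nat_lit 1, nat_lit 0, nat_lit 0x528a451882, nat_lit 0x31c4b3856b, [], [], []⟩) (.leaf ⟨nat_lit 0, nat_lit 1, nat_lit 1, nat_lit 0, nat_lit 0x102a51881, nat_lit 0x14e25aca7, [], [], []⟩)) (.node (.leaf ⟨nat_lit 0, nat_lit 1, nat_lit 1, nat_lit 0, nat_lit 0x1294451147, nat_lit 0x22ceb3ad66, [], [], []⟩) (.leaf ⟨nat_lit 0, nat_lit 4, nat_lit 4, nat_lit 0, nat_lit 0x1056b59cc4, nat_lit 0x128ca528c6, [], [], []⟩))) (.node (.node (.leaf ⟨nat_lit 0, nat_lit 1, nat_lit 1, nat_lit 0, nat_lit 0x148252946,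 nat_lit 0x96b598e1, [], [], []⟩) (.leaf ⟨nat_lit 0, nat_lit 1, nat_lit 1, nat_lit 0, nat_lit 0x50542108e1, nat_lit 0x290c632cab, [], [], []⟩)) (.node (.leaf ⟨nat_lit 0, nat_lit 1, nat_lit 1, nat_lit 0, nat_lit 0x2904a528c6, nat_lit 0x1096b598e1, [], [], []⟩) (.leaf ⟨nat_lit 1, nat_lit 7, nat_lit 6, nat_lit 0x85a08649966, nat_lit 0x622d6b320eb, nat_lit 0x18ca21146, [], [], []⟩)))) (.node (.node (.node (.leaf ⟨nat_lit 2, nat_lit 0, nat_lit 0, nat_lit 0x55aca222c8b, nat_lit 0, nat_lit 0, [], [], [nat_lit 5, nat_lit 0x51d473154a]⟩) (.leaf ⟨nat_lit 0, nat_lit 1, nat_lit 1, nat_lit 0, nat_lit 0x75988a, nat_lit 0xb38944, [], [], []⟩)) (.node (.leaf ⟨nat_lit 0, nat_lit 1, nat_lit 1, nat_lit 0, nat_lit 0x84751966, nat_lit 0x942590c6, [], [], []⟩) (.leaf ⟨nat_lit 1, nat_lit 1, nat_lit 6, nat_lit 8259, nat_lit 0, nat_lit 0, [], [], []⟩))) (.node (.node (.leaf ⟨nat_lit 0, nat_lit 1, nat_lit 1, nat_lit 0,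 nat_lit 6370, nat_lit 6274, [], [], []⟩) (.leaf ⟨nat_lit 1, nat_lit 2, nat_lit 1, nat_lit 0x4518cb, nat_lit 0x32094a10841, nat_lit 0x28c82590c6, [], [], []⟩)) (.node (.leaf ⟨nat_lit 0, nat_lit 1, nat_lit 1, nat_lit 0, nat_lit 0x102a22c8a, nat_lit 0x2cea3aca7, [], [], []⟩) (.leaf ⟨nat_lit 0, nat_lit 9, nat_lit 9, nat_lit 0, nat_lit 0x2acca51d44, nat_lit 0x104712c6b, [], [], []⟩)))))

noncomputable def F4 : GT Fa := .node (.node (.node (.node (.node (.leaf ⟨nat_lit 2, nat_lit 0, nat_lit 0, nat_lit 165, nat_lit 0, nat_lit 0, [], [], [nat_lit 5, nat_lit 5]⟩) (.leaf ⟨nat_lit 0, nat_lit 1, nat_lit 1, nat_lit 0, nat_lit 0x182a50881, nat_lit 0x14e65aca2, [], [], []⟩)) (.node (.leaf ⟨nat_lit 0, nat_lit 1, nat_lit 1, nat_lit 0, nat_lit 7398, nat_lit 2180, [], [], []⟩) (.leaf ⟨nat_lit 2, nat_lit 0, nat_lit 0, nat_lit 0x51a8aa0ad6b, nat_lit 0, nat_lit 0, [], [], [nat_lit 0x51294a51861, nat_lit 0x3acca11d44,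 nat_lit 97]⟩))) (.node (.node (.leaf ⟨nat_lit 0, nat_lit 1, nat_lit 1, nat_lit 0, nat_lit 0x39d6210944, nat_lit 0x3acc632884, [], [], []⟩) (.leaf ⟨nat_lit 0, nat_lit 1, nat_lit 1, nat_lit 0, nat_lit 0x22d6511146, nat_lit 0x12ce60a947, [], [], []⟩)) (.node (.leaf ⟨nat_lit 0, nat_lit 1, nat_lit 1, nat_lit 0, nat_lit 0x1c2a128e1, nat_lit 0x148b32ca4, [], [], []⟩) (.leaf ⟨nat_lit 1, nat_lit 2, nat_lit 7, nat_lit 257, nat_lit 0, nat_lit 0, [], [], []⟩)))) (.node (.node (.node (.leaf ⟨nat_lit 2, nat_lit 0, nat_lit 0, nat_lit 5, nat_lit 0, nat_lit 0, [], [], [nat_lit 0x51d463ad62, nat_lit 0x108ea12946]⟩) (.leaf ⟨nat_lit 0, nat_lit 1, nat_lit 1, nat_lit 0, nat_lit 0x148a5088a, nat_lit 0x2ce65ace1, [], [], []⟩)) (.node (.leaf ⟨nat_lit 0, nat_lit 1, nat_lit 1, nat_lit 0, nat_lit 0x8ea32cc4, nat_lit 0x1c4a12c86, [], [], []⟩) (.leaf ⟨nat_lit 0, nat_lit 5, nat_lit 5, nat_lit 0, nat_lit 0x510c759141, nat_lit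 0x1564590ca, [], [], []⟩))) (.node (.node (.leaf ⟨nat_lit 0, nat_lit 1, nat_lit 1, nat_lit 0, nat_lit 0x5914a32c2a, nat_lit 0x595425acea, [], [], []⟩) (.leaf ⟨nat_lit 0, nat_lit 1, nat_lit 1, nat_lit 0, nat_lit 0x218e6, nat_lit 69703, [], [], []⟩)) (.node (.leaf ⟨nat_lit 0, nat_lit 1, nat_lit 1, nat_lit 0, nat_lit 0x52884528ab, nat_lit 0x5056b39d6b, [], [], []⟩) (.leaf ⟨nat_lit 1, nat_lit 8, nat_lit 7, nat_lit 0x96b59c42, nat_lit 0x8631ce352041, nat_lit 0x1cc92a545, [], [], []⟩))))) (.node (.node (.node (.node (.leaf ⟨nat_lit 0, nat_lit 1, nat_lit 1, nat_lit 0, nat_lit 0x218e15ac81, nat_lit 0x29d4a29047, [], [], []⟩) (.leaf ⟨nat_lit 0, nat_lit 1, nat_lit 1, nat_lit 0, nat_lit 0x588eb22c81, nat_lit 0x29d47510ca, [], [], []⟩)) (.node (.leaf ⟨nat_lit 0, nat_lit 1, nat_lit 1, nat_lit 0, nat_lit 0x59c2a3a842, nat_lit 0x319645948a, [], [], []⟩) (.leaf ⟨nat_lit 1, nat_lit 4, nat_lit 3, nat_lit 0x63ac4b12943,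 nat_lit 0x51886528a9, nat_lit 0x1cea518eb, [], [], []⟩))) (.node (.node (.leaf ⟨nat_lit 0, nat_lit 1, nat_lit 1, nat_lit 0, nat_lit 0x1670a8ea, nat_lit 0x1645948a, [], [], []⟩) (.leaf ⟨nat_lit 0, nat_lit 1, nat_lit 1, nat_lit 0, nat_lit 0x53284b31d62, nat_lit 0x65104a32c41, [], [], []⟩)) (.node (.leaf ⟨nat_lit 0, nat_lit 1, nat_lit 1, nat_lit 0, nat_lit 0x1472914a, nat_lit 0x16b3848b, [], [], []⟩) (.leaf ⟨nat_lit 0, nat_lit 7, nat_lit 7, nat_lit 0, nat_lit 0x63888351901, nat_lit 0xb3204738d01, [], [], []⟩)))) (.node (.node (.node (.leaf ⟨nat_lit 2, nat_lit 0, nat_lit 0, nat_lit 0x5ac820ac8b, nat_lit 0, nat_lit 0, [], [], [nat_lit 1, nat_lit 0xa3a8e60a941]⟩) (.leaf ⟨nat_lit 0, nat_lit 1, nat_lit 1, nat_lit 0, nat_lit 0x96750546, nat_lit 0x96559146, [], [], []⟩)) (.node (.leaf ⟨nat_lit 0, nat_lit 1, nat_lit 1, nat_lit 0, nat_lit 0x18cb3282a, nat_lit 0x2cab12842, [], [], []⟩) (.leaf ⟨nat_lit 0,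 nat_lit 6, nat_lit 6, nat_lit 0, nat_lit 0x2a942528cb, nat_lit 0x2a88b2aceb, [], [], []⟩))) (.node (.node (.leaf ⟨nat_lit 0, nat_lit 1, nat_lit 1, nat_lit 0, nat_lit 7366, nat_lit 2116, [], [], []⟩) (.leaf ⟨nat_lit 2, nat_lit 0, nat_lit 0, nat_lit 35, nat_lit 0, nat_lit 0, [], [], [nat_lit 0xa10967, nat_lit 0x32094a29084, nat_lit 0x28c82590c6]⟩)) (.node (.leaf ⟨nat_lit 0, nat_lit 1, nat_lit 1, nat_lit 0, nat_lit 0x651cca2182b, nat_lit 0xa288eb11162, [], [], []⟩) (.leaf ⟨nat_lit 1, nat_lit 9, nat_lit 9, nat_lit 0xb4ac8a10941, nat_lit 0xa32ce651ce3, nat_lit 0x110902224c7, [], [], []⟩)))))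

noncomputable def F5 : GT Fa := .node (.node (.node (.node (.node (.leaf ⟨nat_lit 2, nat_lit 0, nat_lit 0, nat_lit 1, nat_lit 0, nat_lit 0, [], [], [nat_lit 1, nat_lit 33]⟩) (.leaf ⟨nat_lit 0, nat_lit 1, nat_lit 1, nat_lit 0, nat_lit 0x3894451c2b, nat_lit 0x5148b3acc4, [], [], []⟩)) (.node (.leaf ⟨nat_lit 0, nat_lit 1, nat_lit 1, nat_lit 0, nat_lit 0x14551142, nat_lit 0xcb3ac2b, [], [], []⟩) (.leaf ⟨nat_lit 1, nat_lit 3, nat_lit 1, nat_lit 0x84a218e7, nat_lit 0x3210ca110c1, nat_lit 0x28c82590c6, [], [], []⟩))) (.node (.node (.leaf ⟨nat_lit 0, nat_lit 1, nat_lit 1, nat_lit 0, nat_lit 0x1ce63288b, nat_lit 0x28eb10884, [], [], []⟩) (.leaf ⟨nat_lit 0, nat_lit 1, nat_lit 1, nat_lit 0, nat_lit 0xc421042, nat_lit 0xc639ce2, [], [], []⟩)) (.node (.leaf ⟨nat_lit 0, nat_lit 1, nat_lit 1, nat_lit 0, nat_lit 0x65948459942, nat_lit 0x65894738542, [], [], []⟩) (.leaf ⟨nat_lit 0, nat_lit 7, nat_lit 7, nat_lit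 0, nat_lit 0x731086, nat_lit 0x411ce2, [], [], []⟩)))) (.node (.node (.node (.leaf ⟨nat_lit 2, nat_lit 0, nat_lit 0, nat_lit 1, nat_lit 0, nat_lit 0, [], [], [nat_lit 0x218cb110c7, nat_lit 0x5208e650847]⟩) (.leaf ⟨nat_lit 0, nat_lit 1, nat_lit 1, nat_lit 0, nat_lit 0x5acc72a882, nat_lit 0x31d612094a, [], [], []⟩)) (.node (.leaf ⟨nat_lit 0, nat_lit 1, nat_lit 1, nat_lit 0, nat_lit 0x518e259941, nat_lit 0x2ac4a3104b, [], [], []⟩) (.leaf ⟨nat_lit 0, nat_lit 5, nat_lit 5, nat_lit 0, nat_lit 0x2ce151d42, nat_lit 0x2ad6739d44, [], [], []⟩))) (.node (.node (.leaf ⟨nat_lit 0, nat_lit 1, nat_lit 1, nat_lit 0, nat_lit 0x9465aca2, nat_lit 0x182a50966, [], [], []⟩) (.leaf ⟨nat_lit 0, nat_lit 1, nat_lit 1, nat_lit 0, nat_lit 0xacc622cc1, nat_lit 0x2894710945, [], [], []⟩)) (.node (.leaf ⟨nat_lit 0, nat_lit 1, nat_lit 1, nat_lit 0, nat_lit 0x3ace759145, nat_lit 0xacea21144, [], [], []⟩) (.leaf ⟨nat_lit 0,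 nat_lit 8, nat_lit 8, nat_lit 0, nat_lit 0x52106251d2b, nat_lit 0x24294558883, [], [], []⟩))))) (.node (.node (.node (.node (.leaf ⟨nat_lit 0, nat_lit 1, nat_lit 1, nat_lit 0, nat_lit 0x2096b598e1, nat_lit 0x2904a528c7, [], [], []⟩) (.leaf ⟨nat_lit 0, nat_lit 1, nat_lit 1, nat_lit 0, nat_lit 0x1d463156b, nat_lit 0x294110964, [], [], []⟩)) (.node (.leaf ⟨nat_lit 0, nat_lit 1, nat_lit 1, nat_lit 0, nat_lit 0x51c415282b, nat_lit 0x5156b2988b, [], [], []⟩) (.leaf ⟨nat_lit 0, nat_lit 4, nat_lit 4, nat_lit 0, nat_lit 0x1664ad0458d66, nat_lit 0x2585641a041, [], [], []⟩))) (.node (.node (.leaf ⟨nat_lit 0, nat_lit 1, nat_lit 1, nat_lit 0, nat_lit 0x2c8b29146, nat_lit 0x9670a8ea, [], [], []⟩) (.leaf ⟨nat_lit 0, nat_lit 1, nat_lit 1, nat_lit 0, nat_lit 0x5ace55ac41, nat_lit 0x2994a0914a, [], [], []⟩)) (.node (.leaf ⟨nat_lit 0, nat_lit 1, nat_lit 1, nat_lit 0, nat_lit 66, nat_lit 198, [], [], []⟩) (.leaf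 ⟨nat_lit 1, nat_lit 7, nat_lit 7, nat_lit 0x92ad6b598e3, nat_lit 0xaa5092641962, nat_lit 0x19465856740923, [], [], []⟩)))) (.node (.node (.node (.leaf ⟨nat_lit 2, nat_lit 0, nat_lit 0, nat_lit 5, nat_lit 0, nat_lit 0, [], [], [nat_lit 0x51116731c42, nat_lit 0x5ac820ac8b]⟩) (.leaf ⟨nat_lit 0, nat_lit 1, nat_lit 1, nat_lit 0, nat_lit 0x2104750881, nat_lit 0x29ccb218e7, [], [], []⟩)) (.node (.leaf ⟨nat_lit 0, nat_lit 1, nat_lit 1, nat_lit 0, nat_lit 0x282b5916b, nat_lit 0x2947528ab, [], [], []⟩) (.leaf ⟨nat_lit 0, nat_lit 6, nat_lit 6, nat_lit 0, nat_lit 0x5114159086, nat_lit 0x122c8659162, [], [], []⟩))) (.node (.node (.leaf ⟨nat_lit 0, nat_lit 1, nat_lit 1, nat_lit 0, nat_lit 0x51284b59d41, nat_lit 0x55914a32cc1, [], [], []⟩) (.leaf ⟨nat_lit 2, nat_lit 0, nat_lit 0, nat_lit 0x14aa10967, nat_lit 0, nat_lit 0, [], [], [nat_lit 0x32094a29084, nat_lit 0x1ce2218c3, nat_lit 35]⟩)) (.node (.leaf ⟨nat_lit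 0, nat_lit 1, nat_lit 1, nat_lit 0, nat_lit 0xc152841, nat_lit 0xa65aca2, [], [], []⟩) (.leaf ⟨nat_lit 1, nat_lit 1, nat_lit 3, nat_lit 8, nat_lit 0x6732cca0ac48, nat_lit 0x32194952901, [], [], []⟩)))))

noncomputable def F6 : GT Fa := .node (.node (.node (.node (.node (.leaf ⟨nat_lit 2, nat_lit 0, nat_lit 0, nat_lit 1, nat_lit 0, nat_lit 0, [], [], [nat_lit 1, nat_lit 33]⟩) (.leaf ⟨nat_lit 0, nat_lit 1, nat_lit 1, nat_lit 0, nat_lit 0x166228e7, nat_lit 0x8459c4a, [], [], []⟩)) (.node (.leaf ⟨nat_lit 0, nat_lit 1, nat_lit 1, nat_lit 0, nat_lit 6278, nat_lit 2274, [], [], []⟩) (.leaf ⟨nat_lit 2, nat_lit 0, nat_lit 0, nat_lit 0x1ccb38847, nat_lit 0, nat_lit 0, [], [], [nat_lit 35, nat_lit 0xc8431c42, nat_lit 0x511ccb11ce3]⟩))) (.node (.node (.leaf ⟨nat_lit 0, nat_lit 1, nat_lit 1, nat_lit 0, nat_lit 0x522c84228e1, nat_lit 0x522ce73a8e1, [], [], []⟩) (.leaf ⟨nat_lit 0, nat_lit 1, nat_lit 1, nat_lit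 0, nat_lit 0x2ad6b22c81, nat_lit 0x29d4752941, [], [], []⟩)) (.node (.leaf ⟨nat_lit 0, nat_lit 1, nat_lit 1, nat_lit 0, nat_lit 0x288222d65, nat_lit 0x54a398eb, [], [], []⟩) (.leaf ⟨nat_lit 0, nat_lit 7, nat_lit 7, nat_lit 0, nat_lit 0x108258944, nat_lit 0xa7588e6, [], [], []⟩)))) (.node (.node (.node (.leaf ⟨nat_lit 0, nat_lit 1, nat_lit 1, nat_lit 0, nat_lit 0x759ccb328a4, nat_lit 0x70ac4a11144, [], [], []⟩) (.leaf ⟨nat_lit 0, nat_lit 1, nat_lit 1, nat_lit 0, nat_lit 0x551d473054a, nat_lit 0xb5944459161, [], [], []⟩)) (.node (.leaf ⟨nat_lit 0, nat_lit 1, nat_lit 1, nat_lit 0, nat_lit 0x55104751944, nat_lit 0x75896431d61, [], [], []⟩) (.leaf ⟨nat_lit 0, nat_lit 5, nat_lit 5, nat_lit 0, nat_lit 0x3956b0ad64, nat_lit 0x2c4732d61, [], [], []⟩))) (.node (.node (.leaf ⟨nat_lit 0, nat_lit 1, nat_lit 1, nat_lit 0, nat_lit 0x1d4a3ad66, nat_lit 0x94a22d64, [], [], []⟩) (.leaf ⟨nat_lit 0, nat_lit 1,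 nat_lit 1, nat_lit 0, nat_lit 0x211675aceb, nat_lit 0x5114a228e7, [], [], []⟩)) (.node (.leaf ⟨nat_lit 0, nat_lit 1, nat_lit 1, nat_lit 0, nat_lit 0x108a32c44, nat_lit 0x1cca12ce7, [], [], []⟩) (.leaf ⟨nat_lit 0, nat_lit 8, nat_lit 8, nat_lit 0, nat_lit 0xcb1910652142, nat_lit 0x151d4651064, [], [], []⟩))))) (.node (.node (.node (.node (.leaf ⟨nat_lit 0, nat_lit 1, nat_lit 1, nat_lit 0, nat_lit 0x2ce151d42, nat_lit 0x19645948a, [], [], []⟩) (.leaf ⟨nat_lit 0, nat_lit 1, nat_lit 1, nat_lit 0, nat_lit 0x4a52942, nat_lit 0xcb5ad66, [], [], []⟩)) (.node (.leaf ⟨nat_lit 0, nat_lit 1, nat_lit 1, nat_lit 0, nat_lit 0x598c15054a, nat_lit 0x5acab2884a, [], [], []⟩) (.leaf ⟨nat_lit 2, nat_lit 0, nat_lit 0, nat_lit 8357, nat_lit 0, nat_lit 0, [], [], [nat_lit 0x53246750546, nat_lit 9, nat_lit 0x4a1a8e95204a]⟩))) (.node (.node (.leaf ⟨nat_lit 0, nat_lit 1, nat_lit 1, nat_lit 0, nat_lit 0xa31c4b32881, nat_lit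 0x53ac4a3104b, [], [], []⟩) (.leaf ⟨nat_lit 0, nat_lit 1, nat_lit 1, nat_lit 0, nat_lit 0x11d6b22ceb, nat_lit 0x5114752886, [], [], []⟩)) (.node (.leaf ⟨nat_lit 0, nat_lit 1, nat_lit 1, nat_lit 0, nat_lit 0x88652945, nat_lit 0x56b588e6, [], [], []⟩) (.leaf ⟨nat_lit 1, nat_lit 7, nat_lit 7, nat_lit 0x835914a0a8c6, nat_lit 0xa7328864ace3, nat_lit 0x598ca28848, [], [], []⟩)))) (.node (.node (.node (.leaf ⟨nat_lit 0, nat_lit 1, nat_lit 1, nat_lit 0, nat_lit 0x518aa228e6, nat_lit 0x111675844b, [], [], []⟩) (.leaf ⟨nat_lit 0, nat_lit 1, nat_lit 1, nat_lit 0, nat_lit 0x8e729164, nat_lit 0x1d4709086, [], [], []⟩)) (.node (.leaf ⟨nat_lit 0, nat_lit 1, nat_lit 1, nat_lit 0, nat_lit 0x8a12ce2, nat_lit 0xc451967, [], [], []⟩) (.leaf ⟨nat_lit 0, nat_lit 6, nat_lit 6, nat_lit 0, nat_lit 0x551047328ca, nat_lit 0x5114658442, [], [], []⟩))) (.node (.node (.leaf ⟨nat_lit 0, nat_lit 1, nat_lit 1, nat_lit 0, nat_lit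 0x3982a51962, nat_lit 0x3284b59444, [], [], []⟩) (.leaf ⟨nat_lit 2, nat_lit 0, nat_lit 0, nat_lit 0x32094a10841, nat_lit 0, nat_lit 0, [], [], [nat_lit 0x1ce2218c3, nat_lit 97, nat_lit 0x284259c21]⟩)) (.node (.leaf ⟨nat_lit 0, nat_lit 1, nat_lit 1, nat_lit 0, nat_lit 0x31cea208e1, nat_lit 0x290c759082, [], [], []⟩) (.leaf ⟨nat_lit 1, nat_lit 3, nat_lit 3, nat_lit 0x5188652829, nat_lit 0x4ac2b4ac47, nat_lit 0x6508e338841, [], [], []⟩)))))

noncomputable def F7 : GT Fa := .node (.node (.node (.node (.node (.leaf ⟨nat_lit 2, nat_lit 0, nat_lit 0, nat_lit 6, nat_lit 0, nat_lit 0, [], [], [nat_lit 2]⟩) (.leaf ⟨nat_lit 0, nat_lit 1, nat_lit 1, nat_lit 0, nat_lit 0x8ea108eb, nat_lit 0x288632c86, [], [], []⟩)) (.node (.leaf ⟨nat_lit 0, nat_lit 1, nat_lit 1, nat_lit 0, nat_lit 0x5288a29082, nat_lit 0x31ce159d6b, [], [], []⟩) (.leaf ⟨nat_lit 2, nat_lit 0, nat_lit 0, nat_lit 0x108ea31c61, nat_lit 0, nat_lit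 0, [], [], [nat_lit 0x510ce6588e7, nat_lit 0x84a218e7, nat_lit 97]⟩))) (.node (.node (.leaf ⟨nat_lit 0, nat_lit 1, nat_lit 1, nat_lit 0, nat_lit 0x116451042, nat_lit 0x18c759d47, [], [], []⟩) (.leaf ⟨nat_lit 0, nat_lit 1, nat_lit 1, nat_lit 0, nat_lit 0x128e62a946, nat_lit 0x12d6111166, [], [], []⟩)) (.node (.leaf ⟨nat_lit 0, nat_lit 1, nat_lit 1, nat_lit 0, nat_lit 0x5148422c41, nat_lit 0x2994739c2b, [], [], []⟩) (.leaf ⟨nat_lit 0, nat_lit 7, nat_lit 7, nat_lit 0, nat_lit 0x32c4259c21, nat_lit 0x4228c61a849, [], [], []⟩)))) (.node (.node (.node (.leaf ⟨nat_lit 0, nat_lit 1, nat_lit 1, nat_lit 0, nat_lit 0x55888a11166, nat_lit 0x251ccb39941, [], [], []⟩) (.leaf ⟨nat_lit 0, nat_lit 1, nat_lit 1, nat_lit 0, nat_lit 0x732cab39944, nat_lit 0x75888a0a844, [], [], []⟩)) (.node (.leaf ⟨nat_lit 0, nat_lit 1, nat_lit 1, nat_lit 0, nat_lit 0x1114a22d66, nat_lit 0x129475ace6, [], [], []⟩) (.leaf ⟨nat_lit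 1, nat_lit 5, nat_lit 5, nat_lit 0x22196759861, nat_lit 0x35154852569, nat_lit 0xb2194512143, [], [], []⟩))) (.node (.node (.leaf ⟨nat_lit 0, nat_lit 1, nat_lit 1, nat_lit 0, nat_lit 0x96559d47, nat_lit 0x116450546, [], [], []⟩) (.leaf ⟨nat_lit 0, nat_lit 1, nat_lit 1, nat_lit 0, nat_lit 0x1d4a3ad62, nat_lit 0x194a22d64, [], [], []⟩)) (.node (.leaf ⟨nat_lit 0, nat_lit 1, nat_lit 1, nat_lit 0, nat_lit 0x19471294a, nat_lit 0x2d6b31162, [], [], []⟩) (.leaf ⟨nat_lit 1, nat_lit 8, nat_lit 8, nat_lit 0x1145128e2, nat_lit 0x22ceb3ac84, nat_lit 0xa75ad6631161, [], [], []⟩))))) (.node (.node (.node (.node (.leaf ⟨nat_lit 0, nat_lit 1, nat_lit 1, nat_lit 0, nat_lit 0x3a9475ace6, nat_lit 0x1114a22d64, [], [], []⟩) (.leaf ⟨nat_lit 0, nat_lit 1, nat_lit 1, nat_lit 0, nat_lit 0xa52942, nat_lit 0x65ad6b, [], [], []⟩)) (.node (.leaf ⟨nat_lit 0, nat_lit 1, nat_lit 1, nat_lit 0, nat_lit 0x1445096b, nat_lit 0x14a32ceb,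 [], [], []⟩) (.leaf ⟨nat_lit 2, nat_lit 0, nat_lit 0, nat_lit 0x4a1a8e95204a, nat_lit 0, nat_lit 0, [], [], [nat_lit 8, nat_lit 0x53246750546, nat_lit 9249]⟩))) (.node (.node (.leaf ⟨nat_lit 0, nat_lit 1, nat_lit 1, nat_lit 0, nat_lit 0x110ca38541, nat_lit 0x2aca4588e6, [], [], []⟩) (.leaf ⟨nat_lit 0, nat_lit 1, nat_lit 1, nat_lit 0, nat_lit 0x65288b1108b, nat_lit 0xa39cca3ad62, [], [], []⟩)) (.node (.leaf ⟨nat_lit 0, nat_lit 1, nat_lit 1, nat_lit 0, nat_lit 0x8652945, nat_lit 0x2b5ac47, [], [], []⟩) (.leaf ⟨nat_lit 1, nat_lit 6, nat_lit 7, nat_lit 0xc9311642056b, nat_lit 0xab420eb41961, nat_lit 0xc6528ab20c8a, [], [], []⟩)))) (.node (.node (.node (.leaf ⟨nat_lit 0, nat_lit 1, nat_lit 1, nat_lit 0, nat_lit 68, nat_lit 230, [], [], []⟩) (.leaf ⟨nat_lit 0, nat_lit 1, nat_lit 1, nat_lit 0, nat_lit 0xa5056651081, nat_lit 0x539d625156b, [], [], []⟩)) (.node (.leaf ⟨nat_lit 0, nat_lit 1, nat_lit 1,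 nat_lit 0, nat_lit 0x8860a8e2, nat_lit 0x188b288e6, [], [], []⟩) (.leaf ⟨nat_lit 0, nat_lit 6, nat_lit 6, nat_lit 0, nat_lit 0x2096b598e1, nat_lit 0x2916638886, [], [], []⟩))) (.node (.node (.leaf ⟨nat_lit 0, nat_lit 1, nat_lit 1, nat_lit 0, nat_lit 0x5854a0a8e6, nat_lit 0x111655acaa, [], [], []⟩) (.leaf ⟨nat_lit 0, nat_lit 2, nat_lit 2, nat_lit 0, nat_lit 0x108b31ce1, nat_lit 0x28c82590c6, [], [], []⟩)) (.node (.leaf ⟨nat_lit 0, nat_lit 1, nat_lit 1, nat_lit 0, nat_lit 0x5914a2a8ea, nat_lit 0x591615acea, [], [], []⟩) (.leaf ⟨nat_lit 1, nat_lit 3, nat_lit 3, nat_lit 0x210ca2a943, nat_lit 0x110632047, nat_lit 0xd6450946, [], [], []⟩)))))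

noncomputable def F8 : GT Fa := .node (.node (.node (.node (.node (.leaf ⟨nat_lit 0, nat_lit 0, nat_lit 0, nat_lit 0, nat_lit 6, nat_lit 2, [], [], []⟩) (.leaf ⟨nat_lit 0, nat_lit 1, nat_lit 1, nat_lit 0, nat_lit 0x12d6b3ac42, nat_lit 0x3194452946, [], [], []⟩)) (.node (.leaf ⟨nat_lit 0, nat_lit 1, nat_lit 1, nat_lit 0, nat_lit 0x2096732d61, nat_lit 0x2a942228c7, [], [], []⟩) (.leaf ⟨nat_lit 2, nat_lit 0, nat_lit 0, nat_lit 97, nat_lit 0, nat_lit 0, [], [], [nat_lit 0x10823acc6, nat_lit 0x42194241c61, nat_lit 0x28c82590c6]⟩))) (.node (.node (.leaf ⟨nat_lit 0, nat_lit 1, nat_lit 1, nat_lit 0, nat_lit 71, nat_lit 134, [], [], []⟩) (.leaf ⟨nat_lit 0, nat_lit 1, nat_lit 1, nat_lit 0, nat_lit 0x59c2a3a8c4, nat_lit 0x389645948a, [], [], []⟩)) (.node (.leaf ⟨nat_lit 0, nat_lit 1, nat_lit 1, nat_lit 0, nat_lit 0x311445116b, nat_lit 0x528eb3ace2, [], [], []⟩) (.leaf ⟨nat_lit 0, nat_lit 7, nat_lit 7,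 nat_lit 0, nat_lit 0x522c84228e1, nat_lit 0x820d68328e9, [], [], []⟩)))) (.node (.node (.node (.leaf ⟨nat_lit 0, nat_lit 1, nat_lit 1, nat_lit 0, nat_lit 0x1282b3a8c6, nat_lit 0x1096451566, [], [], []⟩) (.leaf ⟨nat_lit 0, nat_lit 1, nat_lit 1, nat_lit 0, nat_lit 4226, nat_lit 6375, [], [], []⟩)) (.node (.leaf ⟨nat_lit 0, nat_lit 1, nat_lit 1, nat_lit 0, nat_lit 0x88a5116b, nat_lit 0x29475ace6, [], [], []⟩) (.leaf ⟨nat_lit 1, nat_lit 3, nat_lit 5, nat_lit 0x2092a48c8b, nat_lit 0x418cb428c9, nat_lit 0x54ad68588e3, [], [], []⟩))) (.node (.node (.leaf ⟨nat_lit 0, nat_lit 1, nat_lit 1, nat_lit 0, nat_lit 0x3188a51542, nat_lit 0x32c2b59c42, [], [], []⟩) (.leaf ⟨nat_lit 0, nat_lit 1, nat_lit 1, nat_lit 0, nat_lit 0x3a84b598ea, nat_lit 0x5904a51964, [], [], []⟩)) (.node (.leaf ⟨nat_lit 0, nat_lit 1, nat_lit 1, nat_lit 0, nat_lit 0x5194221961, nat_lit 0x2a84732c4b, [], [], []⟩) (.leaf ⟨nat_lit 1, nat_lit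 7, nat_lit 8, nat_lit 0xc64a562210ca, nat_lit 0x6598e652443, nat_lit 0x53a08b4a949, [], [], []⟩))))) (.node (.node (.node (.node (.leaf ⟨nat_lit 0, nat_lit 1, nat_lit 1, nat_lit 0, nat_lit 0x218e15ac81, nat_lit 0x29d4a29047, [], [], []⟩) (.leaf ⟨nat_lit 0, nat_lit 1, nat_lit 1, nat_lit 0, nat_lit 0x2d615ac8a, nat_lit 0x2cea5154a, [], [], []⟩)) (.node (.leaf ⟨nat_lit 0, nat_lit 1, nat_lit 1, nat_lit 0, nat_lit 0x562128ca, nat_lit 0x2c4b31945, [], [], []⟩) (.leaf ⟨nat_lit 2, nat_lit 0, nat_lit 0, nat_lit 0x1664ad0458d66, nat_lit 0, nat_lit 0, [], [], [nat_lit 8, nat_lit 0x25956410c41, nat_lit 9249]⟩))) (.node (.node (.leaf ⟨nat_lit 0, nat_lit 1, nat_lit 1, nat_lit 0, nat_lit 0x22d6732942, nat_lit 0x32d6222947, [], [], []⟩) (.leaf ⟨nat_lit 0, nat_lit 1, nat_lit 1, nat_lit 0, nat_lit 0x5288b1108b, nat_lit 0x51ce651d6b, [], [], []⟩)) (.node (.leaf ⟨nat_lit 0, nat_lit 1, nat_lit 1, nat_lit 0, nat_lit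 0x53a8e20ac84, nat_lit 0x73a8a622c81, [], [], []⟩) (.leaf ⟨nat_lit 1, nat_lit 6, nat_lit 7, nat_lit 0xcb120e20a108, nat_lit 0x4409654a842, nat_lit 0x148b20ce65a041, [], [], []⟩)))) (.node (.node (.node (.leaf ⟨nat_lit 0, nat_lit 1, nat_lit 1, nat_lit 0, nat_lit 0x598ab12847, nat_lit 0x219665044a, [], [], []⟩) (.leaf ⟨nat_lit 0, nat_lit 1, nat_lit 1, nat_lit 0, nat_lit 0x294a50842, nat_lit 0x18c65ad6b, [], [], []⟩)) (.node (.leaf ⟨nat_lit 0, nat_lit 1, nat_lit 1, nat_lit 0, nat_lit 0x32c4a228c1, nat_lit 0x2896759942, [], [], []⟩) (.leaf ⟨nat_lit 1, nat_lit 6, nat_lit 5, nat_lit 0x5ac8b58943, nat_lit 0x1082292b41864, nat_lit 0xa43196750c41, [], [], []⟩))) (.node (.node (.leaf ⟨nat_lit 0, nat_lit 1, nat_lit 1, nat_lit 0, nat_lit 0x229445ac84, nat_lit 0x39d4a3ad67, [], [], []⟩) (.leaf ⟨nat_lit 2, nat_lit 0, nat_lit 0, nat_lit 0x1484128e7, nat_lit 0, nat_lit 0, [], [], [nat_lit 97, nat_lit 0xc8431c42,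 nat_lit 35]⟩)) (.leaf ⟨nat_lit 0, nat_lit 1, nat_lit 1, nat_lit 0, nat_lit 7236, nat_lit 7364, [], [], []⟩))))

noncomputable def F9 : GT Fa := .node (.node (.node (.node (.node (.leaf ⟨nat_lit 0, nat_lit 1, nat_lit 1, nat_lit 0, nat_lit 6, nat_lit 2, [], [], []⟩) (.leaf ⟨nat_lit 0, nat_lit 1, nat_lit 1, nat_lit 0, nat_lit 0x12844598c4, nat_lit 0x3884a39966, [], [], []⟩)) (.node (.leaf ⟨nat_lit 0, nat_lit 1, nat_lit 1, nat_lit 0, nat_lit 0x2114a30564, nat_lit 0x3a8a25ace7, [], [], []⟩) (.leaf ⟨nat_lit 2, nat_lit 0, nat_lit 0, nat_lit 0x10c622844, nat_lit 0, nat_lit 0, [], [], [nat_lit 0x42194241c61, nat_lit 0x1ce2218c3, nat_lit 97]⟩))) (.node (.node (.leaf ⟨nat_lit 0, nat_lit 1, nat_lit 1, nat_lit 0, nat_lit 0x11c2a12841, nat_lit 0x2996659486, [], [], []⟩) (.leaf ⟨nat_lit 0, nat_lit 1, nat_lit 1, nat_lit 0, nat_lit 0x2c2a50547, nat_lit 0x11655acaa, [], [], []⟩)) (.node (.leaf ⟨nat_lit 0, nat_lit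 1, nat_lit 1, nat_lit 0, nat_lit 0x96b5acc4, nat_lit 0x1c4a52946, [], [], []⟩) (.leaf ⟨nat_lit 1, nat_lit 7, nat_lit 7, nat_lit 0x38544218e1, nat_lit 0x5114a39c21, nat_lit 0x1467588e6, [], [], []⟩)))) (.node (.node (.node (.leaf ⟨nat_lit 0, nat_lit 1, nat_lit 1, nat_lit 0, nat_lit 0x96731144, nat_lit 0x1d6711146, [], [], []⟩) (.leaf ⟨nat_lit 0, nat_lit 1, nat_lit 1, nat_lit 0, nat_lit 0x7328e651c21, nat_lit 0x52916222c44, [], [], []⟩)) (.node (.leaf ⟨nat_lit 0, nat_lit 1, nat_lit 1, nat_lit 0, nat_lit 2180, nat_lit 7398, [], [], []⟩) (.leaf ⟨nat_lit 1, nat_lit 2, nat_lit 5, nat_lit 0xa2588e3, nat_lit 0x51ca459061, nat_lit 0x19475148a, [], [], []⟩))) (.node (.node (.leaf ⟨nat_lit 0, nat_lit 1, nat_lit 1, nat_lit 0, nat_lit 0x56b58884, nat_lit 0x1ce652945, [], [], []⟩) (.leaf ⟨nat_lit 0, nat_lit 1, nat_lit 1, nat_lit 0, nat_lit 0xa459cc4, nat_lit 0xe2228e1, [], [], []⟩)) (.node (.leaf ⟨nat_lit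 0, nat_lit 1, nat_lit 1, nat_lit 0, nat_lit 7234, nat_lit 6340, [], [], []⟩) (.leaf ⟨nat_lit 1, nat_lit 7, nat_lit 8, nat_lit 0x2a42cca4108b, nat_lit 0x22cca2a82a, nat_lit 0x298c912083, [], [], []⟩))))) (.node (.node (.node (.node (.leaf ⟨nat_lit 0, nat_lit 1, nat_lit 1, nat_lit 0, nat_lit 132, nat_lit 231, [], [], []⟩) (.leaf ⟨nat_lit 0, nat_lit 1, nat_lit 1, nat_lit 0, nat_lit 0xab2084251c41, nat_lit 0xa622cc631d41, [], [], []⟩)) (.node (.leaf ⟨nat_lit 0, nat_lit 1, nat_lit 1, nat_lit 0, nat_lit 0x2ac8a38541, nat_lit 0x2aca459d41, [], [], []⟩) (.leaf ⟨nat_lit 1, nat_lit 3, nat_lit 4, nat_lit 0x210ca2a943, nat_lit 0x432cca5106b, nat_lit 0x3114a12d66, [], [], []⟩))) (.node (.node (.leaf ⟨nat_lit 0, nat_lit 1, nat_lit 1, nat_lit 0, nat_lit 231, nat_lit 132, [], [], []⟩) (.leaf ⟨nat_lit 0, nat_lit 1, nat_lit 1, nat_lit 0, nat_lit 2119, nat_lit 4294, [], [], []⟩)) (.node (.leaf ⟨nat_lit 0, nat_lit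 0, nat_lit 0, nat_lit 0, nat_lit 0x339ccb590c6, nat_lit 0x211d4a11083, [], [], []⟩) (.leaf ⟨nat_lit 1, nat_lit 7, nat_lit 7, nat_lit 0x6b5acc15a0cb, nat_lit 0x24a8ab42148, nat_lit 0x14222c425a0e1, [], [], []⟩)))) (.node (.node (.node (.leaf ⟨nat_lit 0, nat_lit 1, nat_lit 1, nat_lit 0, nat_lit 0x2896759942, nat_lit 0x32c4a228c1, [], [], []⟩) (.leaf ⟨nat_lit 0, nat_lit 1, nat_lit 1, nat_lit 0, nat_lit 0x65ac4259967, nat_lit 0x45094632942, [], [], []⟩)) (.node (.leaf ⟨nat_lit 0, nat_lit 1, nat_lit 1, nat_lit 0, nat_lit 0x5054259084, nat_lit 0x39cea32cab, [], [], []⟩) (.leaf ⟨nat_lit 1, nat_lit 6, nat_lit 3, nat_lit 0x519445ace3, nat_lit 0xb11cea0a90a, nat_lit 0x528c885ac4b, [], [], []⟩))) (.node (.node (.leaf ⟨nat_lit 0, nat_lit 1, nat_lit 1, nat_lit 0, nat_lit 0x2cca51d62, nat_lit 0x19445ac4a, [], [], []⟩) (.leaf ⟨nat_lit 0, nat_lit 2, nat_lit 2, nat_lit 0, nat_lit 0x550c8a31041, nat_lit 0xc712ceb,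 [], [], []⟩)) (.leaf ⟨nat_lit 0, nat_lit 1, nat_lit 1, nat_lit 0, nat_lit 0x65916522844, nat_lit 0x732ce151d42, [], [], []⟩))))

noncomputable def F10 : GT Fa := .node (.node (.node (.node (.node (.leaf ⟨nat_lit 2, nat_lit 0, nat_lit 0, nat_lit 3237, nat_lit 0, nat_lit 0, [], [], [nat_lit 3, nat_lit 1059]⟩) (.leaf ⟨nat_lit 0, nat_lit 1, nat_lit 1, nat_lit 0, nat_lit 0x294159ce6, nat_lit 0x8845156b, [], [], []⟩)) (.node (.leaf ⟨nat_lit 0, nat_lit 1, nat_lit 1, nat_lit 0, nat_lit 0x12ccb11145, nat_lit 0xace650946, [], [], []⟩) (.leaf ⟨nat_lit 0, nat_lit 3, nat_lit 3, nat_lit 0, nat_lit 0x5202a48c82, nat_lit 0x1914122cc6, [], [], []⟩))) (.node (.node (.leaf ⟨nat_lit 0, nat_lit 1, nat_lit 1, nat_lit 0, nat_lit 0x2282a10841, nat_lit 0x298c659567, [], [], []⟩) (.leaf ⟨nat_lit 0, nat_lit 1, nat_lit 1, nat_lit 0, nat_lit 0x18e151082, nat_lit 0x18e759482, [], [], []⟩)) (.node (.leaf ⟨nat_lit 0, nat_lit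 1, nat_lit 1, nat_lit 0, nat_lit 0x16b5acc4, nat_lit 0xe25294a, [], [], []⟩) (.leaf ⟨nat_lit 1, nat_lit 7, nat_lit 3, nat_lit 0x196758563, nat_lit 0x522cca32943, nat_lit 0x598893888a, [], [], []⟩)))) (.node (.node (.node (.leaf ⟨nat_lit 0, nat_lit 1, nat_lit 1, nat_lit 0, nat_lit 0x10c70ad61, nat_lit 0x154a29047, [], [], []⟩) (.leaf ⟨nat_lit 0, nat_lit 1, nat_lit 1, nat_lit 0, nat_lit 0x1096b58966, nat_lit 0x128ca528c6, [], [], []⟩)) (.node (.leaf ⟨nat_lit 0, nat_lit 1, nat_lit 1, nat_lit 0, nat_lit 0x288221964, nat_lit 0x1d42398eb, [], [], []⟩) (.leaf ⟨nat_lit 0, nat_lit 5, nat_lit 5, nat_lit 0, nat_lit 0x54a9455282b, nat_lit 0x14a3a882520c3, [], [], []⟩))) (.node (.node (.leaf ⟨nat_lit 0, nat_lit 1, nat_lit 1, nat_lit 0, nat_lit 0x3ad6411145, nat_lit 0xace63a944, [], [], []⟩) (.leaf ⟨nat_lit 0, nat_lit 1, nat_lit 1, nat_lit 0, nat_lit 0xa844328c1, nat_lit 0x2896239965, [], [], []⟩)) (.node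 (.leaf ⟨nat_lit 0, nat_lit 1, nat_lit 1, nat_lit 0, nat_lit 0x128423ace6, nat_lit 0x1114431966, [], [], []⟩) (.leaf ⟨nat_lit 1, nat_lit 6, nat_lit 8, nat_lit 0x1664090b22d24, nat_lit 0xa44090a50842, nat_lit 0xa742ce938543, [], [], []⟩))))) (.node (.node (.node (.node (.leaf ⟨nat_lit 0, nat_lit 1, nat_lit 1, nat_lit 0, nat_lit 0x3054a11041, nat_lit 0x298e65aca2, [], [], []⟩) (.leaf ⟨nat_lit 0, nat_lit 1, nat_lit 1, nat_lit 0, nat_lit 0x3a8e522c81, nat_lit 0x29d4709164, [], [], []⟩)) (.node (.leaf ⟨nat_lit 0, nat_lit 1, nat_lit 1, nat_lit 0, nat_lit 0x116b12ce1, nat_lit 0x148a32947, [], [], []⟩) (.leaf ⟨nat_lit 0, nat_lit 4, nat_lit 3, nat_lit 0, nat_lit 0x6732cca0ac48, nat_lit 0x32194952901, [], [], []⟩))) (.node (.node (.leaf ⟨nat_lit 0, nat_lit 1, nat_lit 1, nat_lit 0, nat_lit 0x5994422ca2, nat_lit 0x305473ac4a, [], [], []⟩) (.leaf ⟨nat_lit 0, nat_lit 1, nat_lit 1, nat_lit 0, nat_lit 0x5148b20541,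 nat_lit 0x2aca751c2b, [], [], []⟩)) (.node (.leaf ⟨nat_lit 1, nat_lit 1, nat_lit 1, nat_lit 0x422294222861, nat_lit 3105, nat_lit 0x211d4a11083, [], [], []⟩) (.leaf ⟨nat_lit 1, nat_lit 7, nat_lit 7, nat_lit 0xa32214451d68, nat_lit 0x186a2114632164, nat_lit 0xd6b210cb41ce1, [], [], []⟩)))) (.node (.node (.node (.leaf ⟨nat_lit 0, nat_lit 1, nat_lit 1, nat_lit 0, nat_lit 0x2284259165, nat_lit 0xa8ea31967, [], [], []⟩) (.leaf ⟨nat_lit 0, nat_lit 1, nat_lit 1, nat_lit 0, nat_lit 0x194222ce2, nat_lit 0x188a39962, [], [], []⟩)) (.node (.leaf ⟨nat_lit 0, nat_lit 1, nat_lit 1, nat_lit 0, nat_lit 0xc70ad61, nat_lit 0xaa51482, [], [], []⟩) (.leaf ⟨nat_lit 1, nat_lit 6, nat_lit 6, nat_lit 0x65114a, nat_lit 0x5914a51ce1, nat_lit 0x22cc711147, [], [], []⟩))) (.node (.node (.leaf ⟨nat_lit 0, nat_lit 1, nat_lit 1, nat_lit 0, nat_lit 0x18c759d47, nat_lit 0x116451042, [], [], []⟩) (.leaf ⟨nat_lit 2, nat_lit 0,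 nat_lit 0, nat_lit 101, nat_lit 0, nat_lit 0, [], [], [nat_lit 0x2954451882, nat_lit 97, nat_lit 0xb5994a51861]⟩)) (.leaf ⟨nat_lit 0, nat_lit 1, nat_lit 1, nat_lit 0, nat_lit 0x4159d4a, nat_lit 0x16b228a6, [], [], []⟩))))

noncomputable def F11 : GT Fa := .node (.node (.node (.node (.node (.leaf ⟨nat_lit 2, nat_lit 0, nat_lit 0, nat_lit 3237, nat_lit 0, nat_lit 0, [], [], [nat_lit 3, nat_lit 1059]⟩) (.leaf ⟨nat_lit 0, nat_lit 1, nat_lit 1, nat_lit 0, nat_lit 0x2088632c8a, nat_lit 0x59d4211cc7, [], [], []⟩)) (.node (.leaf ⟨nat_lit 0, nat_lit 1, nat_lit 1, nat_lit 0, nat_lit 0x18cb3054a, nat_lit 0x2d6512842, [], [], []⟩) (.leaf ⟨nat_lit 2, nat_lit 0, nat_lit 0, nat_lit 97, nat_lit 0, nat_lit 0, [], [], [nat_lit 0x38967398c3, nat_lit 35, nat_lit 0x4286711042]⟩))) (.node (.node (.leaf ⟨nat_lit 0, nat_lit 1, nat_lit 1, nat_lit 0, nat_lit 130, nat_lit 199, [], [], []⟩) (.leaf ⟨nat_lit 0, nat_lit 1,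 nat_lit 1, nat_lit 0, nat_lit 0xab31c42, nat_lit 0xc620941, [], [], []⟩)) (.node (.leaf ⟨nat_lit 0, nat_lit 1, nat_lit 1, nat_lit 0, nat_lit 0x288632c86, nat_lit 0x8ea108eb, [], [], []⟩) (.leaf ⟨nat_lit 1, nat_lit 7, nat_lit 6, nat_lit 0x3524c62284b, nat_lit 0xb31c674ad67, nat_lit 0x1254522c4b, [], [], []⟩)))) (.node (.node (.node (.leaf ⟨nat_lit 0, nat_lit 1, nat_lit 1, nat_lit 0, nat_lit 0x1d6210944, nat_lit 0x1d6631944, [], [], []⟩) (.leaf ⟨nat_lit 0, nat_lit 1, nat_lit 1, nat_lit 0, nat_lit 0x5ac4259c4b, nat_lit 0x5188a3194a, [], [], []⟩)) (.node (.leaf ⟨nat_lit 0, nat_lit 1, nat_lit 1, nat_lit 0, nat_lit 0x2b5ac44, nat_lit 0xe652945, [], [], []⟩) (.leaf ⟨nat_lit 2, nat_lit 0, nat_lit 0, nat_lit 0x624a9475104a, nat_lit 0, nat_lit 0, [], [], [nat_lit 169, nat_lit 0x54a9415282b, nat_lit 261]⟩))) (.node (.node (.leaf ⟨nat_lit 0, nat_lit 1, nat_lit 1, nat_lit 0, nat_lit 0x511142528c6, nat_lit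 0x212d6659cc1, [], [], []⟩) (.leaf ⟨nat_lit 0, nat_lit 1, nat_lit 1, nat_lit 0, nat_lit 0x5282b39c42, nat_lit 0x318845156b, [], [], []⟩)) (.node (.leaf ⟨nat_lit 0, nat_lit 1, nat_lit 1, nat_lit 0, nat_lit 0x5084759d41, nat_lit 0x2ac8a218cb, [], [], []⟩) (.leaf ⟨nat_lit 1, nat_lit 8, nat_lit 8, nat_lit 0x4959d620a828, nat_lit 0x288a20843, nat_lit 0x92a82931d21, [], [], []⟩))))) (.node (.node (.node (.node (.leaf ⟨nat_lit 0, nat_lit 1, nat_lit 1, nat_lit 0, nat_lit 0x18e150941, nat_lit 0x156659482, [], [], []⟩) (.leaf ⟨nat_lit 0, nat_lit 1, nat_lit 1, nat_lit 0, nat_lit 0xac8a110ca, nat_lit 0x588e659d45, [], [], []⟩)) (.node (.leaf ⟨nat_lit 0, nat_lit 1, nat_lit 1, nat_lit 0, nat_lit 0x54711082, nat_lit 0x18e731165, [], [], []⟩) (.leaf ⟨nat_lit 1, nat_lit 3, nat_lit 1, nat_lit 0x6732cca2ac48, nat_lit 8225, nat_lit 0x54ad68588e3, [], [], []⟩))) (.node (.node (.leaf ⟨nat_lit 0, nat_lit 1, nat_lit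 1, nat_lit 0, nat_lit 0x2896b39d44, nat_lit 0x3ac84528c1, [], [], []⟩) (.leaf ⟨nat_lit 0, nat_lit 1, nat_lit 1, nat_lit 0, nat_lit 0x114150841, nat_lit 0x14c659567, [], [], []⟩)) (.node (.leaf ⟨nat_lit 2, nat_lit 0, nat_lit 0, nat_lit 0x211d4a11083, nat_lit 0, nat_lit 0, [], [], [nat_lit 0xa359ccb59cc6, nat_lit 3105]⟩) (.leaf ⟨nat_lit 1, nat_lit 7, nat_lit 7, nat_lit 0xc738cea4a56b, nat_lit 0x4a1086b32081, nat_lit 0x16212947320e1, [], [], []⟩)))) (.node (.node (.node (.leaf ⟨nat_lit 0, nat_lit 1, nat_lit 1, nat_lit 0, nat_lit 230, nat_lit 68, [], [], []⟩) (.leaf ⟨nat_lit 0, nat_lit 1, nat_lit 1, nat_lit 0, nat_lit 0x328a459d62, nat_lit 0x3288a38562, [], [], []⟩)) (.node (.leaf ⟨nat_lit 0, nat_lit 1, nat_lit 1, nat_lit 0, nat_lit 0x65194730566, nat_lit 0x25144458962, [], [], []⟩) (.leaf ⟨nat_lit 1, nat_lit 5, nat_lit 6, nat_lit 0xa24994212541, nat_lit 0x64ac4a51c42, nat_lit 0xa73986749941, [],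 [], []⟩))) (.node (.node (.leaf ⟨nat_lit 0, nat_lit 1, nat_lit 1, nat_lit 0, nat_lit 4294, nat_lit 2119, [], [], []⟩) (.leaf ⟨nat_lit 2, nat_lit 0, nat_lit 0, nat_lit 0x531c4b38d61, nat_lit 0, nat_lit 0, [], [], [nat_lit 97, nat_lit 0x2954451882, nat_lit 35]⟩)) (.leaf ⟨nat_lit 0, nat_lit 1, nat_lit 1, nat_lit 0, nat_lit 0x518ca2a844, nat_lit 0x399615884b, [], [], []⟩))))

noncomputable def F12 : GT Fa := .node (.node (.node (.node (.node (.leaf ⟨nat_lit 2, nat_lit 0, nat_lit 0, nat_lit 5283, nat_lit 0, nat_lit 0, [], [], [nat_lit 3, nat_lit 3105]⟩) (.leaf ⟨nat_lit 0, nat_lit 1, nat_lit 1, nat_lit 0, nat_lit 0x28ca22c8b, nat_lit 0x28ea3ac4b, [], [], []⟩)) (.node (.leaf ⟨nat_lit 0, nat_lit 1, nat_lit 1, nat_lit 0, nat_lit 0x53108659d65, nat_lit 0x15114239c41, [], [], []⟩) (.leaf ⟨nat_lit 2, nat_lit 0, nat_lit 0, nat_lit 0x109472ace3, nat_lit 0, nat_lit 0, [], [], [nat_lit 35, nat_lit 0x1894711042,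 nat_lit 97]⟩))) (.node (.node (.leaf ⟨nat_lit 0, nat_lit 1, nat_lit 1, nat_lit 0, nat_lit 0xa8e221042, nat_lit 0x318e731165, [], [], []⟩) (.leaf ⟨nat_lit 0, nat_lit 1, nat_lit 1, nat_lit 0, nat_lit 0xad6458844, nat_lit 0x398ca3a945, [], [], []⟩)) (.node (.leaf ⟨nat_lit 0, nat_lit 1, nat_lit 1, nat_lit 0, nat_lit 0x4211084, nat_lit 0xe7398c6, [], [], []⟩) (.leaf ⟨nat_lit 1, nat_lit 3, nat_lit 7, nat_lit 0x423ad01408e3, nat_lit 0x638864510c6, nat_lit 0x64525470a543, [], [], []⟩)))) (.node (.node (.node (.leaf ⟨nat_lit 0, nat_lit 1, nat_lit 1, nat_lit 0, nat_lit 0x328a459d66, nat_lit 0x1288a38562, [], [], []⟩) (.leaf ⟨nat_lit 0, nat_lit 1, nat_lit 1, nat_lit 0, nat_lit 0x188459444, nat_lit 0x1cc151ce2, [], [], []⟩)) (.node (.leaf ⟨nat_lit 0, nat_lit 1, nat_lit 1, nat_lit 0, nat_lit 0x5194459167, nat_lit 0x228ea3ac4b, [], [], []⟩) (.leaf ⟨nat_lit 0, nat_lit 5, nat_lit 5, nat_lit 0, nat_lit 0x11cca0a864,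 nat_lit 0x4196b208e7, [], [], []⟩))) (.node (.node (.leaf ⟨nat_lit 0, nat_lit 1, nat_lit 1, nat_lit 0, nat_lit 0x3994a12944, nat_lit 0x3ad665ac44, [], [], []⟩) (.leaf ⟨nat_lit 0, nat_lit 1, nat_lit 1, nat_lit 0, nat_lit 0x632cca51d66, nat_lit 0x25116b12842, [], [], []⟩)) (.node (.leaf ⟨nat_lit 0, nat_lit 1, nat_lit 1, nat_lit 0, nat_lit 0x544218c4, nat_lit 0x1c4239d65, [], [], []⟩) (.leaf ⟨nat_lit 1, nat_lit 7, nat_lit 9, nat_lit 289, nat_lit 0, nat_lit 0, [], [], []⟩))))) (.node (.node (.node (.node (.leaf ⟨nat_lit 0, nat_lit 1, nat_lit 1, nat_lit 0, nat_lit 134, nat_lit 71, [], [], []⟩) (.leaf ⟨nat_lit 0, nat_lit 1, nat_lit 1, nat_lit 0, nat_lit 0x659d4631d65, nat_lit 0x15104259142, [], [], []⟩)) (.node (.leaf ⟨nat_lit 0, nat_lit 1, nat_lit 1, nat_lit 0, nat_lit 0x2c8b29144, nat_lit 0x1d670a8ea, [], [], []⟩) (.leaf ⟨nat_lit 1, nat_lit 2, nat_lit 3, nat_lit 0xa42288a21061, nat_lit 0x411144,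 nat_lit 0xe31254652841, [], [], []⟩))) (.node (.node (.leaf ⟨nat_lit 0, nat_lit 1, nat_lit 1, nat_lit 0, nat_lit 0x65894738542, nat_lit 0x65948459942, [], [], []⟩) (.leaf ⟨nat_lit 0, nat_lit 1, nat_lit 1, nat_lit 0, nat_lit 67716, nat_lit 0x39cc6, [], [], []⟩)) (.node (.leaf ⟨nat_lit 2, nat_lit 0, nat_lit 0, nat_lit 5283, nat_lit 0, nat_lit 0, [], [], [nat_lit 0x422294222861, nat_lit 0x339ccb590c6]⟩) (.leaf ⟨nat_lit 1, nat_lit 7, nat_lit 7, nat_lit 0xa65a54842c61, nat_lit 0xb5896830c41, nat_lit 0x311d0b0a941, [], [], []⟩)))) (.node (.node (.node (.leaf ⟨nat_lit 0, nat_lit 1, nat_lit 1, nat_lit 0, nat_lit 6374, nat_lit 2178, [], [], []⟩) (.leaf ⟨nat_lit 0, nat_lit 1, nat_lit 1, nat_lit 0, nat_lit 0x3294222ceb, nat_lit 0x5114732d62, [], [], []⟩)) (.node (.leaf ⟨nat_lit 0, nat_lit 1, nat_lit 1, nat_lit 0, nat_lit 0x5acc15982a, nat_lit 0x5944a2894a, [], [], []⟩) (.leaf ⟨nat_lit 1, nat_lit 6, nat_lit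 6, nat_lit 0x64994220542, nat_lit 0x75286748941, nat_lit 0xa95a16459568, [], [], []⟩))) (.node (.node (.leaf ⟨nat_lit 0, nat_lit 1, nat_lit 1, nat_lit 0, nat_lit 0x210c6, nat_lit 67815, [], [], []⟩) (.leaf ⟨nat_lit 2, nat_lit 0, nat_lit 0, nat_lit 0x550c8a31041, nat_lit 0, nat_lit 0, [], [], [nat_lit 97, nat_lit 0x294c712ceb, nat_lit 35]⟩)) (.leaf ⟨nat_lit 0, nat_lit 1, nat_lit 1, nat_lit 0, nat_lit 0x218c71284b, nat_lit 0x5196620847, [], [], []⟩))))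

noncomputable def F13 : GT Fa := .node (.node (.node (.node (.node (.leaf ⟨nat_lit 2, nat_lit 0, nat_lit 0, nat_lit 5283, nat_lit 0, nat_lit 0, [], [], [nat_lit 3, nat_lit 3105]⟩) (.leaf ⟨nat_lit 0, nat_lit 1, nat_lit 1, nat_lit 0, nat_lit 0x2ccb3a8ea, nat_lit 0x2c8b2284a, [], [], []⟩)) (.node (.leaf ⟨nat_lit 0, nat_lit 1, nat_lit 1, nat_lit 0, nat_lit 0x14a32ceb, nat_lit 0x1445096b, [], [], []⟩) (.leaf ⟨nat_lit 2, nat_lit 0, nat_lit 0, nat_lit 0x31c685952b, nat_lit 0, nat_lit 0, [], [], [nat_lit 35, nat_lit 0x38967398c3, nat_lit 97]⟩))) (.node (.node (.leaf ⟨nat_lit 0, nat_lit 1, nat_lit 1, nat_lit 0, nat_lit 0x411d4431c41, nat_lit 0x531047590c7, [], [], []⟩) (.leaf ⟨nat_lit 0, nat_lit 1, nat_lit 1, nat_lit 0, nat_lit 0x5054151964, nat_lit 0x3a84b2acab, [], [], []⟩)) (.node (.leaf ⟨nat_lit 0, nat_lit 1, nat_lit 1, nat_lit 0, nat_lit 0x1108b0ac8b, nat_lit 0x51d4551ce6, [], [], []⟩) (.leaf ⟨nat_lit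 1, nat_lit 7, nat_lit 6, nat_lit 0xb129493ace2, nat_lit 0x7191085a102, nat_lit 0x1481254812545, [], [], []⟩)))) (.node (.node (.node (.leaf ⟨nat_lit 0, nat_lit 1, nat_lit 1, nat_lit 0, nat_lit 0x1096451566, nat_lit 0x1282b3a8c6, [], [], []⟩) (.leaf ⟨nat_lit 0, nat_lit 1, nat_lit 1, nat_lit 0, nat_lit 0x19643056b, nat_lit 0x294511d42, [], [], []⟩)) (.node (.leaf ⟨nat_lit 0, nat_lit 1, nat_lit 1, nat_lit 0, nat_lit 0x2c44318ea, nat_lit 0x2c8211cca, [], [], []⟩) (.leaf ⟨nat_lit 2, nat_lit 0, nat_lit 0, nat_lit 0x38d6558886, nat_lit 0, nat_lit 0, [], [], [nat_lit 257, nat_lit 0x1114a31549, nat_lit 41]⟩))) (.node (.node (.leaf ⟨nat_lit 0, nat_lit 1, nat_lit 1, nat_lit 0, nat_lit 0x55ac2b22c84, nat_lit 0x73a8ea2a941, [], [], []⟩) (.leaf ⟨nat_lit 0, nat_lit 1, nat_lit 1, nat_lit 0, nat_lit 0x3294159ce6, nat_lit 0x1108a2ad62, [], [], []⟩)) (.node (.leaf ⟨nat_lit 0, nat_lit 1, nat_lit 1, nat_lit 0, nat_lit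 7394, nat_lit 6276, [], [], []⟩) (.leaf ⟨nat_lit 0, nat_lit 9, nat_lit 9, nat_lit 0, nat_lit 0x2d6b5ace5, nat_lit 0x38c84494c4, [], [], []⟩))))) (.node (.node (.node (.node (.leaf ⟨nat_lit 0, nat_lit 1, nat_lit 1, nat_lit 0, nat_lit 2182, nat_lit 2278, [], [], []⟩) (.leaf ⟨nat_lit 0, nat_lit 1, nat_lit 1, nat_lit 0, nat_lit 0x528eb3ace2, nat_lit 0x311445116b, [], [], []⟩)) (.node (.leaf ⟨nat_lit 0, nat_lit 1, nat_lit 1, nat_lit 0, nat_lit 0x229460ac82, nat_lit 0x31d4512d67, [], [], []⟩) (.leaf ⟨nat_lit 0, nat_lit 2, nat_lit 2, nat_lit 0, nat_lit 0x33992622d29, nat_lit 0x6428e7590c7, [], [], []⟩))) (.node (.node (.leaf ⟨nat_lit 0, nat_lit 1, nat_lit 1, nat_lit 0, nat_lit 0xb2284251c41, nat_lit 0x53116632cea, [], [], []⟩) (.leaf ⟨nat_lit 0, nat_lit 1, nat_lit 1, nat_lit 0, nat_lit 0x5ad672a88a, nat_lit 0x59d612294a, [], [], []⟩)) (.node (.leaf ⟨nat_lit 0, nat_lit 1, nat_lit 1, nat_lit 0, nat_lit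 0x318e211c44, nat_lit 0x3988631042, [], [], []⟩) (.leaf ⟨nat_lit 1, nat_lit 7, nat_lit 7, nat_lit 0x63890242101, nat_lit 0x4ad2a12d66, nat_lit 0x4096b58967, [], [], []⟩)))) (.node (.node (.node (.leaf ⟨nat_lit 0, nat_lit 1, nat_lit 1, nat_lit 0, nat_lit 0x551c42528ab, nat_lit 0xa0ad6631161, [], [], []⟩) (.leaf ⟨nat_lit 0, nat_lit 1, nat_lit 1, nat_lit 0, nat_lit 0x116731541, nat_lit 0x156111147, [], [], []⟩)) (.node (.leaf ⟨nat_lit 0, nat_lit 1, nat_lit 1, nat_lit 0, nat_lit 0x18815acc1, nat_lit 0x144a514e2, [], [], []⟩) (.leaf ⟨nat_lit 1, nat_lit 6, nat_lit 6, nat_lit 0x1084b0acc1, nat_lit 0x3896659cc5, nat_lit 0x12c8b28942, [], [], []⟩))) (.node (.node (.leaf ⟨nat_lit 0, nat_lit 1, nat_lit 1, nat_lit 0, nat_lit 0x2ac445088b, nat_lit 0x51ccb39941, [], [], []⟩) (.leaf ⟨nat_lit 1, nat_lit 1, nat_lit 3, nat_lit 35, nat_lit 0, nat_lit 0, [], [], []⟩)) (.leaf ⟨nat_lit 0, nat_lit 1, nat_lit 1, nat_lit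 0, nat_lit 0x2a9470aceb, nat_lit 0x5114522d61, [], [], []⟩))))

noncomputable def F14 : GT Fa := .node (.node (.node (.node (.node (.leaf ⟨nat_lit 2, nat_lit 0, nat_lit 0, nat_lit 7, nat_lit 0, nat_lit 0, [], [], [nat_lit 4]⟩) (.leaf ⟨nat_lit 0, nat_lit 1, nat_lit 1, nat_lit 0, nat_lit 0x2054a39962, nat_lit 0x328445aca7, [], [], []⟩)) (.node (.leaf ⟨nat_lit 0, nat_lit 1, nat_lit 1, nat_lit 0, nat_lit 0x2094a12c81, nat_lit 0x29d465acc7, [], [], []⟩) (.leaf ⟨nat_lit 2, nat_lit 0, nat_lit 0, nat_lit 97, nat_lit 0, nat_lit 0, [], [], [nat_lit 0x22841598c3, nat_lit 35, nat_lit 0x5202a48c82]⟩))) (.node (.node (.leaf ⟨nat_lit 0, nat_lit 1, nat_lit 1, nat_lit 0, nat_lit 0x32cc73a8e2, nat_lit 0x3116420942, [], [], []⟩) (.leaf ⟨nat_lit 0, nat_lit 1, nat_lit 1, nat_lit 0, nat_lit 0x2ce759145, nat_lit 0x5675108a, [], [], []⟩)) (.node (.leaf ⟨nat_lit 0, nat_lit 1, nat_lit 1, nat_lit 0, nat_lit 0x73a84411ccb,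 nat_lit 0xa110c732c84, [], [], []⟩) (.leaf ⟨nat_lit 1, nat_lit 7, nat_lit 5, nat_lit 0x411c2b12861, nat_lit 0xab5914a4ad02, nat_lit 0xb124e651d6b, [], [], []⟩)))) (.node (.node (.node (.leaf ⟨nat_lit 0, nat_lit 1, nat_lit 1, nat_lit 0, nat_lit 0x528c151d61, nat_lit 0x2a88b2896b, [], [], []⟩) (.leaf ⟨nat_lit 0, nat_lit 1, nat_lit 1, nat_lit 0, nat_lit 0x110c739886, nat_lit 0x11c44208e6, [], [], []⟩)) (.node (.leaf ⟨nat_lit 0, nat_lit 1, nat_lit 1, nat_lit 0, nat_lit 0x328e252947, nat_lit 0x22d6b31162, [], [], []⟩) (.leaf ⟨nat_lit 2, nat_lit 0, nat_lit 0, nat_lit 261, nat_lit 0, nat_lit 0, [], [], [nat_lit 0x42c815ace6, nat_lit 169, nat_lit 0x11cca0a864]⟩))) (.node (.node (.leaf ⟨nat_lit 0, nat_lit 1, nat_lit 1, nat_lit 0, nat_lit 0x5096b2104a, nat_lit 0x598e7528cb, [], [], []⟩) (.leaf ⟨nat_lit 1, nat_lit 1, nat_lit 2, nat_lit 97, nat_lit 0, nat_lit 0, [], [], []⟩)) (.node (.leaf ⟨nat_lit 0, nat_lit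 1, nat_lit 1, nat_lit 0, nat_lit 69830, nat_lit 67814, [], [], []⟩) (.leaf ⟨nat_lit 0, nat_lit 9, nat_lit 9, nat_lit 0, nat_lit 0x3ad6b3188b, nat_lit 0xe63196322522, [], [], []⟩))))) (.node (.node (.node (.node (.leaf ⟨nat_lit 0, nat_lit 1, nat_lit 1, nat_lit 0, nat_lit 0x38886, nat_lit 72900, [], [], []⟩) (.leaf ⟨nat_lit 0, nat_lit 1, nat_lit 1, nat_lit 0, nat_lit 0x2c8b29142, nat_lit 0x19670a8ea, [], [], []⟩)) (.node (.leaf ⟨nat_lit 0, nat_lit 1, nat_lit 1, nat_lit 0, nat_lit 0x104b5acc1, nat_lit 0x144a528c7, [], [], []⟩) (.leaf ⟨nat_lit 2, nat_lit 0, nat_lit 0, nat_lit 0x411d4422d22, nat_lit 0, nat_lit 0, [], [], [nat_lit 97, nat_lit 0x21286712044, nat_lit 35]⟩))) (.node (.node (.leaf ⟨nat_lit 0, nat_lit 1, nat_lit 1, nat_lit 0, nat_lit 196, nat_lit 226, [], [], []⟩) (.leaf ⟨nat_lit 0, nat_lit 1, nat_lit 1, nat_lit 0, nat_lit 0x63aca251962, nat_lit 0x6509660a882, [], [], []⟩)) (.node (.leaf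 ⟨nat_lit 0, nat_lit 1, nat_lit 1, nat_lit 0, nat_lit 0x5114a228e7, nat_lit 0x211675aceb, [], [], []⟩) (.leaf ⟨nat_lit 1, nat_lit 5, nat_lit 7, nat_lit 0x4ac4432842, nat_lit 0x1473a8e221061, nat_lit 0x3125615ad61, [], [], []⟩)))) (.node (.node (.node (.leaf ⟨nat_lit 0, nat_lit 1, nat_lit 1, nat_lit 0, nat_lit 0x56658881, nat_lit 0x14e650945, [], [], []⟩) (.leaf ⟨nat_lit 0, nat_lit 1, nat_lit 1, nat_lit 0, nat_lit 0x31944528a2, nat_lit 0x3056b3ac42, [], [], []⟩)) (.node (.leaf ⟨nat_lit 0, nat_lit 1, nat_lit 1, nat_lit 0, nat_lit 0x3a8eb58946, nat_lit 0x12cca51164, [], [], []⟩) (.leaf ⟨nat_lit 1, nat_lit 6, nat_lit 6, nat_lit 0xc620c8651566, nat_lit 0x18c448d463ad67, nat_lit 0xb4888931d21, [], [], []⟩))) (.node (.node (.leaf ⟨nat_lit 0, nat_lit 1, nat_lit 1, nat_lit 0, nat_lit 0x7109645ac8b, nat_lit 0xa3a947518c4, [], [], []⟩) (.leaf ⟨nat_lit 0, nat_lit 3, nat_lit 3, nat_lit 0, nat_lit 0x5088b38886,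 nat_lit 0x515645114a, [], [], []⟩)) (.leaf ⟨nat_lit 0, nat_lit 1, nat_lit 1, nat_lit 0, nat_lit 0x1047598ea, nat_lit 0x2c82510c7, [], [], []⟩))))

noncomputable def F15 : GT Fa := .node (.node (.node (.node (.node (.leaf ⟨nat_lit 0, nat_lit 0, nat_lit 0, nat_lit 0, nat_lit 7, nat_lit 4, [], [], []⟩) (.leaf ⟨nat_lit 0, nat_lit 1, nat_lit 1, nat_lit 0, nat_lit 0x8a5116b, nat_lit 0x14a3ad67, [], [], []⟩)) (.node (.leaf ⟨nat_lit 0, nat_lit 1, nat_lit 1, nat_lit 0, nat_lit 0x116450546, nat_lit 0x96559d47, [], [], []⟩) (.leaf ⟨nat_lit 2, nat_lit 0, nat_lit 0, nat_lit 97, nat_lit 0, nat_lit 0, [], [], [nat_lit 0x520aa48c82, nat_lit 35, nat_lit 0x1914122cc6]⟩))) (.node (.node (.leaf ⟨nat_lit 0, nat_lit 1, nat_lit 1, nat_lit 0, nat_lit 0x588e659d45, nat_lit 0xac8a110ca, [], [], []⟩) (.leaf ⟨nat_lit 0, nat_lit 1, nat_lit 1, nat_lit 0, nat_lit 2116, nat_lit 7366, [], [], []⟩)) (.node (.leaf ⟨nat_lit 0,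 nat_lit 1, nat_lit 1, nat_lit 0, nat_lit 0x18845acaa, nat_lit 0x2c2a51ce2, [], [], []⟩) (.leaf ⟨nat_lit 1, nat_lit 6, nat_lit 7, nat_lit 0x851d4842048, nat_lit 0x6318e220c84, nat_lit 0xa1a92a51042, [], [], []⟩)))) (.node (.node (.node (.leaf ⟨nat_lit 0, nat_lit 1, nat_lit 1, nat_lit 0, nat_lit 0x55acc459161, nat_lit 0x551d4712941, [], [], []⟩) (.leaf ⟨nat_lit 0, nat_lit 1, nat_lit 1, nat_lit 0, nat_lit 0x2c2a528eb, nat_lit 0x288b5acaa, [], [], []⟩)) (.node (.leaf ⟨nat_lit 0, nat_lit 1, nat_lit 1, nat_lit 0, nat_lit 0x1141518c1, nat_lit 0x144259567, [], [], []⟩) (.leaf ⟨nat_lit 1, nat_lit 5, nat_lit 3, nat_lit 0x2096250843, nat_lit 0x1914651963, nat_lit 0x5228ca22d63, [], [], []⟩))) (.node (.node (.leaf ⟨nat_lit 0, nat_lit 1, nat_lit 1, nat_lit 0, nat_lit 0x5194459162, nat_lit 0x328ea3ac4b, [], [], []⟩) (.leaf ⟨nat_lit 0, nat_lit 2, nat_lit 2, nat_lit 0, nat_lit 0x142218eb, nat_lit 0x2988b31965,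 [], [], []⟩)) (.node (.leaf ⟨nat_lit 0, nat_lit 1, nat_lit 1, nat_lit 0, nat_lit 0x51d473114a, nat_lit 0x5ace222c8b, [], [], []⟩) (.leaf ⟨nat_lit 0, nat_lit 9, nat_lit 9, nat_lit 0, nat_lit 0x14a2ad61, nat_lit 0xaa5056b, [], [], []⟩))))) (.node (.node (.node (.node (.leaf ⟨nat_lit 0, nat_lit 1, nat_lit 1, nat_lit 0, nat_lit 0x31c4b3ad61, nat_lit 0x2a94451882, [], [], []⟩) (.leaf ⟨nat_lit 0, nat_lit 1, nat_lit 1, nat_lit 0, nat_lit 2178, nat_lit 6374, [], [], []⟩)) (.node (.leaf ⟨nat_lit 0, nat_lit 1, nat_lit 1, nat_lit 0, nat_lit 0xc65ad6b, nat_lit 0x14a52842, [], [], []⟩) (.leaf ⟨nat_lit 2, nat_lit 0, nat_lit 0, nat_lit 0x6428e7590c7, nat_lit 0, nat_lit 0, [], [], [nat_lit 97, nat_lit 0x7324c41acc6, nat_lit 35]⟩))) (.node (.node (.leaf ⟨nat_lit 0, nat_lit 1, nat_lit 1, nat_lit 0, nat_lit 0x51ccb39941, nat_lit 0x2ac445088b, [], [], []⟩) (.leaf ⟨nat_lit 0, nat_lit 1, nat_lit 1, nat_lit 0, nat_lit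 0x6399445288a, nat_lit 0xb3ad6758882, [], [], []⟩)) (.node (.leaf ⟨nat_lit 0, nat_lit 1, nat_lit 1, nat_lit 0, nat_lit 0x109645ac8b, nat_lit 0x51d4a3a8c6, [], [], []⟩) (.leaf ⟨nat_lit 1, nat_lit 5, nat_lit 7, nat_lit 0x4a94430561, nat_lit 0x665292931142, nat_lit 0x529c445ac86, [], [], []⟩)))) (.node (.node (.node (.leaf ⟨nat_lit 0, nat_lit 1, nat_lit 1, nat_lit 0, nat_lit 0x515445288b, nat_lit 0x51d6b3ac2b, [], [], []⟩) (.leaf ⟨nat_lit 0, nat_lit 1, nat_lit 1, nat_lit 0, nat_lit 0x1c2b5ac44, nat_lit 0x1cca528a4, [], [], []⟩)) (.node (.leaf ⟨nat_lit 0, nat_lit 1, nat_lit 1, nat_lit 0, nat_lit 0xace63a944, nat_lit 0x3ad6411145, [], [], []⟩) (.leaf ⟨nat_lit 1, nat_lit 6, nat_lit 6, nat_lit 0x6b5a1664944a, nat_lit 0x22ca212ce1, nat_lit 0x681208a52922, [], [], []⟩))) (.node (.node (.leaf ⟨nat_lit 0, nat_lit 1, nat_lit 1, nat_lit 0, nat_lit 0x598ca51964, nat_lit 0x3a84b5884a, [], [], []⟩) (.leaf ⟨nat_lit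 0, nat_lit 3, nat_lit 3, nat_lit 0, nat_lit 0x32ce75944a, nat_lit 0x38967398ca, [], [], []⟩)) (.leaf ⟨nat_lit 0, nat_lit 1, nat_lit 1, nat_lit 0, nat_lit 0x50567518c7, nat_lit 0x2084b228ab, [], [], []⟩))))

noncomputable def F : GT Fa := (.node (.node (.node (.node F0 F8) (.node F4 F12)) (.node (.node F2 F10) (.node F6 F14))) (.node (.node (.node F1 F9) (.node F5 F13)) (.node (.node F3 F11) (.node F7 F15))))

noncomputable def W0 : GT (List ℕ) := .node (.node (.node (.node (.leaf ([])) (.leaf ([nat_lit 11, nat_lit 7, nat_lit 0, nat_lit 11, nat_lit 0, nat_lit 7, nat_lit 11]))) (.leaf ([nat_lit 11, nat_lit 7, nat_lit 11]))) (.node (.leaf ([nat_lit 11, nat_lit 0, nat_lit 2, nat_lit 11])) (.leaf ([nat_lit 11, nat_lit 2, nat_lit 1, nat_lit 7, nat_lit 11])))) (.node (.node (.node (.leaf ([nat_lit 11])) (.leaf ([nat_lit 11, nat_lit 0, nat_lit 8, nat_lit 11, nat_lit 0, nat_lit 7, nat_lit 11, nat_lit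 0, nat_lit 2, nat_lit 11]))) (.leaf ([nat_lit 11, nat_lit 0, nat_lit 7, nat_lit 11]))) (.node (.leaf ([nat_lit 11, nat_lit 2, nat_lit 0, nat_lit 11])) (.leaf ([nat_lit 11, nat_lit 0, nat_lit 7, nat_lit 11, nat_lit 0, nat_lit 2, nat_lit 11]))))

noncomputable def W : GT (List ℕ) := W0

/-- the relators with the new generator -/
def R : List (List ℕ × List ℕ × List ℕ) := [([nat_lit 11, nat_lit 11, nat_lit 11, nat_lit 11, nat_lit 11], [], []),
  ([nat_lit 4, nat_lit 11, nat_lit 0, nat_lit 11, nat_lit 11], [], []),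
  ([nat_lit 12, nat_lit 5, nat_lit 11, nat_lit 1], [], []),
  ([nat_lit 2, nat_lit 11, nat_lit 2, nat_lit 11, nat_lit 2, nat_lit 11], [], []),
  ([nat_lit 12, nat_lit 6, nat_lit 11, nat_lit 3], [], [])]

/-- the data -/
noncomputable def P : Par := ⟨HNAct.T, nat_lit 11, fun y => Nat.land (Nat.shiftRight (nat_lit 0xb6254740c20308a4) (Nat.mul (nat_lit 5) y)) (nat_lit 31), [nat_lit 0, nat_lit 139, nat_lit 25, nat_lit 2], nat_lit 165, nat_lit 33, [], [], F.get, W.get, R⟩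

def D0 : List De := [⟨nat_lit 2, nat_lit 0, nat_lit 0, nat_lit 0, false, nat_lit 0⟩,
  ⟨nat_lit 3, nat_lit 0, nat_lit 0, nat_lit 0, false, nat_lit 4⟩,
  ⟨nat_lit 3, nat_lit 0, nat_lit 0, nat_lit 0, true, nat_lit 0⟩,
  ⟨nat_lit 3, nat_lit 0, nat_lit 0, nat_lit 1, false, nat_lit 1⟩,
  ⟨nat_lit 3, nat_lit 0, nat_lit 0, nat_lit 1, false, nat_lit 3⟩,
  ⟨nat_lit 3, nat_lit 0, nat_lit 0, nat_lit 1, false, nat_lit 4⟩,
  ⟨nat_lit 3, nat_lit 0, nat_lit 0, nat_lit 1, true, nat_lit 1⟩,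
  ⟨nat_lit 3, nat_lit 0, nat_lit 0, nat_lit 2, false, nat_lit 0⟩,
  ⟨nat_lit 1, nat_lit 0, nat_lit 0, nat_lit 0, false, nat_lit 0⟩,
  ⟨nat_lit 0, nat_lit 4, nat_lit 0x2000000000080000000000073000000000004, nat_lit 0, false, nat_lit 0⟩,
  ⟨nat_lit 3, nat_lit 0, nat_lit 0, nat_lit 3, false, nat_lit 3⟩,
  ⟨nat_lit 3, nat_lit 0, nat_lit 0, nat_lit 3, false, nat_lit 5⟩,
  ⟨nat_lit 3, nat_lit 0, nat_lit 0, nat_lit 3, true, nat_lit 0⟩,
  ⟨nat_lit 3, nat_lit 0, nat_lit 0, nat_lit 3, true, nat_lit 4⟩,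
  ⟨nat_lit 3, nat_lit 0, nat_lit 0, nat_lit 4, false, nat_lit 0⟩,
  ⟨nat_lit 1, nat_lit 0, nat_lit 0, nat_lit 0, false, nat_lit 0⟩,
  ⟨nat_lit 0, nat_lit 4, nat_lit 0x20000000000f00000000000e3000000000004, nat_lit 0, false, nat_lit 0⟩,
  ⟨nat_lit 0, nat_lit 16, nat_lit 0x98000000000100000000000100000000000098000000000108000000000108000000000108000000000090000000000090000000000108000000000108000000000098000000000100000000000100000000000098000000000108, nat_lit 0, false, nat_lit 0⟩,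
  ⟨nat_lit 0, nat_lit 17, nat_lit 0x98000000000098000000000108000000000108000000000110000000000110000000000110000000000090000000000110000000000090000000000118000000000108000000000110000000000098000000000118000000000118000000000090, nat_lit 0, false, nat_lit 0⟩,
  ⟨nat_lit 0, nat_lit 17, nat_lit 0x108000000000108000000000120000000000098000000000100000000000098000000000128000000000110000000000098000000000110000000000110000000000120000000000120000000000098000000000120000000000108000000000098, nat_lit 0, false, nat_lit 0⟩,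
  ⟨nat_lit 0, nat_lit 20, nat_lit 0x118000000000138000000000128000000000138000000000120000000000108000000000120000000000098000000000090000000000128000000000110000000000128000000000100000000000138000000000108000000000120000000000118000000000120000000000100000000000090, nat_lit 0, false, nat_lit 0⟩,
  ⟨nat_lit 0, nat_lit 20, nat_lit 0x98000000000100000000000100000000000090000000000090000000000100000000000090000000000090000000000090000000000108000000000108000000000098000000000100000000000090000000000108000000000108000000000098000000000098000000000100000000000100, nat_lit 0, false, nat_lit 0⟩,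
  ⟨nat_lit 0, nat_lit 15, nat_lit 0x100000000000098000000000098000000000100000000000108000000000108000000000108000000000090000000000100000000000090000000000098000000000100000000000090000000000108000000000090, nat_lit 0, false, nat_lit 0⟩,
  ⟨nat_lit 0, nat_lit 17, nat_lit 0x90000000000158000000000090000000000168000000000158000000000158000000000168000000000108000000000168000000000158000000000100000000000108000000000158000000000100000000000098000000000168000000000090, nat_lit 0, false, nat_lit 0⟩,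
  ⟨nat_lit 0, nat_lit 23, nat_lit 0x168000000000178000000000178000000000158000000000098000000000100000000000168000000000178000000000178000000000158000000000108000000000158000000000108000000000170000000000108000000000168000000000158000000000170000000000168000000000178000000000100000000000170000000000090, nat_lit 0, false, nat_lit 0⟩,
  ⟨nat_lit 0, nat_lit 2, nat_lit 0x108000000000108, nat_lit 0, false, nat_lit 0⟩,
  ⟨nat_lit 0, nat_lit 2, nat_lit 0x180000000000190, nat_lit 0, false, nat_lit 0⟩,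
  ⟨nat_lit 0, nat_lit 2, nat_lit 0x160000000000170, nat_lit 0, false, nat_lit 0⟩,
  ⟨nat_lit 0, nat_lit 2, nat_lit 0x108000000000090, nat_lit 0, false, nat_lit 0⟩,
  ⟨nat_lit 0, nat_lit 2, nat_lit 0x980000000001c0, nat_lit 0, false, nat_lit 0⟩,
  ⟨nat_lit 0, nat_lit 2, nat_lit 0x1000000000001d0, nat_lit 0, false, nat_lit 0⟩,
  ⟨nat_lit 0, nat_lit 2, nat_lit 0x1800000000001b0, nat_lit 0, false, nat_lit 0⟩,
  ⟨nat_lit 1, nat_lit 0, nat_lit 0, nat_lit 0, false, nat_lit 0⟩,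
  ⟨nat_lit 0, nat_lit 6, nat_lit 0x200000000020000000000000a0000000001e10000000001f1000000000053, nat_lit 0, false, nat_lit 0⟩,
  ⟨nat_lit 4, nat_lit 0, nat_lit 0, nat_lit 33, false, nat_lit 0⟩,
  ⟨nat_lit 4, nat_lit 0, nat_lit 0, nat_lit 33, false, nat_lit 9⟩,
  ⟨nat_lit 4, nat_lit 0, nat_lit 0, nat_lit 33, false, nat_lit 18⟩,
  ⟨nat_lit 4, nat_lit 0, nat_lit 0, nat_lit 33, true, nat_lit 19⟩,
  ⟨nat_lit 0, nat_lit 2, nat_lit 0x170000000000090, nat_lit 0, false, nat_lit 0⟩,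
  ⟨nat_lit 0, nat_lit 2, nat_lit 0x150000000000260, nat_lit 0, false, nat_lit 0⟩,
  ⟨nat_lit 0, nat_lit 2, nat_lit 0x150000000000160, nat_lit 0, false, nat_lit 0⟩,
  ⟨nat_lit 0, nat_lit 2, nat_lit 0x170000000000280, nat_lit 0, false, nat_lit 0⟩,
  ⟨nat_lit 0, nat_lit 2, nat_lit 0x180000000000090, nat_lit 0, false, nat_lit 0⟩,
  ⟨nat_lit 0, nat_lit 2, nat_lit 0x980000000002a0, nat_lit 0, false, nat_lit 0⟩,
  ⟨nat_lit 0, nat_lit 2, nat_lit 0x1780000000002b0, nat_lit 0, false, nat_lit 0⟩,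
  ⟨nat_lit 0, nat_lit 2, nat_lit 0x160000000000150, nat_lit 0, false, nat_lit 0⟩,
  ⟨nat_lit 0, nat_lit 2, nat_lit 0x1780000000002d0, nat_lit 0, false, nat_lit 0⟩,
  ⟨nat_lit 0, nat_lit 2, nat_lit 0x1800000000002e0, nat_lit 0, false, nat_lit 0⟩,
  ⟨nat_lit 1, nat_lit 0, nat_lit 0, nat_lit 0, false, nat_lit 0⟩,
  ⟨nat_lit 0, nat_lit 7, nat_lit 0x200000000030000000000000a0000000002c10000000002f1000000000181000000000243, nat_lit 0, false, nat_lit 0⟩,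
  ⟨nat_lit 4, nat_lit 0, nat_lit 0, nat_lit 49, false, nat_lit 0⟩,
  ⟨nat_lit 4, nat_lit 0, nat_lit 0, nat_lit 49, false, nat_lit 9⟩,
  ⟨nat_lit 4, nat_lit 0, nat_lit 0, nat_lit 49, true, nat_lit 11⟩,
  ⟨nat_lit 4, nat_lit 0, nat_lit 0, nat_lit 49, true, nat_lit 20⟩,
  ⟨nat_lit 0, nat_lit 2, nat_lit 0x178000000000178, nat_lit 0, false, nat_lit 0⟩,
  ⟨nat_lit 0, nat_lit 2, nat_lit 0x98000000000108, nat_lit 0, false, nat_lit 0⟩,
  ⟨nat_lit 0, nat_lit 2, nat_lit 0x1500000000002d0, nat_lit 0, false, nat_lit 0⟩,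
  ⟨nat_lit 0, nat_lit 2, nat_lit 0x160000000000380, nat_lit 0, false, nat_lit 0⟩,
  ⟨nat_lit 0, nat_lit 2, nat_lit 0x170000000000390, nat_lit 0, false, nat_lit 0⟩,
  ⟨nat_lit 0, nat_lit 2, nat_lit 0x100000000000090, nat_lit 0, false, nat_lit 0⟩,
  ⟨nat_lit 0, nat_lit 2, nat_lit 0x900000000003b0, nat_lit 0, false, nat_lit 0⟩,
  ⟨nat_lit 0, nat_lit 2, nat_lit 0x1700000000003c0, nat_lit 0, false, nat_lit 0⟩,
  ⟨nat_lit 0, nat_lit 2, nat_lit 0x178000000000160, nat_lit 0, false, nat_lit 0⟩,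
  ⟨nat_lit 0, nat_lit 2, nat_lit 0x1500000000003e0, nat_lit 0, false, nat_lit 0⟩,
  ⟨nat_lit 0, nat_lit 2, nat_lit 0x1600000000003f0, nat_lit 0, false, nat_lit 0⟩,
  ⟨nat_lit 0, nat_lit 2, nat_lit 0x90000000000090, nat_lit 0, false, nat_lit 0⟩,
  ⟨nat_lit 0, nat_lit 2, nat_lit 0x150000000000410, nat_lit 0, false, nat_lit 0⟩,
  ⟨nat_lit 0, nat_lit 2, nat_lit 0x160000000000178, nat_lit 0, false, nat_lit 0⟩,
  ⟨nat_lit 0, nat_lit 2, nat_lit 0x160000000000100, nat_lit 0, false, nat_lit 0⟩,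
  ⟨nat_lit 0, nat_lit 2, nat_lit 0x180000000000160, nat_lit 0, false, nat_lit 0⟩,
  ⟨nat_lit 0, nat_lit 2, nat_lit 0x160000000000450, nat_lit 0, false, nat_lit 0⟩,
  ⟨nat_lit 0, nat_lit 2, nat_lit 0x170000000000460, nat_lit 0, false, nat_lit 0⟩,
  ⟨nat_lit 0, nat_lit 2, nat_lit 0x98000000000100, nat_lit 0, false, nat_lit 0⟩,
  ⟨nat_lit 0, nat_lit 2, nat_lit 0x160000000000480, nat_lit 0, false, nat_lit 0⟩,
  ⟨nat_lit 0, nat_lit 2, nat_lit 0x170000000000170, nat_lit 0, false, nat_lit 0⟩,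
  ⟨nat_lit 0, nat_lit 2, nat_lit 0x108000000000098, nat_lit 0, false, nat_lit 0⟩,
  ⟨nat_lit 0, nat_lit 2, nat_lit 0x1600000000004b0, nat_lit 0, false, nat_lit 0⟩,
  ⟨nat_lit 0, nat_lit 2, nat_lit 0x1000000000004c0, nat_lit 0, false, nat_lit 0⟩,
  ⟨nat_lit 0, nat_lit 2, nat_lit 0x180000000000280, nat_lit 0, false, nat_lit 0⟩,
  ⟨nat_lit 0, nat_lit 2, nat_lit 0x1500000000004e0, nat_lit 0, false, nat_lit 0⟩,
  ⟨nat_lit 0, nat_lit 2, nat_lit 0x178000000000440, nat_lit 0, false, nat_lit 0⟩,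
  ⟨nat_lit 0, nat_lit 2, nat_lit 0x170000000000160, nat_lit 0, false, nat_lit 0⟩,
  ⟨nat_lit 0, nat_lit 2, nat_lit 0x170000000000510, nat_lit 0, false, nat_lit 0⟩,
  ⟨nat_lit 0, nat_lit 2, nat_lit 0x150000000000108, nat_lit 0, false, nat_lit 0⟩,
  ⟨nat_lit 0, nat_lit 2, nat_lit 0x160000000000090, nat_lit 0, false, nat_lit 0⟩,
  ⟨nat_lit 0, nat_lit 2, nat_lit 0x98000000000540, nat_lit 0, false, nat_lit 0⟩,
  ⟨nat_lit 0, nat_lit 2, nat_lit 0x180000000000100, nat_lit 0, false, nat_lit 0⟩,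
  ⟨nat_lit 0, nat_lit 2, nat_lit 0x178000000000460, nat_lit 0, false, nat_lit 0⟩,
  ⟨nat_lit 0, nat_lit 2, nat_lit 0x180000000000570, nat_lit 0, false, nat_lit 0⟩,
  ⟨nat_lit 0, nat_lit 2, nat_lit 0x100000000000100, nat_lit 0, false, nat_lit 0⟩,
  ⟨nat_lit 0, nat_lit 2, nat_lit 0x180000000000590, nat_lit 0, false, nat_lit 0⟩,
  ⟨nat_lit 0, nat_lit 2, nat_lit 0x1000000000005a0, nat_lit 0, false, nat_lit 0⟩,
  ⟨nat_lit 0, nat_lit 2, nat_lit 0x1600000000003e0, nat_lit 0, false, nat_lit 0⟩,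
  ⟨nat_lit 0, nat_lit 2, nat_lit 0x1600000000002e0, nat_lit 0, false, nat_lit 0⟩,
  ⟨nat_lit 0, nat_lit 2, nat_lit 0x90000000000108, nat_lit 0, false, nat_lit 0⟩,
  ⟨nat_lit 0, nat_lit 2, nat_lit 0x178000000000150, nat_lit 0, false, nat_lit 0⟩,
  ⟨nat_lit 0, nat_lit 2, nat_lit 0x1780000000005f0, nat_lit 0, false, nat_lit 0⟩,
  ⟨nat_lit 0, nat_lit 2, nat_lit 0x160000000000600, nat_lit 0, false, nat_lit 0⟩,
  ⟨nat_lit 0, nat_lit 2, nat_lit 0x90000000000410, nat_lit 0, false, nat_lit 0⟩,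
  ⟨nat_lit 0, nat_lit 2, nat_lit 0x178000000000620, nat_lit 0, false, nat_lit 0⟩,
  ⟨nat_lit 0, nat_lit 2, nat_lit 0x180000000000178, nat_lit 0, false, nat_lit 0⟩,
  ⟨nat_lit 0, nat_lit 2, nat_lit 0x160000000000640, nat_lit 0, false, nat_lit 0⟩,
  ⟨nat_lit 0, nat_lit 2, nat_lit 0x1700000000001d0, nat_lit 0, false, nat_lit 0⟩,
  ⟨nat_lit 0, nat_lit 2, nat_lit 0x1700000000002d0, nat_lit 0, false, nat_lit 0⟩,
  ⟨nat_lit 0, nat_lit 2, nat_lit 0x150000000000670, nat_lit 0, false, nat_lit 0⟩,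
  ⟨nat_lit 0, nat_lit 2, nat_lit 0x150000000000090, nat_lit 0, false, nat_lit 0⟩,
  ⟨nat_lit 0, nat_lit 2, nat_lit 0x150000000000510, nat_lit 0, false, nat_lit 0⟩,
  ⟨nat_lit 0, nat_lit 2, nat_lit 0x1700000000006a0, nat_lit 0, false, nat_lit 0⟩,
  ⟨nat_lit 0, nat_lit 2, nat_lit 0x1600000000006b0, nat_lit 0, false, nat_lit 0⟩,
  ⟨nat_lit 0, nat_lit 2, nat_lit 0x150000000000520, nat_lit 0, false, nat_lit 0⟩,
  ⟨nat_lit 0, nat_lit 2, nat_lit 0x100000000000260, nat_lit 0, false, nat_lit 0⟩,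
  ⟨nat_lit 0, nat_lit 2, nat_lit 0x170000000000150, nat_lit 0, false, nat_lit 0⟩,
  ⟨nat_lit 0, nat_lit 2, nat_lit 0x1700000000006f0, nat_lit 0, false, nat_lit 0⟩,
  ⟨nat_lit 0, nat_lit 2, nat_lit 0x160000000000700, nat_lit 0, false, nat_lit 0⟩,
  ⟨nat_lit 0, nat_lit 2, nat_lit 0x100000000000098, nat_lit 0, false, nat_lit 0⟩,
  ⟨nat_lit 0, nat_lit 2, nat_lit 0x90000000000720, nat_lit 0, false, nat_lit 0⟩,
  ⟨nat_lit 0, nat_lit 2, nat_lit 0x100000000000410, nat_lit 0, false, nat_lit 0⟩,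
  ⟨nat_lit 0, nat_lit 2, nat_lit 0x180000000000740, nat_lit 0, false, nat_lit 0⟩,
  ⟨nat_lit 0, nat_lit 2, nat_lit 0x1800000000005f0, nat_lit 0, false, nat_lit 0⟩,
  ⟨nat_lit 0, nat_lit 2, nat_lit 0x178000000000108, nat_lit 0, false, nat_lit 0⟩,
  ⟨nat_lit 0, nat_lit 2, nat_lit 0x90000000000770, nat_lit 0, false, nat_lit 0⟩,
  ⟨nat_lit 0, nat_lit 2, nat_lit 0x160000000000280, nat_lit 0, false, nat_lit 0⟩,
  ⟨nat_lit 0, nat_lit 2, nat_lit 0x178000000000790, nat_lit 0, false, nat_lit 0⟩,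
  ⟨nat_lit 0, nat_lit 2, nat_lit 0x108000000000410, nat_lit 0, false, nat_lit 0⟩,
  ⟨nat_lit 0, nat_lit 2, nat_lit 0x1080000000007b0, nat_lit 0, false, nat_lit 0⟩,
  ⟨nat_lit 0, nat_lit 2, nat_lit 0x150000000000170, nat_lit 0, false, nat_lit 0⟩,
  ⟨nat_lit 0, nat_lit 2, nat_lit 0x178000000000098, nat_lit 0, false, nat_lit 0⟩,
  ⟨nat_lit 0, nat_lit 2, nat_lit 0x1000000000007e0, nat_lit 0, false, nat_lit 0⟩,
  ⟨nat_lit 0, nat_lit 2, nat_lit 0x160000000000360, nat_lit 0, false, nat_lit 0⟩,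
  ⟨nat_lit 0, nat_lit 2, nat_lit 0x90000000000100, nat_lit 0, false, nat_lit 0⟩,
  ⟨nat_lit 0, nat_lit 2, nat_lit 0x180000000000810, nat_lit 0, false, nat_lit 0⟩,
  ⟨nat_lit 0, nat_lit 2, nat_lit 0x170000000000820, nat_lit 0, false, nat_lit 0⟩,
  ⟨nat_lit 0, nat_lit 2, nat_lit 0x1000000000003b0, nat_lit 0, false, nat_lit 0⟩,
  ⟨nat_lit 0, nat_lit 2, nat_lit 0x178000000000840, nat_lit 0, false, nat_lit 0⟩,
  ⟨nat_lit 0, nat_lit 2, nat_lit 0x900000000001c0, nat_lit 0, false, nat_lit 0⟩,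
  ⟨nat_lit 0, nat_lit 2, nat_lit 0x178000000000860, nat_lit 0, false, nat_lit 0⟩,
  ⟨nat_lit 0, nat_lit 2, nat_lit 0x180000000000098, nat_lit 0, false, nat_lit 0⟩,
  ⟨nat_lit 0, nat_lit 2, nat_lit 0x90000000000880, nat_lit 0, false, nat_lit 0⟩,
  ⟨nat_lit 0, nat_lit 2, nat_lit 0x1600000000001f0, nat_lit 0, false, nat_lit 0⟩,
  ⟨nat_lit 0, nat_lit 2, nat_lit 0x150000000000720, nat_lit 0, false, nat_lit 0⟩,
  ⟨nat_lit 0, nat_lit 2, nat_lit 0x170000000000860, nat_lit 0, false, nat_lit 0⟩,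
  ⟨nat_lit 0, nat_lit 2, nat_lit 0x1600000000006a0, nat_lit 0, false, nat_lit 0⟩,
  ⟨nat_lit 0, nat_lit 2, nat_lit 0x1780000000008d0, nat_lit 0, false, nat_lit 0⟩,
  ⟨nat_lit 0, nat_lit 2, nat_lit 0x150000000000430, nat_lit 0, false, nat_lit 0⟩,
  ⟨nat_lit 0, nat_lit 2, nat_lit 0x1600000000008f0, nat_lit 0, false, nat_lit 0⟩,
  ⟨nat_lit 0, nat_lit 2, nat_lit 0x160000000000420, nat_lit 0, false, nat_lit 0⟩,
  ⟨nat_lit 0, nat_lit 2, nat_lit 0x150000000000100, nat_lit 0, false, nat_lit 0⟩,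
  ⟨nat_lit 0, nat_lit 2, nat_lit 0x1700000000003b0, nat_lit 0, false, nat_lit 0⟩,
  ⟨nat_lit 0, nat_lit 2, nat_lit 0x160000000000098, nat_lit 0, false, nat_lit 0⟩,
  ⟨nat_lit 0, nat_lit 2, nat_lit 0x170000000000940, nat_lit 0, false, nat_lit 0⟩,
  ⟨nat_lit 0, nat_lit 2, nat_lit 0x178000000000280, nat_lit 0, false, nat_lit 0⟩,
  ⟨nat_lit 0, nat_lit 2, nat_lit 0x160000000000960, nat_lit 0, false, nat_lit 0⟩,
  ⟨nat_lit 0, nat_lit 2, nat_lit 0x180000000000970, nat_lit 0, false, nat_lit 0⟩,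
  ⟨nat_lit 0, nat_lit 2, nat_lit 0x170000000000880, nat_lit 0, false, nat_lit 0⟩,
  ⟨nat_lit 0, nat_lit 2, nat_lit 0x160000000000290, nat_lit 0, false, nat_lit 0⟩,
  ⟨nat_lit 0, nat_lit 2, nat_lit 0x160000000000108, nat_lit 0, false, nat_lit 0⟩,
  ⟨nat_lit 0, nat_lit 2, nat_lit 0x980000000009b0, nat_lit 0, false, nat_lit 0⟩,
  ⟨nat_lit 0, nat_lit 2, nat_lit 0x1600000000003b0, nat_lit 0, false, nat_lit 0⟩,
  ⟨nat_lit 0, nat_lit 2, nat_lit 0x150000000000098, nat_lit 0, false, nat_lit 0⟩,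
  ⟨nat_lit 0, nat_lit 2, nat_lit 0x1080000000009e0, nat_lit 0, false, nat_lit 0⟩,
  ⟨nat_lit 0, nat_lit 2, nat_lit 0x170000000000420, nat_lit 0, false, nat_lit 0⟩,
  ⟨nat_lit 0, nat_lit 2, nat_lit 0x1700000000001b0, nat_lit 0, false, nat_lit 0⟩,
  ⟨nat_lit 0, nat_lit 2, nat_lit 0x150000000000a10, nat_lit 0, false, nat_lit 0⟩,
  ⟨nat_lit 0, nat_lit 2, nat_lit 0x150000000000390, nat_lit 0, false, nat_lit 0⟩,
  ⟨nat_lit 0, nat_lit 2, nat_lit 0x180000000000150, nat_lit 0, false, nat_lit 0⟩,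
  ⟨nat_lit 0, nat_lit 2, nat_lit 0x1800000000003b0, nat_lit 0, false, nat_lit 0⟩,
  ⟨nat_lit 0, nat_lit 2, nat_lit 0x1780000000003f0, nat_lit 0, false, nat_lit 0⟩,
  ⟨nat_lit 0, nat_lit 2, nat_lit 0x1780000000003b0, nat_lit 0, false, nat_lit 0⟩,
  ⟨nat_lit 0, nat_lit 2, nat_lit 0x178000000000100, nat_lit 0, false, nat_lit 0⟩,
  ⟨nat_lit 0, nat_lit 2, nat_lit 0x98000000000190, nat_lit 0, false, nat_lit 0⟩,
  ⟨nat_lit 0, nat_lit 2, nat_lit 0x178000000000430, nat_lit 0, false, nat_lit 0⟩,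
  ⟨nat_lit 0, nat_lit 2, nat_lit 0x150000000000810, nat_lit 0, false, nat_lit 0⟩,
  ⟨nat_lit 0, nat_lit 2, nat_lit 0x170000000000ab0, nat_lit 0, false, nat_lit 0⟩,
  ⟨nat_lit 0, nat_lit 2, nat_lit 0x1800000000009a0, nat_lit 0, false, nat_lit 0⟩,
  ⟨nat_lit 0, nat_lit 2, nat_lit 0x170000000000108, nat_lit 0, false, nat_lit 0⟩,
  ⟨nat_lit 0, nat_lit 2, nat_lit 0x170000000000ae0, nat_lit 0, false, nat_lit 0⟩,
  ⟨nat_lit 0, nat_lit 2, nat_lit 0x1700000000009d0, nat_lit 0, false, nat_lit 0⟩,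
  ⟨nat_lit 0, nat_lit 2, nat_lit 0x900000000005e0, nat_lit 0, false, nat_lit 0⟩,
  ⟨nat_lit 0, nat_lit 2, nat_lit 0x180000000000920, nat_lit 0, false, nat_lit 0⟩,
  ⟨nat_lit 0, nat_lit 2, nat_lit 0x98000000000b20, nat_lit 0, false, nat_lit 0⟩,
  ⟨nat_lit 0, nat_lit 2, nat_lit 0x1600000000008b0, nat_lit 0, false, nat_lit 0⟩,
  ⟨nat_lit 0, nat_lit 2, nat_lit 0x150000000000970, nat_lit 0, false, nat_lit 0⟩,
  ⟨nat_lit 0, nat_lit 2, nat_lit 0x1600000000004a0, nat_lit 0, false, nat_lit 0⟩,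
  ⟨nat_lit 0, nat_lit 2, nat_lit 0x180000000000790, nat_lit 0, false, nat_lit 0⟩,
  ⟨nat_lit 0, nat_lit 2, nat_lit 0x150000000000790, nat_lit 0, false, nat_lit 0⟩,
  ⟨nat_lit 0, nat_lit 2, nat_lit 0x1800000000002d0, nat_lit 0, false, nat_lit 0⟩,
  ⟨nat_lit 0, nat_lit 2, nat_lit 0x1000000000002a0, nat_lit 0, false, nat_lit 0⟩,
  ⟨nat_lit 0, nat_lit 2, nat_lit 0x170000000000a30, nat_lit 0, false, nat_lit 0⟩,
  ⟨nat_lit 0, nat_lit 2, nat_lit 0x150000000000a40, nat_lit 0, false, nat_lit 0⟩,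
  ⟨nat_lit 0, nat_lit 2, nat_lit 0x980000000009e0, nat_lit 0, false, nat_lit 0⟩,
  ⟨nat_lit 0, nat_lit 2, nat_lit 0x160000000000bd0, nat_lit 0, false, nat_lit 0⟩,
  ⟨nat_lit 0, nat_lit 2, nat_lit 0x1600000000005f0, nat_lit 0, false, nat_lit 0⟩,
  ⟨nat_lit 0, nat_lit 2, nat_lit 0x150000000000bf0, nat_lit 0, false, nat_lit 0⟩,
  ⟨nat_lit 0, nat_lit 2, nat_lit 0x160000000000c00, nat_lit 0, false, nat_lit 0⟩,
  ⟨nat_lit 0, nat_lit 2, nat_lit 0x150000000000c10, nat_lit 0, false, nat_lit 0⟩,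
  ⟨nat_lit 0, nat_lit 2, nat_lit 0x160000000000260, nat_lit 0, false, nat_lit 0⟩,
  ⟨nat_lit 0, nat_lit 2, nat_lit 0x98000000000c30, nat_lit 0, false, nat_lit 0⟩,
  ⟨nat_lit 0, nat_lit 2, nat_lit 0x160000000000510, nat_lit 0, false, nat_lit 0⟩,
  ⟨nat_lit 0, nat_lit 2, nat_lit 0x900000000002a0, nat_lit 0, false, nat_lit 0⟩,
  ⟨nat_lit 0, nat_lit 2, nat_lit 0x150000000000900, nat_lit 0, false, nat_lit 0⟩]

theorem c0 : P.chkL D0 0 = true := by decide +kernel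

def D1 : List De := [⟨nat_lit 0, nat_lit 2, nat_lit 0x160000000000b90, nat_lit 0, false, nat_lit 0⟩,
  ⟨nat_lit 0, nat_lit 2, nat_lit 0x100000000000920, nat_lit 0, false, nat_lit 0⟩,
  ⟨nat_lit 0, nat_lit 2, nat_lit 0x90000000000c90, nat_lit 0, false, nat_lit 0⟩,
  ⟨nat_lit 0, nat_lit 2, nat_lit 0x150000000000450, nat_lit 0, false, nat_lit 0⟩,
  ⟨nat_lit 0, nat_lit 2, nat_lit 0x150000000000620, nat_lit 0, false, nat_lit 0⟩,
  ⟨nat_lit 0, nat_lit 2, nat_lit 0x1700000000002a0, nat_lit 0, false, nat_lit 0⟩,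
  ⟨nat_lit 0, nat_lit 2, nat_lit 0x98000000000260, nat_lit 0, false, nat_lit 0⟩,
  ⟨nat_lit 0, nat_lit 2, nat_lit 0x1700000000009b0, nat_lit 0, false, nat_lit 0⟩,
  ⟨nat_lit 0, nat_lit 2, nat_lit 0x170000000000760, nat_lit 0, false, nat_lit 0⟩,
  ⟨nat_lit 0, nat_lit 2, nat_lit 0x980000000001d0, nat_lit 0, false, nat_lit 0⟩,
  ⟨nat_lit 0, nat_lit 2, nat_lit 0x150000000000440, nat_lit 0, false, nat_lit 0⟩,
  ⟨nat_lit 0, nat_lit 2, nat_lit 0x1500000000001c0, nat_lit 0, false, nat_lit 0⟩,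
  ⟨nat_lit 0, nat_lit 2, nat_lit 0x180000000000d30, nat_lit 0, false, nat_lit 0⟩,
  ⟨nat_lit 0, nat_lit 2, nat_lit 0x98000000000098, nat_lit 0, false, nat_lit 0⟩,
  ⟨nat_lit 0, nat_lit 2, nat_lit 0x150000000000d50, nat_lit 0, false, nat_lit 0⟩,
  ⟨nat_lit 0, nat_lit 2, nat_lit 0x90000000000d60, nat_lit 0, false, nat_lit 0⟩,
  ⟨nat_lit 0, nat_lit 2, nat_lit 0x980000000007e0, nat_lit 0, false, nat_lit 0⟩,
  ⟨nat_lit 1, nat_lit 0, nat_lit 0, nat_lit 0, false, nat_lit 0⟩,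
  ⟨nat_lit 0, nat_lit 7, nat_lit 0x2000000000d9000000000000a000000000d810000000007a10000000001810000000000b3, nat_lit 0, false, nat_lit 0⟩,
  ⟨nat_lit 4, nat_lit 0, nat_lit 0, nat_lit 218, false, nat_lit 0⟩,
  ⟨nat_lit 4, nat_lit 0, nat_lit 0, nat_lit 218, false, nat_lit 21⟩,
  ⟨nat_lit 0, nat_lit 2, nat_lit 0x1700000000004b0, nat_lit 0, false, nat_lit 0⟩,
  ⟨nat_lit 0, nat_lit 2, nat_lit 0x90000000000dd0, nat_lit 0, false, nat_lit 0⟩,
  ⟨nat_lit 0, nat_lit 2, nat_lit 0x1080000000007e0, nat_lit 0, false, nat_lit 0⟩,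
  ⟨nat_lit 0, nat_lit 2, nat_lit 0x108000000000260, nat_lit 0, false, nat_lit 0⟩,
  ⟨nat_lit 0, nat_lit 2, nat_lit 0x178000000000e00, nat_lit 0, false, nat_lit 0⟩,
  ⟨nat_lit 0, nat_lit 2, nat_lit 0x100000000000690, nat_lit 0, false, nat_lit 0⟩,
  ⟨nat_lit 0, nat_lit 2, nat_lit 0x980000000003b0, nat_lit 0, false, nat_lit 0⟩,
  ⟨nat_lit 0, nat_lit 2, nat_lit 0x180000000000360, nat_lit 0, false, nat_lit 0⟩,
  ⟨nat_lit 0, nat_lit 2, nat_lit 0x180000000000720, nat_lit 0, false, nat_lit 0⟩,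
  ⟨nat_lit 0, nat_lit 2, nat_lit 0x170000000000b80, nat_lit 0, false, nat_lit 0⟩,
  ⟨nat_lit 0, nat_lit 2, nat_lit 0x170000000000190, nat_lit 0, false, nat_lit 0⟩,
  ⟨nat_lit 0, nat_lit 2, nat_lit 0x1500000000002e0, nat_lit 0, false, nat_lit 0⟩,
  ⟨nat_lit 0, nat_lit 2, nat_lit 0x100000000000d50, nat_lit 0, false, nat_lit 0⟩,
  ⟨nat_lit 0, nat_lit 2, nat_lit 0x1600000000002b0, nat_lit 0, false, nat_lit 0⟩,
  ⟨nat_lit 0, nat_lit 2, nat_lit 0x108000000000a80, nat_lit 0, false, nat_lit 0⟩,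
  ⟨nat_lit 0, nat_lit 2, nat_lit 0x1600000000002a0, nat_lit 0, false, nat_lit 0⟩,
  ⟨nat_lit 0, nat_lit 2, nat_lit 0x100000000000720, nat_lit 0, false, nat_lit 0⟩,
  ⟨nat_lit 0, nat_lit 2, nat_lit 0x980000000007b0, nat_lit 0, false, nat_lit 0⟩,
  ⟨nat_lit 0, nat_lit 2, nat_lit 0x1600000000006f0, nat_lit 0, false, nat_lit 0⟩,
  ⟨nat_lit 0, nat_lit 2, nat_lit 0x170000000000810, nat_lit 0, false, nat_lit 0⟩,
  ⟨nat_lit 0, nat_lit 2, nat_lit 0x180000000000bd0, nat_lit 0, false, nat_lit 0⟩,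
  ⟨nat_lit 0, nat_lit 2, nat_lit 0x180000000000bf0, nat_lit 0, false, nat_lit 0⟩,
  ⟨nat_lit 0, nat_lit 2, nat_lit 0x180000000000460, nat_lit 0, false, nat_lit 0⟩,
  ⟨nat_lit 0, nat_lit 2, nat_lit 0x150000000000c80, nat_lit 0, false, nat_lit 0⟩,
  ⟨nat_lit 0, nat_lit 2, nat_lit 0x1800000000001c0, nat_lit 0, false, nat_lit 0⟩,
  ⟨nat_lit 0, nat_lit 2, nat_lit 0x100000000000440, nat_lit 0, false, nat_lit 0⟩,
  ⟨nat_lit 0, nat_lit 2, nat_lit 0x160000000000e80, nat_lit 0, false, nat_lit 0⟩,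
  ⟨nat_lit 0, nat_lit 2, nat_lit 0x100000000000370, nat_lit 0, false, nat_lit 0⟩,
  ⟨nat_lit 0, nat_lit 2, nat_lit 0x160000000000370, nat_lit 0, false, nat_lit 0⟩,
  ⟨nat_lit 0, nat_lit 2, nat_lit 0x1800000000003e0, nat_lit 0, false, nat_lit 0⟩,
  ⟨nat_lit 0, nat_lit 2, nat_lit 0x160000000000fa0, nat_lit 0, false, nat_lit 0⟩,
  ⟨nat_lit 0, nat_lit 2, nat_lit 0x150000000000fb0, nat_lit 0, false, nat_lit 0⟩,
  ⟨nat_lit 0, nat_lit 2, nat_lit 0x1600000000002f0, nat_lit 0, false, nat_lit 0⟩,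
  ⟨nat_lit 0, nat_lit 2, nat_lit 0x180000000000c80, nat_lit 0, false, nat_lit 0⟩,
  ⟨nat_lit 0, nat_lit 2, nat_lit 0x90000000000d20, nat_lit 0, false, nat_lit 0⟩,
  ⟨nat_lit 0, nat_lit 2, nat_lit 0x170000000000100, nat_lit 0, false, nat_lit 0⟩,
  ⟨nat_lit 0, nat_lit 2, nat_lit 0x98000000000690, nat_lit 0, false, nat_lit 0⟩,
  ⟨nat_lit 0, nat_lit 2, nat_lit 0x170000000000790, nat_lit 0, false, nat_lit 0⟩,
  ⟨nat_lit 0, nat_lit 2, nat_lit 0x178000000000690, nat_lit 0, false, nat_lit 0⟩,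
  ⟨nat_lit 0, nat_lit 2, nat_lit 0x180000000000108, nat_lit 0, false, nat_lit 0⟩,
  ⟨nat_lit 0, nat_lit 2, nat_lit 0x1600000000006e0, nat_lit 0, false, nat_lit 0⟩,
  ⟨nat_lit 0, nat_lit 2, nat_lit 0x1500000000002a0, nat_lit 0, false, nat_lit 0⟩,
  ⟨nat_lit 0, nat_lit 2, nat_lit 0x160000000000a40, nat_lit 0, false, nat_lit 0⟩,
  ⟨nat_lit 0, nat_lit 2, nat_lit 0x150000000001070, nat_lit 0, false, nat_lit 0⟩,
  ⟨nat_lit 0, nat_lit 2, nat_lit 0x180000000000390, nat_lit 0, false, nat_lit 0⟩,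
  ⟨nat_lit 0, nat_lit 2, nat_lit 0x100000000000940, nat_lit 0, false, nat_lit 0⟩,
  ⟨nat_lit 0, nat_lit 2, nat_lit 0x1700000000009a0, nat_lit 0, false, nat_lit 0⟩,
  ⟨nat_lit 0, nat_lit 2, nat_lit 0x170000000000690, nat_lit 0, false, nat_lit 0⟩,
  ⟨nat_lit 0, nat_lit 2, nat_lit 0x1500000000010c0, nat_lit 0, false, nat_lit 0⟩,
  ⟨nat_lit 0, nat_lit 2, nat_lit 0x1600000000007f0, nat_lit 0, false, nat_lit 0⟩,
  ⟨nat_lit 0, nat_lit 2, nat_lit 0x90000000000a80, nat_lit 0, false, nat_lit 0⟩,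
  ⟨nat_lit 0, nat_lit 2, nat_lit 0x170000000000590, nat_lit 0, false, nat_lit 0⟩,
  ⟨nat_lit 0, nat_lit 2, nat_lit 0x108000000001100, nat_lit 0, false, nat_lit 0⟩,
  ⟨nat_lit 0, nat_lit 2, nat_lit 0x1600000000005e0, nat_lit 0, false, nat_lit 0⟩,
  ⟨nat_lit 0, nat_lit 2, nat_lit 0x90000000000690, nat_lit 0, false, nat_lit 0⟩,
  ⟨nat_lit 0, nat_lit 2, nat_lit 0x180000000001130, nat_lit 0, false, nat_lit 0⟩,
  ⟨nat_lit 0, nat_lit 2, nat_lit 0x108000000000940, nat_lit 0, false, nat_lit 0⟩,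
  ⟨nat_lit 0, nat_lit 2, nat_lit 0x1500000000003b0, nat_lit 0, false, nat_lit 0⟩,
  ⟨nat_lit 0, nat_lit 2, nat_lit 0x90000000001160, nat_lit 0, false, nat_lit 0⟩,
  ⟨nat_lit 0, nat_lit 2, nat_lit 0x108000000000540, nat_lit 0, false, nat_lit 0⟩,
  ⟨nat_lit 0, nat_lit 2, nat_lit 0x90000000000260, nat_lit 0, false, nat_lit 0⟩,
  ⟨nat_lit 0, nat_lit 2, nat_lit 0x108000000001190, nat_lit 0, false, nat_lit 0⟩,
  ⟨nat_lit 0, nat_lit 2, nat_lit 0x160000000000bc0, nat_lit 0, false, nat_lit 0⟩,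
  ⟨nat_lit 0, nat_lit 2, nat_lit 0x150000000000360, nat_lit 0, false, nat_lit 0⟩,
  ⟨nat_lit 0, nat_lit 2, nat_lit 0x150000000000460, nat_lit 0, false, nat_lit 0⟩,
  ⟨nat_lit 0, nat_lit 2, nat_lit 0x98000000000940, nat_lit 0, false, nat_lit 0⟩,
  ⟨nat_lit 0, nat_lit 2, nat_lit 0x980000000004b0, nat_lit 0, false, nat_lit 0⟩,
  ⟨nat_lit 0, nat_lit 2, nat_lit 0x160000000000410, nat_lit 0, false, nat_lit 0⟩,
  ⟨nat_lit 0, nat_lit 2, nat_lit 0x98000000000ae0, nat_lit 0, false, nat_lit 0⟩,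
  ⟨nat_lit 0, nat_lit 2, nat_lit 0x1700000000005e0, nat_lit 0, false, nat_lit 0⟩,
  ⟨nat_lit 0, nat_lit 2, nat_lit 0x150000000000860, nat_lit 0, false, nat_lit 0⟩,
  ⟨nat_lit 0, nat_lit 2, nat_lit 0x1800000000004b0, nat_lit 0, false, nat_lit 0⟩,
  ⟨nat_lit 0, nat_lit 2, nat_lit 0x170000000001180, nat_lit 0, false, nat_lit 0⟩,
  ⟨nat_lit 0, nat_lit 2, nat_lit 0x170000000000260, nat_lit 0, false, nat_lit 0⟩,
  ⟨nat_lit 0, nat_lit 2, nat_lit 0x98000000001260, nat_lit 0, false, nat_lit 0⟩,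
  ⟨nat_lit 0, nat_lit 2, nat_lit 0x1080000000004b0, nat_lit 0, false, nat_lit 0⟩,
  ⟨nat_lit 0, nat_lit 2, nat_lit 0x1600000000011d0, nat_lit 0, false, nat_lit 0⟩,
  ⟨nat_lit 0, nat_lit 2, nat_lit 0x150000000000b60, nat_lit 0, false, nat_lit 0⟩,
  ⟨nat_lit 0, nat_lit 2, nat_lit 0x98000000000770, nat_lit 0, false, nat_lit 0⟩,
  ⟨nat_lit 0, nat_lit 2, nat_lit 0x180000000000690, nat_lit 0, false, nat_lit 0⟩,
  ⟨nat_lit 0, nat_lit 2, nat_lit 0x150000000000550, nat_lit 0, false, nat_lit 0⟩,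
  ⟨nat_lit 0, nat_lit 2, nat_lit 0x100000000001240, nat_lit 0, false, nat_lit 0⟩,
  ⟨nat_lit 0, nat_lit 2, nat_lit 0x178000000000730, nat_lit 0, false, nat_lit 0⟩,
  ⟨nat_lit 0, nat_lit 2, nat_lit 0x1500000000004b0, nat_lit 0, false, nat_lit 0⟩,
  ⟨nat_lit 0, nat_lit 2, nat_lit 0x180000000000430, nat_lit 0, false, nat_lit 0⟩,
  ⟨nat_lit 0, nat_lit 2, nat_lit 0x178000000001210, nat_lit 0, false, nat_lit 0⟩,
  ⟨nat_lit 0, nat_lit 2, nat_lit 0x180000000000ec0, nat_lit 0, false, nat_lit 0⟩,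
  ⟨nat_lit 0, nat_lit 2, nat_lit 0x160000000000550, nat_lit 0, false, nat_lit 0⟩,
  ⟨nat_lit 0, nat_lit 2, nat_lit 0x150000000000ba0, nat_lit 0, false, nat_lit 0⟩,
  ⟨nat_lit 0, nat_lit 2, nat_lit 0x160000000000ab0, nat_lit 0, false, nat_lit 0⟩,
  ⟨nat_lit 0, nat_lit 2, nat_lit 0x100000000000cd0, nat_lit 0, false, nat_lit 0⟩,
  ⟨nat_lit 0, nat_lit 2, nat_lit 0x900000000008b0, nat_lit 0, false, nat_lit 0⟩,
  ⟨nat_lit 0, nat_lit 2, nat_lit 0x170000000000840, nat_lit 0, false, nat_lit 0⟩,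
  ⟨nat_lit 0, nat_lit 2, nat_lit 0x1800000000010f0, nat_lit 0, false, nat_lit 0⟩,
  ⟨nat_lit 0, nat_lit 2, nat_lit 0x178000000000c60, nat_lit 0, false, nat_lit 0⟩,
  ⟨nat_lit 0, nat_lit 2, nat_lit 0x178000000000df0, nat_lit 0, false, nat_lit 0⟩,
  ⟨nat_lit 0, nat_lit 2, nat_lit 0x90000000000af0, nat_lit 0, false, nat_lit 0⟩,
  ⟨nat_lit 0, nat_lit 2, nat_lit 0x178000000000ee0, nat_lit 0, false, nat_lit 0⟩,
  ⟨nat_lit 0, nat_lit 2, nat_lit 0x100000000000ab0, nat_lit 0, false, nat_lit 0⟩,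
  ⟨nat_lit 0, nat_lit 2, nat_lit 0x170000000001300, nat_lit 0, false, nat_lit 0⟩,
  ⟨nat_lit 0, nat_lit 2, nat_lit 0x90000000000560, nat_lit 0, false, nat_lit 0⟩,
  ⟨nat_lit 0, nat_lit 2, nat_lit 0x160000000001410, nat_lit 0, false, nat_lit 0⟩,
  ⟨nat_lit 0, nat_lit 2, nat_lit 0x98000000001240, nat_lit 0, false, nat_lit 0⟩,
  ⟨nat_lit 0, nat_lit 2, nat_lit 0x100000000000770, nat_lit 0, false, nat_lit 0⟩,
  ⟨nat_lit 0, nat_lit 2, nat_lit 0x98000000001010, nat_lit 0, false, nat_lit 0⟩,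
  ⟨nat_lit 0, nat_lit 2, nat_lit 0x1500000000010a0, nat_lit 0, false, nat_lit 0⟩,
  ⟨nat_lit 0, nat_lit 2, nat_lit 0x178000000000d50, nat_lit 0, false, nat_lit 0⟩,
  ⟨nat_lit 0, nat_lit 2, nat_lit 0x160000000000b10, nat_lit 0, false, nat_lit 0⟩,
  ⟨nat_lit 0, nat_lit 2, nat_lit 0x1780000000004b0, nat_lit 0, false, nat_lit 0⟩,
  ⟨nat_lit 0, nat_lit 2, nat_lit 0x160000000001000, nat_lit 0, false, nat_lit 0⟩,
  ⟨nat_lit 0, nat_lit 2, nat_lit 0x100000000001450, nat_lit 0, false, nat_lit 0⟩,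
  ⟨nat_lit 0, nat_lit 2, nat_lit 0x150000000000b70, nat_lit 0, false, nat_lit 0⟩,
  ⟨nat_lit 0, nat_lit 2, nat_lit 0x90000000001490, nat_lit 0, false, nat_lit 0⟩,
  ⟨nat_lit 0, nat_lit 2, nat_lit 0x108000000000e50, nat_lit 0, false, nat_lit 0⟩,
  ⟨nat_lit 0, nat_lit 2, nat_lit 0x98000000000370, nat_lit 0, false, nat_lit 0⟩,
  ⟨nat_lit 0, nat_lit 2, nat_lit 0x1600000000007b0, nat_lit 0, false, nat_lit 0⟩,
  ⟨nat_lit 0, nat_lit 2, nat_lit 0x1700000000007b0, nat_lit 0, false, nat_lit 0⟩,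
  ⟨nat_lit 0, nat_lit 2, nat_lit 0x90000000000f00, nat_lit 0, false, nat_lit 0⟩,
  ⟨nat_lit 0, nat_lit 2, nat_lit 0x100000000001260, nat_lit 0, false, nat_lit 0⟩,
  ⟨nat_lit 0, nat_lit 2, nat_lit 0x150000000001490, nat_lit 0, false, nat_lit 0⟩,
  ⟨nat_lit 0, nat_lit 2, nat_lit 0x98000000001200, nat_lit 0, false, nat_lit 0⟩,
  ⟨nat_lit 0, nat_lit 2, nat_lit 0x108000000000270, nat_lit 0, false, nat_lit 0⟩,
  ⟨nat_lit 0, nat_lit 2, nat_lit 0x160000000000a80, nat_lit 0, false, nat_lit 0⟩,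
  ⟨nat_lit 0, nat_lit 2, nat_lit 0x98000000001570, nat_lit 0, false, nat_lit 0⟩,
  ⟨nat_lit 0, nat_lit 2, nat_lit 0x98000000000480, nat_lit 0, false, nat_lit 0⟩,
  ⟨nat_lit 0, nat_lit 2, nat_lit 0x100000000000c60, nat_lit 0, false, nat_lit 0⟩,
  ⟨nat_lit 0, nat_lit 2, nat_lit 0x170000000001000, nat_lit 0, false, nat_lit 0⟩,
  ⟨nat_lit 0, nat_lit 2, nat_lit 0x98000000000a90, nat_lit 0, false, nat_lit 0⟩,
  ⟨nat_lit 0, nat_lit 2, nat_lit 0x1700000000007d0, nat_lit 0, false, nat_lit 0⟩,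
  ⟨nat_lit 0, nat_lit 2, nat_lit 0x180000000000e90, nat_lit 0, false, nat_lit 0⟩,
  ⟨nat_lit 0, nat_lit 2, nat_lit 0x98000000001000, nat_lit 0, false, nat_lit 0⟩,
  ⟨nat_lit 0, nat_lit 2, nat_lit 0x180000000000f80, nat_lit 0, false, nat_lit 0⟩,
  ⟨nat_lit 0, nat_lit 2, nat_lit 0x170000000001280, nat_lit 0, false, nat_lit 0⟩,
  ⟨nat_lit 0, nat_lit 2, nat_lit 0x98000000000f60, nat_lit 0, false, nat_lit 0⟩,
  ⟨nat_lit 0, nat_lit 2, nat_lit 0x150000000001260, nat_lit 0, false, nat_lit 0⟩,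
  ⟨nat_lit 0, nat_lit 2, nat_lit 0x1080000000003c0, nat_lit 0, false, nat_lit 0⟩,
  ⟨nat_lit 0, nat_lit 2, nat_lit 0x100000000000f60, nat_lit 0, false, nat_lit 0⟩,
  ⟨nat_lit 0, nat_lit 2, nat_lit 0x900000000007f0, nat_lit 0, false, nat_lit 0⟩,
  ⟨nat_lit 0, nat_lit 2, nat_lit 0x1700000000011f0, nat_lit 0, false, nat_lit 0⟩,
  ⟨nat_lit 0, nat_lit 2, nat_lit 0x108000000000d80, nat_lit 0, false, nat_lit 0⟩,
  ⟨nat_lit 0, nat_lit 2, nat_lit 0x108000000000ec0, nat_lit 0, false, nat_lit 0⟩,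
  ⟨nat_lit 0, nat_lit 2, nat_lit 0x160000000000880, nat_lit 0, false, nat_lit 0⟩,
  ⟨nat_lit 0, nat_lit 2, nat_lit 0x100000000001200, nat_lit 0, false, nat_lit 0⟩,
  ⟨nat_lit 0, nat_lit 2, nat_lit 0x108000000001030, nat_lit 0, false, nat_lit 0⟩,
  ⟨nat_lit 0, nat_lit 2, nat_lit 0x900000000010a0, nat_lit 0, false, nat_lit 0⟩,
  ⟨nat_lit 2, nat_lit 0, nat_lit 0, nat_lit 0, false, nat_lit 0⟩,
  ⟨nat_lit 0, nat_lit 15, nat_lit 0x16e2000000000c410000000003610000000001810000000001200000000001080000000001480000000001180000000001200000000001480000000001380000000001080000000001280000000000900000000016e4, nat_lit 0, false, nat_lit 0⟩,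
  ⟨nat_lit 0, nat_lit 13, nat_lit 0x16e20000000009e1000000000b810000000001810000000000900000000001180000000001280000000001280000000000980000000000980000000000980000000001380000000016e4, nat_lit 0, false, nat_lit 0⟩,
  ⟨nat_lit 0, nat_lit 17, nat_lit 0x17000000000016f00000000017080000000017080000000016f80000000017000000000017000000000017000000000016f80000000017000000000017000000000016f00000000016f80000000017000000000016f8000000001708000000001708, nat_lit 0, false, nat_lit 0⟩,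
  ⟨nat_lit 0, nat_lit 12, nat_lit 0x17000000000017180000000017000000000016f00000000017100000000016f00000000017080000000016f80000000016f80000000017100000000016f0000000001710, nat_lit 0, false, nat_lit 0⟩,
  ⟨nat_lit 0, nat_lit 11, nat_lit 0xda2000000001251000000000bf10000000001810000000001180000000000980000000001280000000016ea0000000013910000000012a1000000000253, nat_lit 0, false, nat_lit 0⟩,
  ⟨nat_lit 4, nat_lit 0, nat_lit 0, nat_lit 371, true, nat_lit 18⟩,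
  ⟨nat_lit 4, nat_lit 0, nat_lit 0, nat_lit 371, true, nat_lit 21⟩,
  ⟨nat_lit 4, nat_lit 0, nat_lit 0, nat_lit 371, true, nat_lit 27⟩,
  ⟨nat_lit 0, nat_lit 5, nat_lit 0x16e20000000014f1000000000ef100000000018100000000173c, nat_lit 0, false, nat_lit 0⟩,
  ⟨nat_lit 4, nat_lit 0, nat_lit 0, nat_lit 375, false, nat_lit 15⟩,
  ⟨nat_lit 0, nat_lit 17, nat_lit 0x16e20000000016d1000000000f31000000000148000000000098000000000312000000001321000000000a21000000000181000000000dc30000000015e10000000003a10000000001810000000000980000000001180000000000980000000016e4, nat_lit 0, false, nat_lit 0⟩,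
  ⟨nat_lit 4, nat_lit 0, nat_lit 0, nat_lit 377, false, nat_lit 0⟩,
  ⟨nat_lit 4, nat_lit 0, nat_lit 0, nat_lit 377, false, nat_lit 13⟩,
  ⟨nat_lit 4, nat_lit 0, nat_lit 0, nat_lit 377, true, nat_lit 22⟩,
  ⟨nat_lit 2, nat_lit 0, nat_lit 0, nat_lit 0, false, nat_lit 0⟩,
  ⟨nat_lit 0, nat_lit 13, nat_lit 0x17d20000000000990000000009610000000000900000000001280000000001480000000001180000000001480000000000900000000001080000000001480000000001280000000017d4, nat_lit 0, false, nat_lit 0⟩,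
  ⟨nat_lit 0, nat_lit 13, nat_lit 0x17d2000000000ff1000000000fa10000000001080000000001200000000001280000000001280000000001380000000000900000000001100000000001080000000001200000000017d4, nat_lit 0, false, nat_lit 0⟩,
  ⟨nat_lit 0, nat_lit 15, nat_lit 0x17e80000000017e80000000017f80000000017e80000000017f00000000017e80000000017f00000000017e80000000017f80000000017e00000000017f80000000017e00000000017f80000000017e80000000017f8, nat_lit 0, false, nat_lit 0⟩,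
  ⟨nat_lit 0, nat_lit 18, nat_lit 0x17e00000000017e00000000017f80000000018080000000017e00000000017e80000000018080000000017f80000000017f80000000018080000000017f00000000017f80000000018080000000017e80000000017f80000000017f80000000017e8000000001808, nat_lit 0, false, nat_lit 0⟩,
  ⟨nat_lit 0, nat_lit 12, nat_lit 0x17d2000000001381000000001021000000000181000000000098000000000110000000000100000000000212000000001521000000000aa1000000000181000000000db3, nat_lit 0, false, nat_lit 0⟩,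
  ⟨nat_lit 4, nat_lit 0, nat_lit 0, nat_lit 386, false, nat_lit 10⟩,
  ⟨nat_lit 4, nat_lit 0, nat_lit 0, nat_lit 386, false, nat_lit 23⟩,
  ⟨nat_lit 0, nat_lit 10, nat_lit 0xda2000000000b31000000000c510000000001180000000000980000000001280000000017da000000000951000000001071000000000223, nat_lit 0, false, nat_lit 0⟩,
  ⟨nat_lit 4, nat_lit 0, nat_lit 0, nat_lit 389, false, nat_lit 0⟩,
  ⟨nat_lit 4, nat_lit 0, nat_lit 0, nat_lit 389, false, nat_lit 11⟩,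
  ⟨nat_lit 4, nat_lit 0, nat_lit 0, nat_lit 389, true, nat_lit 18⟩,
  ⟨nat_lit 4, nat_lit 0, nat_lit 0, nat_lit 389, true, nat_lit 21⟩,
  ⟨nat_lit 0, nat_lit 7, nat_lit 0x1822000000000a910000000011c100000000018100000000009800000000014800000000185c, nat_lit 0, false, nat_lit 0⟩,
  ⟨nat_lit 4, nat_lit 0, nat_lit 0, nat_lit 394, false, nat_lit 0⟩,
  ⟨nat_lit 4, nat_lit 0, nat_lit 0, nat_lit 394, false, nat_lit 3⟩,
  ⟨nat_lit 4, nat_lit 0, nat_lit 0, nat_lit 394, false, nat_lit 15⟩,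
  ⟨nat_lit 4, nat_lit 0, nat_lit 0, nat_lit 394, true, nat_lit 8⟩,
  ⟨nat_lit 4, nat_lit 0, nat_lit 0, nat_lit 394, true, nat_lit 20⟩]

theorem c1 : P.chkL D1 200 = true := by decide +kernel

def D2 : List De := [⟨nat_lit 0, nat_lit 10, nat_lit 0x16e200000000133100000000109100000000012000000000011800000000182a0000000007c10000000008d1000000000181000000000253, nat_lit 0, false, nat_lit 0⟩,
  ⟨nat_lit 0, nat_lit 10, nat_lit 0x18220000000008510000000004e10000000000980000000001480000000017da0000000014d1000000000c51000000000181000000000233, nat_lit 0, false, nat_lit 0⟩,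
  ⟨nat_lit 2, nat_lit 0, nat_lit 0, nat_lit 0, false, nat_lit 0⟩,
  ⟨nat_lit 0, nat_lit 15, nat_lit 0x19220000000002a10000000006c1000000000181000000000098000000000118000000000090000000000128000000000110000000000120000000000120000000000108000000000118000000000128000000001924, nat_lit 0, false, nat_lit 0⟩,
  ⟨nat_lit 0, nat_lit 13, nat_lit 0x19120000000016c10000000014c10000000001810000000017d20000000015a10000000002e100000000014800000000012800000000192a000000001221000000000bc1000000001743, nat_lit 0, false, nat_lit 0⟩,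
  ⟨nat_lit 0, nat_lit 19, nat_lit 0x1922000000000e31000000000281000000000181000000000100000000000128000000000090000000000da2000000001601000000000b61000000000181000000000dc3000000000f81000000000a41000000000181000000000140000000000098000000000100000000001924, nat_lit 0, false, nat_lit 0⟩,
  ⟨nat_lit 4, nat_lit 0, nat_lit 0, nat_lit 405, false, nat_lit 0⟩,
  ⟨nat_lit 4, nat_lit 0, nat_lit 0, nat_lit 405, false, nat_lit 14⟩,
  ⟨nat_lit 4, nat_lit 0, nat_lit 0, nat_lit 405, true, nat_lit 24⟩,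
  ⟨nat_lit 0, nat_lit 12, nat_lit 0x1922000000001541000000000fd10000000001810000000001100000000000980000000001280000000017da0000000016210000000009610000000001810000000000a3, nat_lit 0, false, nat_lit 0⟩,
  ⟨nat_lit 0, nat_lit 25, nat_lit 0x199a000000000d110000000008a100000000018100000000195800000000193800000000195000000000195000000000194a0000000008910000000009a10000000017e80000000017f8000000001822000000000d810000000006b1000000000181000000001833000000000821000000000e41000000000181000000000108000000000090000000000120000000001924, nat_lit 0, false, nat_lit 0⟩,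
  ⟨nat_lit 0, nat_lit 2, nat_lit 0x192a0000000019a8, nat_lit 0, false, nat_lit 0⟩,
  ⟨nat_lit 0, nat_lit 15, nat_lit 0x19a0000000001922000000000f9100000000040100000000009800000000012000000000011800000000182a000000000911000000000bc100000000190a0000000010d10000000002910000000001810000000017b3, nat_lit 0, false, nat_lit 0⟩,
  ⟨nat_lit 0, nat_lit 5, nat_lit 0x19020000000007b1000000000ad10000000018a80000000019cc, nat_lit 0, false, nat_lit 0⟩,
  ⟨nat_lit 4, nat_lit 0, nat_lit 0, nat_lit 413, false, nat_lit 3⟩,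
  ⟨nat_lit 4, nat_lit 0, nat_lit 0, nat_lit 413, true, nat_lit 12⟩,
  ⟨nat_lit 4, nat_lit 0, nat_lit 0, nat_lit 413, true, nat_lit 22⟩,
  ⟨nat_lit 4, nat_lit 0, nat_lit 0, nat_lit 413, true, nat_lit 25⟩,
  ⟨nat_lit 2, nat_lit 0, nat_lit 0, nat_lit 0, false, nat_lit 0⟩,
  ⟨nat_lit 0, nat_lit 14, nat_lit 0x1a220000000005b1000000000361000000000148000000000098000000000138000000000110000000000110000000000128000000000110000000000090000000000100000000000128000000001a24, nat_lit 0, false, nat_lit 0⟩,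
  ⟨nat_lit 0, nat_lit 13, nat_lit 0x1a220000000011e1000000001291000000000148000000000118000000000120000000000120000000000138000000000090000000000108000000000090000000000110000000001a24, nat_lit 0, false, nat_lit 0⟩,
  ⟨nat_lit 0, nat_lit 7, nat_lit 0x1a38000000001a40000000001a40000000001a30000000001a40000000001a30000000001a40, nat_lit 0, false, nat_lit 0⟩,
  ⟨nat_lit 0, nat_lit 15, nat_lit 0x1a22000000001421000000000bf1000000000098000000000110000000000100000000000098000000000128000000000148000000000138000000000090000000000090000000000108000000000090000000001a24, nat_lit 0, false, nat_lit 0⟩,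
  ⟨nat_lit 0, nat_lit 18, nat_lit 0x1a220000000004910000000012a1000000000181000000000128000000000100000000000090000000000da20000000004c1000000000961000000000098000000000108000000000128000000001a2a0000000004d10000000011b10000000001810000000018f3, nat_lit 0, false, nat_lit 0⟩,
  ⟨nat_lit 0, nat_lit 8, nat_lit 0x1a22000000000e010000000008e10000000019b20000000009c10000000008d1000000000181000000000043, nat_lit 0, false, nat_lit 0⟩,
  ⟨nat_lit 0, nat_lit 13, nat_lit 0x1a22000000001151000000000c0100000000010000000000012800000000009000000000182a000000000ea1000000000fd100000000190a0000000003d1000000000f710000000017c3, nat_lit 0, false, nat_lit 0⟩,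
  ⟨nat_lit 0, nat_lit 17, nat_lit 0x1a92000000001051000000000b910000000017080000000016f00000000019d00000000017700000000017100000000017100000000016f00000000017080000000016f00000000017180000000016f00000000019d80000000016f0000000001a94, nat_lit 0, false, nat_lit 0⟩,
  ⟨nat_lit 4, nat_lit 0, nat_lit 0, nat_lit 426, true, nat_lit 12⟩,
  ⟨nat_lit 0, nat_lit 24, nat_lit 0x1a82000000000d21000000000b610000000017e80000000018a80000000019a0000000001992000000000741000000000b610000000001810000000018a80000000017e8000000001822000000000b410000000001810000000017a30000000005a1000000000451000000000181000000000108000000000118000000000140000000000098000000001a24, nat_lit 0, false, nat_lit 0⟩,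
  ⟨nat_lit 4, nat_lit 0, nat_lit 0, nat_lit 428, false, nat_lit 15⟩,
  ⟨nat_lit 4, nat_lit 0, nat_lit 0, nat_lit 428, true, nat_lit 8⟩,
  ⟨nat_lit 0, nat_lit 14, nat_lit 0x190a000000000731000000000c810000000017780000000016e2000000000e21000000000161000000000181000000000100000000000100000000001a2a000000000af10000000006a1000000001883, nat_lit 0, false, nat_lit 0⟩,
  ⟨nat_lit 0, nat_lit 13, nat_lit 0x1a22000000001151000000000f710000000001810000000000900000000000900000000001180000000001200000000019b2000000000d31000000000c01000000000181000000000063, nat_lit 0, false, nat_lit 0⟩,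
  ⟨nat_lit 0, nat_lit 11, nat_lit 0x1a220000000015b1000000000571000000000090000000000090000000000118000000000120000000001a2a0000000015810000000004a1000000000243, nat_lit 0, false, nat_lit 0⟩,
  ⟨nat_lit 0, nat_lit 15, nat_lit 0x1a22000000001561000000000671000000000110000000000da2000000000e11000000000f71000000000181000000000108000000000108000000001a2a000000000621000000000c11000000000181000000001a03, nat_lit 0, false, nat_lit 0⟩,
  ⟨nat_lit 2, nat_lit 0, nat_lit 0, nat_lit 0, false, nat_lit 0⟩,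
  ⟨nat_lit 0, nat_lit 15, nat_lit 0x1b32000000001001000000000b61000000000090000000000100000000000148000000000110000000000138000000000148000000000118000000000098000000000108000000000120000000000108000000001b34, nat_lit 0, false, nat_lit 0⟩,
  ⟨nat_lit 0, nat_lit 17, nat_lit 0x1b320000000015e1000000000a11000000000181000000000098000000000100000000000100000000000098000000000118000000000118000000000120000000000138000000000098000000000110000000000128000000000108000000001b34, nat_lit 0, false, nat_lit 0⟩,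
  ⟨nat_lit 0, nat_lit 17, nat_lit 0x1b32000000000531000000000711000000000108000000000120000000000108000000000148000000000118000000000128000000000148000000000128000000000148000000000090000000000120000000000098000000000120000000001b34, nat_lit 0, false, nat_lit 0⟩,
  ⟨nat_lit 0, nat_lit 13, nat_lit 0x1b48000000001b58000000001b40000000001b50000000001b58000000001b48000000001b58000000001b40000000001b48000000001b68000000001b40000000001b68000000001b58, nat_lit 0, false, nat_lit 0⟩,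
  ⟨nat_lit 0, nat_lit 17, nat_lit 0x1b22000000000501000000000aa1000000000181000000001a48000000001a60000000001ac8000000001a22000000000e01000000000cb1000000000128000000000148000000001b3a0000000015310000000005d10000000001810000000019e3, nat_lit 0, false, nat_lit 0⟩,
  ⟨nat_lit 0, nat_lit 14, nat_lit 0x1a8a0000000014f1000000000bb1000000001a220000000013b1000000000281000000000181000000000098000000000100000000000100000000001b3a000000001151000000000f710000000017a3, nat_lit 0, false, nat_lit 0⟩,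
  ⟨nat_lit 0, nat_lit 14, nat_lit 0x1b320000000007c10000000007010000000001810000000000900000000001180000000000980000000019b2000000000491000000000b61000000001b920000000001a1000000000971000000001893, nat_lit 0, false, nat_lit 0⟩,
  ⟨nat_lit 0, nat_lit 15, nat_lit 0x1b9a0000000007c10000000003610000000017f80000000017e0000000001a8a0000000013010000000002e1000000001b22000000000a71000000000801000000001a48000000001a68000000001ac00000000018d3, nat_lit 0, false, nat_lit 0⟩,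
  ⟨nat_lit 0, nat_lit 10, nat_lit 0x1b8a0000000008b1000000000a11000000000181000000001a60000000001ac0000000001bba000000000531000000000701000000000343, nat_lit 0, false, nat_lit 0⟩,
  ⟨nat_lit 0, nat_lit 19, nat_lit 0x1b9a0000000001090000000002e10000000001810000000017f00000000017e00000000017f80000000019a0000000001922000000001631000000000471000000000098000000000100000000000118000000000090000000001b3a000000000be1000000001081000000001763, nat_lit 0, false, nat_lit 0⟩,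
  ⟨nat_lit 0, nat_lit 11, nat_lit 0x1b9a0000000001c10000000009710000000001810000000017f80000000017e0000000001818000000001b920000000016610000000015d1000000000323, nat_lit 0, false, nat_lit 0⟩,
  ⟨nat_lit 0, nat_lit 16, nat_lit 0x1b32000000000661000000000e61000000000098000000000110000000000098000000000128000000001a2a000000000e71000000000b71000000001ac8000000001bba000000001461000000000671000000000181000000001753, nat_lit 0, false, nat_lit 0⟩,
  ⟨nat_lit 0, nat_lit 4, nat_lit 0x1bd20000000011410000000008a1000000001bfc, nat_lit 0, false, nat_lit 0⟩,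
  ⟨nat_lit 4, nat_lit 0, nat_lit 0, nat_lit 448, false, nat_lit 4⟩,
  ⟨nat_lit 4, nat_lit 0, nat_lit 0, nat_lit 448, true, nat_lit 29⟩,
  ⟨nat_lit 0, nat_lit 15, nat_lit 0x1b320000000008c10000000002f10000000000980000000000980000000019b20000000010310000000007d10000000001810000000017f80000000018a8000000001b920000000016a1000000001081000000001963, nat_lit 0, false, nat_lit 0⟩,
  ⟨nat_lit 2, nat_lit 0, nat_lit 0, nat_lit 0, false, nat_lit 0⟩,
  ⟨nat_lit 0, nat_lit 12, nat_lit 0x1c420000000009910000000002d10000000016f80000000017900000000017900000000017180000000016f80000000016f8000000001708000000001708000000001c44, nat_lit 0, false, nat_lit 0⟩,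
  ⟨nat_lit 0, nat_lit 14, nat_lit 0x1c42000000000cf1000000000b510000000001810000000016f80000000017780000000017100000000017180000000016f8000000001708000000001718000000001728000000001778000000001c44, nat_lit 0, false, nat_lit 0⟩,
  ⟨nat_lit 0, nat_lit 13, nat_lit 0x1c42000000000a01000000000ef10000000016f00000000019d80000000017280000000017000000000016f80000000017080000000017080000000019d0000000001778000000001c44, nat_lit 0, false, nat_lit 0⟩,
  ⟨nat_lit 0, nat_lit 5, nat_lit 0x1c50000000001c60000000001c58000000001c68000000001c70, nat_lit 0, false, nat_lit 0⟩,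
  ⟨nat_lit 0, nat_lit 11, nat_lit 0x1c420000000010410000000006410000000016f8000000001700000000001778000000001c4a000000000831000000000fe1000000000181000000000033, nat_lit 0, false, nat_lit 0⟩,
  ⟨nat_lit 0, nat_lit 12, nat_lit 0x17d20000000014810000000008e10000000016ea000000000d11000000000c510000000019d80000000016f8000000001c4a0000000013f10000000004f1000000001743, nat_lit 0, false, nat_lit 0⟩,
  ⟨nat_lit 0, nat_lit 16, nat_lit 0x1b9a000000000751000000000a610000000001810000000018180000000018a80000000017e000000000190a000000000de10000000006810000000019d80000000019d8000000001c4a0000000013e10000000002e1000000001ae3, nat_lit 0, false, nat_lit 0⟩,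
  ⟨nat_lit 0, nat_lit 18, nat_lit 0x1cba000000000531000000000f21000000001b40000000001c08000000001b58000000001b9a000000001351000000000f210000000001810000000017e80000000017e80000000018a00000000019a000000000194a0000000001d10000000012a1000000001783, nat_lit 0, false, nat_lit 0⟩,
  ⟨nat_lit 0, nat_lit 19, nat_lit 0x1b320000000014b1000000000c210000000001810000000000900000000001480000000000980000000001180000000019b2000000001061000000000a110000000001810000000018a80000000017e8000000001cca000000000b110000000014c1000000000181000000001c23, nat_lit 0, false, nat_lit 0⟩,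
  ⟨nat_lit 0, nat_lit 15, nat_lit 0x1a92000000000e210000000008010000000001810000000017900000000019d8000000001778000000001c4a000000000b21000000000a41000000001c92000000000d31000000000a31000000000181000000001873, nat_lit 0, false, nat_lit 0⟩,
  ⟨nat_lit 0, nat_lit 15, nat_lit 0x1cc20000000006e10000000006d10000000017e80000000018a80000000017f00000000017e8000000001b920000000016d1000000000b51000000000181000000001b48000000001c00000000001b48000000000053, nat_lit 0, false, nat_lit 0⟩,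
  ⟨nat_lit 0, nat_lit 20, nat_lit 0x1cda000000000ce10000000004f1000000001b60000000001c08000000001be20000000014310000000008e1000000000181000000001b48000000001b50000000001c00000000001b9a0000000008710000000006510000000017e80000000017e80000000017f00000000018a80000000018c3, nat_lit 0, false, nat_lit 0⟩,
  ⟨nat_lit 0, nat_lit 16, nat_lit 0x1cda000000000d61000000000461000000000181000000001b48000000001b50000000001b68000000001bb20000000012e1000000000641000000001ac0000000001a38000000001b12000000000d41000000000fb10000000019f3, nat_lit 0, false, nat_lit 0⟩,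
  ⟨nat_lit 0, nat_lit 19, nat_lit 0x1caa000000000a71000000000b910000000017e80000000017e80000000018a80000000019a0000000001922000000000ec1000000000581000000000181000000000090000000000090000000000118000000000120000000001a2a000000000cc1000000000681000000001843, nat_lit 0, false, nat_lit 0⟩,
  ⟨nat_lit 0, nat_lit 18, nat_lit 0x1b9a000000001271000000000fc10000000017f80000000017f80000000018a8000000001b92000000001401000000000e61000000001b48000000001c00000000001b48000000001cfa000000000561000000000c81000000001c58000000001c880000000017c3, nat_lit 0, false, nat_lit 0⟩,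
  ⟨nat_lit 0, nat_lit 7, nat_lit 0x1cf2000000000e71000000000381000000000181000000001b50000000001b40000000001d3c, nat_lit 0, false, nat_lit 0⟩,
  ⟨nat_lit 0, nat_lit 14, nat_lit 0x1cc20000000016410000000001610000000017e00000000017f80000000017f8000000001912000000000f110000000011d10000000018a8000000001d0a000000001491000000000901000000001973, nat_lit 0, false, nat_lit 0⟩,
  ⟨nat_lit 0, nat_lit 14, nat_lit 0x1cea000000000541000000000281000000001a38000000001a38000000001a68000000001ce20000000012310000000007d1000000000181000000001c50000000001c60000000001c50000000000353, nat_lit 0, false, nat_lit 0⟩,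
  ⟨nat_lit 0, nat_lit 21, nat_lit 0x1cda0000000012c10000000008d1000000000181000000001b58000000001b60000000001b58000000001cd20000000009f1000000000391000000001c58000000001c60000000001c88000000001cda000000000ca10000000001f1000000000181000000001b48000000001b48000000001b58000000001ae3, nat_lit 0, false, nat_lit 0⟩,
  ⟨nat_lit 0, nat_lit 12, nat_lit 0x1cea000000001611000000000f21000000000181000000001a48000000001a58000000001a68000000001b820000000016110000000009010000000001810000000000c3, nat_lit 0, false, nat_lit 0⟩,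
  ⟨nat_lit 0, nat_lit 15, nat_lit 0x1c92000000000d71000000001021000000000181000000001d48000000001d22000000000ed1000000000f21000000001aa8000000001ac0000000001d1a0000000016910000000004710000000001810000000019e3, nat_lit 0, false, nat_lit 0⟩,
  ⟨nat_lit 0, nat_lit 22, nat_lit 0x1d820000000005010000000001f1000000000181000000001b48000000001b58000000001b60000000001c00000000001cfa0000000014a1000000001311000000000181000000001c58000000001c88000000001d40000000001d920000000006310000000005f1000000000181000000001c88000000001d400000000017b3, nat_lit 0, false, nat_lit 0⟩,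
  ⟨nat_lit 0, nat_lit 18, nat_lit 0x1d52000000000b210000000006a1000000000181000000001d40000000001c68000000001c88000000001d820000000015410000000007a1000000001b50000000001b68000000001c00000000001d8a000000000371000000000a610000000001810000000017a3, nat_lit 0, false, nat_lit 0⟩,
  ⟨nat_lit 0, nat_lit 22, nat_lit 0x1d020000000009e10000000014c10000000017f80000000017f80000000017e8000000001af20000000013410000000002d1000000000181000000001a38000000001aa8000000001afa000000000f510000000005c10000000017e00000000017f00000000017f0000000001d0a0000000012f1000000000701000000000013, nat_lit 0, false, nat_lit 0⟩,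
  ⟨nat_lit 0, nat_lit 17, nat_lit 0x1daa0000000013d10000000003e1000000000181000000001c50000000001c88000000001da20000000010e10000000006d1000000001c88000000001da2000000001111000000000b51000000001c50000000001d40000000001c50000000001ad3, nat_lit 0, false, nat_lit 0⟩,
  ⟨nat_lit 0, nat_lit 17, nat_lit 0x1c920000000012f10000000004a1000000001d48000000001c42000000001441000000000c710000000001810000000016f8000000001790000000001770000000001a9a000000001681000000000fa1000000000181000000001a30000000001873, nat_lit 0, false, nat_lit 0⟩,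
  ⟨nat_lit 0, nat_lit 12, nat_lit 0x1de2000000000ea1000000000611000000000181000000001a40000000001ac8000000001a72000000001551000000000fb1000000001a68000000001ac8000000000243, nat_lit 0, false, nat_lit 0⟩,
  ⟨nat_lit 0, nat_lit 18, nat_lit 0x1cba000000000ac10000000004a1000000001b60000000001d8a0000000013a1000000000f21000000001c88000000001c50000000001d40000000001d52000000001511000000000c81000000000181000000001c88000000001c58000000001c60000000001c13, nat_lit 0, false, nat_lit 0⟩,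
  ⟨nat_lit 2, nat_lit 0, nat_lit 0, nat_lit 0, false, nat_lit 0⟩,
  ⟨nat_lit 0, nat_lit 13, nat_lit 0x1e12000000001371000000000c51000000000181000000001ac0000000001a30000000001aa8000000001a58000000001a38000000001a60000000001a38000000001ac8000000001e14, nat_lit 0, false, nat_lit 0⟩,
  ⟨nat_lit 0, nat_lit 12, nat_lit 0x1e120000000011710000000006f1000000001a48000000001aa8000000001ac0000000001a58000000001a40000000001a68000000001aa8000000001ac8000000001e14, nat_lit 0, false, nat_lit 0⟩,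
  ⟨nat_lit 0, nat_lit 10, nat_lit 0x1cea0000000012b1000000000c81000000000181000000001a68000000001a68000000001e1a0000000015c10000000010b1000000000333, nat_lit 0, false, nat_lit 0⟩,
  ⟨nat_lit 0, nat_lit 22, nat_lit 0x1e12000000000eb1000000000461000000000181000000001a68000000001aa0000000001a220000000011a1000000000291000000000100000000000148000000000098000000001a2a000000001471000000000181000000001ab30000000011110000000002d1000000000181000000001aa0000000001aa0000000001e14, nat_lit 0, false, nat_lit 0⟩,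
  ⟨nat_lit 0, nat_lit 22, nat_lit 0x1e12000000000a51000000000611000000000181000000001a48000000001a48000000001ac8000000001b220000000006910000000006b1000000001ac8000000001b120000000013c10000000003f1000000001983000000000b01000000000f71000000000181000000001a38000000001a68000000001a38000000001e14, nat_lit 0, false, nat_lit 0⟩,
  ⟨nat_lit 0, nat_lit 18, nat_lit 0x1e4a000000000261000000000f21000000001cea0000000012410000000011d1000000000181000000001a38000000001a38000000001a68000000001ce2000000001121000000000d01000000001e420000000015c10000000008f1000000000181000000000023, nat_lit 0, false, nat_lit 0⟩,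
  ⟨nat_lit 0, nat_lit 19, nat_lit 0x1e120000000014e10000000010b1000000001a38000000001a40000000001a40000000001afa000000000771000000000fe10000000017e00000000017f80000000018a0000000001cca000000000991000000000981000000000181000000001c58000000001c60000000001a13, nat_lit 0, false, nat_lit 0⟩,
  ⟨nat_lit 0, nat_lit 18, nat_lit 0x1e4a0000000015f1000000000e61000000001c60000000001d48000000001e420000000007f1000000000161000000000181000000001e58000000001e60000000001e28000000001e60000000001e4a000000001591000000000e61000000000181000000001863, nat_lit 0, false, nat_lit 0⟩,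
  ⟨nat_lit 0, nat_lit 11, nat_lit 0x1e82000000001581000000000451000000001c60000000001c88000000001c60000000001cba0000000007810000000005d10000000001810000000000d3, nat_lit 0, false, nat_lit 0⟩,
  ⟨nat_lit 0, nat_lit 17, nat_lit 0x1e12000000001671000000000601000000000181000000001a58000000001aa0000000001ac0000000001e1a000000000ba10000000007d1000000001e72000000001651000000000f41000000001e60000000001e60000000001e58000000001873, nat_lit 0, false, nat_lit 0⟩,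
  ⟨nat_lit 2, nat_lit 0, nat_lit 0, nat_lit 0, false, nat_lit 0⟩,
  ⟨nat_lit 0, nat_lit 10, nat_lit 0x1ec2000000000d61000000000a41000000001d48000000001c88000000001c50000000001c60000000001c58000000001d48000000001ec4, nat_lit 0, false, nat_lit 0⟩,
  ⟨nat_lit 0, nat_lit 9, nat_lit 0x1ec2000000000ee1000000000291000000000181000000001d40000000001c88000000001c50000000001d48000000001ec4, nat_lit 0, false, nat_lit 0⟩,
  ⟨nat_lit 0, nat_lit 12, nat_lit 0x1ed8000000001ee8000000001ee8000000001ed8000000001ee0000000001ed8000000001ee8000000001ed8000000001ee0000000001ed8000000001ed8000000001ed8, nat_lit 0, false, nat_lit 0⟩,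
  ⟨nat_lit 0, nat_lit 17, nat_lit 0x1e0a000000000931000000000381000000000181000000001c88000000001d48000000001e02000000001341000000000fe1000000000181000000001d40000000001c68000000001eca0000000016b10000000001790000000001810000000018e3, nat_lit 0, false, nat_lit 0⟩,
  ⟨nat_lit 0, nat_lit 6, nat_lit 0x1ec2000000001501000000000cb1000000001c60000000001d48000000001f0c, nat_lit 0, false, nat_lit 0⟩,
  ⟨nat_lit 0, nat_lit 15, nat_lit 0x1da2000000000e01000000000801000000000181000000001c68000000001eca0000000012d10000000005c1000000001f18000000001ef8000000001f18000000001ed8000000001ee0000000001f18000000000dc3, nat_lit 0, false, nat_lit 0⟩,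
  ⟨nat_lit 0, nat_lit 5, nat_lit 0x1ec20000000014b1000000000fc1000000001c68000000001f2c, nat_lit 0, false, nat_lit 0⟩,
  ⟨nat_lit 0, nat_lit 21, nat_lit 0x1ec20000000012410000000009a1000000000181000000001c68000000001d48000000001dd20000000016a1000000000701000000001d40000000001eca000000001361000000000391000000001f18000000001ee8000000001f38000000001f18000000001ee0000000001ed8000000001f180000000018b3, nat_lit 0, false, nat_lit 0⟩,
  ⟨nat_lit 0, nat_lit 2, nat_lit 0x19a0000000001922, nat_lit 0, false, nat_lit 0⟩,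
  ⟨nat_lit 0, nat_lit 2, nat_lit 0x19a000000000194a, nat_lit 0, false, nat_lit 0⟩,
  ⟨nat_lit 0, nat_lit 2, nat_lit 0x19a0000000001992, nat_lit 0, false, nat_lit 0⟩]

theorem c2 : P.chkL D2 400 = true := by decide +kernel


theorem val {H : Type} [Group H] {N : ℕ} {Γ : Type} [Group Γ] {A : RAct H N} {g : ℕ → H} {φ : H →* Γ} {z : Γ}
    {c : ℕ → Subgroup.center Γ} (h : CtxH P A g) (hG : CtxG P g φ z c) :
    ∀ x < 504, Val P g φ z c (P.F x) := by
  have h0 : ∀ x < 0, Val P g φ z c (P.F x) := forall_lt_zero'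
  have h1 : ∀ x < 200, Val P g φ z c (P.F x) := chkL_spec h hG h0 c0
  have h2 : ∀ x < 400, Val P g φ z c (P.F x) := chkL_spec h hG h1 c1
  have h3 : ∀ x < 504, Val P g φ z c (P.F x) := chkL_spec h hG h2 c2
  exact h3

end Cfsg.Agent.L0.HNFB
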