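import Cfsg.Agent.L0.HN.Act
import Cfsg.Agent.L0.PcLab

/-! HNe table of the subgroup of index two. -/

set_option autoImplicit false

namespace Cfsg.Agent.L0.HNN

/-- the letters -/
def l : List ℕ := [nat_lit 0, nat_lit 1, nat_lit 7, nat_lit 4, nat_lit 5, nat_lit 8]

/-- the table -/
noncomputable def T : ℕ → ℕ → ℕ := fun c i => HNAct.T c (nthN l i)

end Cfsg.Agent.L0.HNN
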