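import Cfsg.Agent.L0.CosetChain
import Cfsg.Agent.L0.HN.Tc1D0
import Cfsg.Agent.L0.HN.Tc1D1

/-! Generated coset table certificate. -/

set_option autoImplicit false
set_option maxRecDepth 100000

namespace Cfsg.Agent.L0.HNTc1

noncomputable def tree : BT := (.node (.node (.node (.node (.node t0 t16) (.node t8 t24)) (.node (.node t4 t20) (.node t12 t28))) (.node (.node (.node t2 t18) (.node t10 t26)) (.node (.node t6 t22) (.node t14 t30)))) (.node (.node (.node (.node t1 t17) (.node t9 t25)) (.node (.node t5 t21) (.node t13 t29))) (.node (.node (.node t3 t19) (.node t11 t27)) (.node (.node t7 t23) (.node t15 t31)))))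

noncomputable def row : ℕ → ℕ := rowOf tree (nat_lit 4) (nat_lit 15) (nat_lit 491) (nat_lit 0x7ffffffffffffffffffffffffffffffffffffffffffffffffffffffffffffffffffffffffffffffffffffffffffffffffffffffffffffffffffffffffff)

noncomputable def cols : List Col := [⟨nat_lit 28, nat_lit 1, [([nat_lit 156], nat_lit 0), ([nat_lit 220, nat_lit 156, nat_lit 60], nat_lit 0), ([nat_lit 60, nat_lit 28, nat_lit 28, nat_lit 188, nat_lit 28], nat_lit 0), ([nat_lit 188, nat_lit 28, nat_lit 28, nat_lit 60, nat_lit 28], nat_lit 0), ([nat_lit 92, nat_lit 28, nat_lit 92], nat_lit 0), ([nat_lit 348, nat_lit 156, nat_lit 156, nat_lit 316, nat_lit 28], nat_lit 0), ([nat_lit 28, nat_lit 28, nat_lit 28], nat_lit 0), ([nat_lit 188, nat_lit 348, nat_lit 60, nat_lit 28, nat_lit 60, nat_lit 28, nat_lit 60, nat_lit 60], nat_lit 0), ([nat_lit 28, nat_lit 60, nat_lit 28, nat_lit 28, nat_lit 188], nat_lit 0), ([nat_lit 60, nat_lit 28, nat_lit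 60, nat_lit 60, nat_lit 28, nat_lit 188, nat_lit 348, nat_lit 60], nat_lit 0), ([nat_lit 60, nat_lit 156, nat_lit 188, nat_lit 28, nat_lit 60, nat_lit 156, nat_lit 188, nat_lit 28, nat_lit 60, nat_lit 156, nat_lit 188], nat_lit 0), ([nat_lit 28, nat_lit 188, nat_lit 28, nat_lit 28, nat_lit 60], nat_lit 0), ([nat_lit 60, nat_lit 412, nat_lit 60, nat_lit 60, nat_lit 60, nat_lit 28, nat_lit 60], nat_lit 0), ([nat_lit 60, nat_lit 28, nat_lit 60, nat_lit 28, nat_lit 60, nat_lit 28, nat_lit 60, nat_lit 28, nat_lit 60, nat_lit 28, nat_lit 60, nat_lit 28, nat_lit 60, nat_lit 28, nat_lit 60], nat_lit 0), ([nat_lit 60, nat_lit 28, nat_lit 60, nat_lit 412, nat_lit 60, nat_lit 60, nat_lit 60], nat_lit 0), ([nat_lit 28, nat_lit 348, nat_lit 156, nat_lit 156, nat_lit 316], nat_lit 0), ([nat_lit 60, nat_lit 60, nat_lit 28, nat_lit 188, nat_lit 348, nat_lit 60, nat_lit 28, nat_lit 60], nat_lit 0), ([nat_lit 60, nat_lit 60,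 nat_lit 60, nat_lit 28, nat_lit 60, nat_lit 28, nat_lit 60, nat_lit 60, nat_lit 60, nat_lit 28, nat_lit 60, nat_lit 28, nat_lit 60, nat_lit 60, nat_lit 60, nat_lit 28, nat_lit 60, nat_lit 28, nat_lit 60, nat_lit 60, nat_lit 60, nat_lit 28, nat_lit 60], nat_lit 0), ([nat_lit 412, nat_lit 92, nat_lit 380, nat_lit 28, nat_lit 92, nat_lit 412, nat_lit 92, nat_lit 380, nat_lit 28, nat_lit 412, nat_lit 92, nat_lit 380], nat_lit 0), ([nat_lit 316, nat_lit 28, nat_lit 316, nat_lit 28, nat_lit 316, nat_lit 28, nat_lit 316, nat_lit 28, nat_lit 316, nat_lit 28, nat_lit 316, nat_lit 28, nat_lit 316], nat_lit 0), ([nat_lit 60, nat_lit 60, nat_lit 60, nat_lit 156, nat_lit 60, nat_lit 60, nat_lit 28, nat_lit 60, nat_lit 60, nat_lit 60, nat_lit 156, nat_lit 60, nat_lit 60, nat_lit 28, nat_lit 60, nat_lit 60, nat_lit 60, nat_lit 156, nat_lit 60, nat_lit 60], nat_lit 0), ([nat_lit 60, nat_lit 28, nat_lit 60, nat_lit 60, nat_lit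 60, nat_lit 28, nat_lit 60, nat_lit 28, nat_lit 60, nat_lit 60, nat_lit 60, nat_lit 28, nat_lit 60, nat_lit 28, nat_lit 60, nat_lit 60, nat_lit 60, nat_lit 28, nat_lit 60, nat_lit 28, nat_lit 60, nat_lit 60, nat_lit 60], nat_lit 0)]⟩,
  ⟨nat_lit 60, nat_lit 1, [([nat_lit 188], nat_lit 0), ([nat_lit 60, nat_lit 60, nat_lit 60, nat_lit 60, nat_lit 60], nat_lit 0), ([nat_lit 60, nat_lit 28, nat_lit 60, nat_lit 28, nat_lit 60, nat_lit 412, nat_lit 60], nat_lit 0), ([nat_lit 60, nat_lit 60, nat_lit 28, nat_lit 60, nat_lit 28, nat_lit 60, nat_lit 412], nat_lit 0), ([nat_lit 28, nat_lit 60, nat_lit 28, nat_lit 60, nat_lit 60, nat_lit 28, nat_lit 188, nat_lit 348], nat_lit 0), ([nat_lit 412, nat_lit 60, nat_lit 60, nat_lit 60, nat_lit 28, nat_lit 60, nat_lit 28], nat_lit 0), ([nat_lit 28, nat_lit 188, nat_lit 348, nat_lit 60, nat_lit 28, nat_lit 60, nat_lit 28, nat_lit 60], nat_lit 0), ([nat_lit 28, nat_lit 60, nat_lit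 28, nat_lit 60, nat_lit 28, nat_lit 60, nat_lit 28, nat_lit 60, nat_lit 28, nat_lit 60, nat_lit 28, nat_lit 60, nat_lit 28, nat_lit 60, nat_lit 28], nat_lit 0), ([nat_lit 28, nat_lit 220, nat_lit 156], nat_lit 0), ([nat_lit 28, nat_lit 60, nat_lit 60, nat_lit 28, nat_lit 188, nat_lit 348, nat_lit 60, nat_lit 28], nat_lit 0), ([nat_lit 28, nat_lit 60, nat_lit 412, nat_lit 60, nat_lit 60, nat_lit 60, nat_lit 28], nat_lit 0), ([nat_lit 156, nat_lit 188, nat_lit 28, nat_lit 60, nat_lit 156, nat_lit 188, nat_lit 28, nat_lit 60, nat_lit 156, nat_lit 188, nat_lit 28], nat_lit 0), ([nat_lit 60, nat_lit 28, nat_lit 188, nat_lit 348, nat_lit 60, nat_lit 28, nat_lit 60, nat_lit 28], nat_lit 0), ([nat_lit 28, nat_lit 60, nat_lit 28, nat_lit 60, nat_lit 412, nat_lit 60, nat_lit 60], nat_lit 0), ([nat_lit 92, nat_lit 284, nat_lit 92], nat_lit 0), ([nat_lit 28, nat_lit 60, nat_lit 60, nat_lit 60, nat_lit 28, nat_lit 60, nat_lit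 28, nat_lit 60, nat_lit 60, nat_lit 60, nat_lit 28, nat_lit 60, nat_lit 28, nat_lit 60, nat_lit 60, nat_lit 60, nat_lit 28, nat_lit 60, nat_lit 28, nat_lit 60, nat_lit 60, nat_lit 60, nat_lit 28], nat_lit 0), ([nat_lit 28, nat_lit 60, nat_lit 60, nat_lit 60, nat_lit 156, nat_lit 60, nat_lit 60, nat_lit 28, nat_lit 60, nat_lit 60, nat_lit 60, nat_lit 156, nat_lit 60, nat_lit 60, nat_lit 28, nat_lit 60, nat_lit 60, nat_lit 60, nat_lit 156, nat_lit 60], nat_lit 0), ([nat_lit 60, nat_lit 28, nat_lit 60, nat_lit 60, nat_lit 60, nat_lit 156, nat_lit 60, nat_lit 60, nat_lit 28, nat_lit 60, nat_lit 60, nat_lit 60, nat_lit 156, nat_lit 60, nat_lit 60, nat_lit 28, nat_lit 60, nat_lit 60, nat_lit 60, nat_lit 156], nat_lit 0), ([nat_lit 60, nat_lit 156, nat_lit 60, nat_lit 60, nat_lit 28, nat_lit 60, nat_lit 60, nat_lit 60, nat_lit 156, nat_lit 60, nat_lit 60, nat_lit 28, nat_lit 60, nat_lit 60, nat_lit 60, nat_lit 156,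 nat_lit 60, nat_lit 60, nat_lit 28, nat_lit 60], nat_lit 0), ([nat_lit 60, nat_lit 28, nat_lit 60, nat_lit 28, nat_lit 60, nat_lit 60, nat_lit 60, nat_lit 28, nat_lit 60, nat_lit 28, nat_lit 60, nat_lit 60, nat_lit 60, nat_lit 28, nat_lit 60, nat_lit 28, nat_lit 60, nat_lit 60, nat_lit 60, nat_lit 28, nat_lit 60, nat_lit 28, nat_lit 60], nat_lit 0), ([nat_lit 28, nat_lit 28, nat_lit 188, nat_lit 28, nat_lit 28], nat_lit 0), ([nat_lit 28, nat_lit 60, nat_lit 28, nat_lit 60, nat_lit 60, nat_lit 60, nat_lit 28, nat_lit 60, nat_lit 28, nat_lit 60, nat_lit 60, nat_lit 60, nat_lit 28, nat_lit 60, nat_lit 28, nat_lit 60, nat_lit 60, nat_lit 60, nat_lit 28, nat_lit 60, nat_lit 28, nat_lit 60, nat_lit 60], nat_lit 0), ([nat_lit 156, nat_lit 60, nat_lit 60, nat_lit 28, nat_lit 60, nat_lit 60, nat_lit 60, nat_lit 156, nat_lit 60, nat_lit 60, nat_lit 28, nat_lit 60, nat_lit 60, nat_lit 60, nat_lit 156, nat_lit 60, nat_lit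 60, nat_lit 28, nat_lit 60, nat_lit 60], nat_lit 0), ([nat_lit 60, nat_lit 60, nat_lit 156, nat_lit 60, nat_lit 60, nat_lit 28, nat_lit 60, nat_lit 60, nat_lit 60, nat_lit 156, nat_lit 60, nat_lit 60, nat_lit 28, nat_lit 60, nat_lit 60, nat_lit 60, nat_lit 156, nat_lit 60, nat_lit 60, nat_lit 28], nat_lit 0), ([nat_lit 60, nat_lit 60, nat_lit 28, nat_lit 60, nat_lit 28, nat_lit 60, nat_lit 60, nat_lit 60, nat_lit 28, nat_lit 60, nat_lit 28, nat_lit 60, nat_lit 60, nat_lit 60, nat_lit 28, nat_lit 60, nat_lit 28, nat_lit 60, nat_lit 60, nat_lit 60, nat_lit 28, nat_lit 60, nat_lit 28], nat_lit 0)]⟩,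
  ⟨nat_lit 92, nat_lit 0, [([nat_lit 92], nat_lit 0), ([nat_lit 284, nat_lit 92, nat_lit 60], nat_lit 0), ([nat_lit 60, nat_lit 92, nat_lit 284], nat_lit 0), ([nat_lit 28, nat_lit 92, nat_lit 28], nat_lit 0), ([nat_lit 348, nat_lit 156, nat_lit 92, nat_lit 28, nat_lit 316], nat_lit 0), ([nat_lit 316, nat_lit 156, nat_lit 156, nat_lit 92, nat_lit 348], nat_lit 0), ([nat_lit 348, nat_lit 92, nat_lit 316, nat_lit 156, nat_lit 156], nat_lit 0), ([nat_lit 28, nat_lit 316, nat_lit 92, nat_lit 348, nat_lit 156], nat_lit 0), ([nat_lit 380, nat_lit 28, nat_lit 412, nat_lit 92, nat_lit 380, nat_lit 28, nat_lit 412, nat_lit 92, nat_lit 380, nat_lit 28, nat_lit 92, nat_lit 412], nat_lit 0), ([nat_lit 380, nat_lit 28, nat_lit 412, nat_lit 92, nat_lit 380, nat_lit 28, nat_lit 92, nat_lit 412, nat_lit 92, nat_lit 380, nat_lit 28, nat_lit 412], nat_lit 0)]⟩,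
  ⟨nat_lit 124, nat_lit 1, [([nat_lit 220], nat_lit 0)]⟩,
  ⟨nat_lit 156, nat_lit 1, [([nat_lit 28], nat_lit 0), ([nat_lit 60, nat_lit 28, nat_lit 220], nat_lit 0), ([nat_lit 156, nat_lit 316, nat_lit 28, nat_lit 28, nat_lit 348], nat_lit 0), ([nat_lit 188, nat_lit 28, nat_lit 60, nat_lit 156, nat_lit 188, nat_lit 28, nat_lit 60, nat_lit 156, nat_lit 188, nat_lit 28, nat_lit 60], nat_lit 0), ([nat_lit 156, nat_lit 92, nat_lit 348, nat_lit 92, nat_lit 316], nat_lit 0), ([nat_lit 348, nat_lit 156, nat_lit 316, nat_lit 156, nat_lit 348, nat_lit 156, nat_lit 316], nat_lit 0), ([nat_lit 316, nat_lit 28, nat_lit 28, nat_lit 348, nat_lit 156], nat_lit 0), ([nat_lit 92, nat_lit 348, nat_lit 92, nat_lit 316, nat_lit 156], nat_lit 0), ([nat_lit 92, nat_lit 28, nat_lit 316, nat_lit 92, nat_lit 348], nat_lit 0), ([nat_lit 316, nat_lit 156, nat_lit 348, nat_lit 156, nat_lit 316, nat_lit 156, nat_lit 348], nat_lit 0), ([nat_lit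 60, nat_lit 60, nat_lit 28, nat_lit 60, nat_lit 60, nat_lit 60, nat_lit 156, nat_lit 60, nat_lit 60, nat_lit 28, nat_lit 60, nat_lit 60, nat_lit 60, nat_lit 156, nat_lit 60, nat_lit 60, nat_lit 28, nat_lit 60, nat_lit 60, nat_lit 60], nat_lit 0), ([nat_lit 188, nat_lit 188, nat_lit 188, nat_lit 92, nat_lit 60, nat_lit 60, nat_lit 60, nat_lit 28, nat_lit 60, nat_lit 28, nat_lit 60, nat_lit 28, nat_lit 188, nat_lit 156, nat_lit 188, nat_lit 156, nat_lit 188, nat_lit 188, nat_lit 188, nat_lit 92, nat_lit 60, nat_lit 60, nat_lit 60, nat_lit 28, nat_lit 60, nat_lit 28, nat_lit 60, nat_lit 28, nat_lit 188, nat_lit 156, nat_lit 188, nat_lit 156, nat_lit 188, nat_lit 188, nat_lit 188, nat_lit 92, nat_lit 60, nat_lit 60, nat_lit 60, nat_lit 28, nat_lit 60, nat_lit 28, nat_lit 60, nat_lit 28, nat_lit 92, nat_lit 188, nat_lit 156, nat_lit 188], nat_lit 0), ([nat_lit 188, nat_lit 188, nat_lit 188, nat_lit 92, nat_lit 60,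 nat_lit 60, nat_lit 60, nat_lit 28, nat_lit 60, nat_lit 28, nat_lit 60, nat_lit 28, nat_lit 188, nat_lit 156, nat_lit 188, nat_lit 156, nat_lit 188, nat_lit 188, nat_lit 188, nat_lit 92, nat_lit 60, nat_lit 60, nat_lit 60, nat_lit 28, nat_lit 60, nat_lit 28, nat_lit 60, nat_lit 28, nat_lit 92, nat_lit 188, nat_lit 156, nat_lit 188, nat_lit 156, nat_lit 188, nat_lit 188, nat_lit 188, nat_lit 92, nat_lit 60, nat_lit 60, nat_lit 60, nat_lit 28, nat_lit 60, nat_lit 28, nat_lit 60, nat_lit 28, nat_lit 188, nat_lit 156, nat_lit 188], nat_lit 0)]⟩,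
  ⟨nat_lit 188, nat_lit 1, [([nat_lit 60], nat_lit 0), ([nat_lit 348, nat_lit 60, nat_lit 28, nat_lit 60, nat_lit 28, nat_lit 60, nat_lit 60, nat_lit 28], nat_lit 0), ([nat_lit 28, nat_lit 60, nat_lit 156, nat_lit 188, nat_lit 28, nat_lit 60, nat_lit 156, nat_lit 188, nat_lit 28, nat_lit 60, nat_lit 156], nat_lit 0), ([nat_lit 28, nat_lit 28, nat_lit 60, nat_lit 28, nat_lit 28], nat_lit 0)]⟩,
  ⟨nat_lit 220, nat_lit 1, [([nat_lit 124], nat_lit 0), ([nat_lit 156, nat_lit 60, nat_lit 28], nat_lit 0)]⟩,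
  ⟨nat_lit 252, nat_lit 0, [([nat_lit 284], nat_lit 0)]⟩,
  ⟨nat_lit 284, nat_lit 0, [([nat_lit 252], nat_lit 0), ([nat_lit 92, nat_lit 60, nat_lit 92], nat_lit 0)]⟩,
  ⟨nat_lit 316, nat_lit 1, [([nat_lit 348], nat_lit 0), ([nat_lit 92, nat_lit 348, nat_lit 156, nat_lit 92, nat_lit 28], nat_lit 0), ([nat_lit 156, nat_lit 156, nat_lit 92, nat_lit 348, nat_lit 92], nat_lit 0), ([nat_lit 156, nat_lit 348, nat_lit 156, nat_lit 316, nat_lit 156, nat_lit 348, nat_lit 156], nat_lit 0), ([nat_lit 316, nat_lit 316, nat_lit 316, nat_lit 316, nat_lit 316, nat_lit 316, nat_lit 316, nat_lit 316, nat_lit 316, nat_lit 316, nat_lit 316], nat_lit 0)]⟩,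
  ⟨nat_lit 348, nat_lit 1, [([nat_lit 316], nat_lit 0), ([nat_lit 60, nat_lit 28, nat_lit 60, nat_lit 28, nat_lit 60, nat_lit 60, nat_lit 28, nat_lit 188], nat_lit 0), ([nat_lit 92, nat_lit 316, nat_lit 156, nat_lit 156, nat_lit 92], nat_lit 0), ([nat_lit 156, nat_lit 316, nat_lit 156, nat_lit 348, nat_lit 156, nat_lit 316, nat_lit 156], nat_lit 0), ([nat_lit 156, nat_lit 92, nat_lit 28, nat_lit 316, nat_lit 92], nat_lit 0), ([nat_lit 156, nat_lit 156, nat_lit 316, nat_lit 28, nat_lit 28], nat_lit 0)]⟩,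
  ⟨nat_lit 380, nat_lit 1, [([nat_lit 412], nat_lit 0), ([nat_lit 28, nat_lit 412, nat_lit 92, nat_lit 380, nat_lit 28, nat_lit 412, nat_lit 92, nat_lit 380, nat_lit 28, nat_lit 92, nat_lit 412, nat_lit 92], nat_lit 0), ([nat_lit 28, nat_lit 92, nat_lit 412, nat_lit 92, nat_lit 380, nat_lit 28, nat_lit 412, nat_lit 92, nat_lit 380, nat_lit 28, nat_lit 412, nat_lit 92], nat_lit 0)]⟩,
  ⟨nat_lit 412, nat_lit 1, [([nat_lit 380], nat_lit 0), ([nat_lit 60, nat_lit 60, nat_lit 60, nat_lit 28, nat_lit 60, nat_lit 28, nat_lit 60], nat_lit 0), ([nat_lit 92, nat_lit 380, nat_lit 28, nat_lit 412, nat_lit 92, nat_lit 380, nat_lit 28, nat_lit 412, nat_lit 92, nat_lit 380, nat_lit 28, nat_lit 92], nat_lit 0), ([nat_lit 92, nat_lit 380, nat_lit 28, nat_lit 92, nat_lit 412, nat_lit 92, nat_lit 380, nat_lit 28, nat_lit 412, nat_lit 92, nat_lit 380, nat_lit 28], nat_lit 0)]⟩]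

noncomputable def erots : List (List ℕ × ℕ) := [([nat_lit 60, nat_lit 188], nat_lit 0),
  ([nat_lit 188, nat_lit 60], nat_lit 0),
  ([nat_lit 92, nat_lit 92], nat_lit 0),
  ([nat_lit 220, nat_lit 124], nat_lit 0),
  ([nat_lit 156, nat_lit 28], nat_lit 0),
  ([nat_lit 124, nat_lit 220], nat_lit 0),
  ([nat_lit 348, nat_lit 316], nat_lit 0),
  ([nat_lit 316, nat_lit 348], nat_lit 0),
  ([nat_lit 412, nat_lit 380], nat_lit 0),
  ([nat_lit 380, nat_lit 412], nat_lit 0),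
  ([nat_lit 252, nat_lit 284], nat_lit 0),
  ([nat_lit 284, nat_lit 252], nat_lit 0),
  ([nat_lit 188, nat_lit 28, nat_lit 28, nat_lit 60, nat_lit 28, nat_lit 28], nat_lit 0),
  ([nat_lit 220, nat_lit 156, nat_lit 60, nat_lit 28], nat_lit 0),
  ([nat_lit 92, nat_lit 28, nat_lit 92, nat_lit 28], nat_lit 0),
  ([nat_lit 28, nat_lit 188, nat_lit 28, nat_lit 28, nat_lit 60, nat_lit 28], nat_lit 0),
  ([nat_lit 156, nat_lit 60, nat_lit 28, nat_lit 220], nat_lit 0),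
  ([nat_lit 412, nat_lit 60, nat_lit 60, nat_lit 60, nat_lit 28, nat_lit 60, nat_lit 28, nat_lit 60], nat_lit 0),
  ([nat_lit 60, nat_lit 60, nat_lit 60, nat_lit 28, nat_lit 60, nat_lit 28, nat_lit 60, nat_lit 412], nat_lit 0),
  ([nat_lit 60, nat_lit 28, nat_lit 60, nat_lit 28, nat_lit 60, nat_lit 60, nat_lit 28, nat_lit 188, nat_lit 348], nat_lit 0),
  ([nat_lit 348, nat_lit 60, nat_lit 28, nat_lit 60, nat_lit 28, nat_lit 60, nat_lit 60, nat_lit 28, nat_lit 188], nat_lit 0),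
  ([nat_lit 28, nat_lit 156], nat_lit 0),
  ([nat_lit 28, nat_lit 60, nat_lit 28, nat_lit 60, nat_lit 60, nat_lit 28, nat_lit 188, nat_lit 348, nat_lit 60], nat_lit 0),
  ([nat_lit 60, nat_lit 60, nat_lit 60, nat_lit 60, nat_lit 60, nat_lit 60], nat_lit 0),
  ([nat_lit 60, nat_lit 28, nat_lit 28, nat_lit 188, nat_lit 28, nat_lit 28], nat_lit 0),
  ([nat_lit 60, nat_lit 412, nat_lit 60, nat_lit 60, nat_lit 60, nat_lit 28, nat_lit 60, nat_lit 28], nat_lit 0),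
  ([nat_lit 28, nat_lit 60, nat_lit 28, nat_lit 60, nat_lit 28, nat_lit 60, nat_lit 28, nat_lit 60, nat_lit 28, nat_lit 60, nat_lit 28, nat_lit 60, nat_lit 28, nat_lit 60, nat_lit 28, nat_lit 60], nat_lit 0),
  ([nat_lit 60, nat_lit 60, nat_lit 28, nat_lit 60, nat_lit 28, nat_lit 60, nat_lit 412, nat_lit 60], nat_lit 0),
  ([nat_lit 188, nat_lit 28, nat_lit 60, nat_lit 156, nat_lit 188, nat_lit 28, nat_lit 60, nat_lit 156, nat_lit 188, nat_lit 28, nat_lit 60, nat_lit 156], nat_lit 0),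
  ([nat_lit 28, nat_lit 60, nat_lit 28, nat_lit 28, nat_lit 188, nat_lit 28], nat_lit 0),
  ([nat_lit 60, nat_lit 28, nat_lit 60, nat_lit 28, nat_lit 60, nat_lit 28, nat_lit 60, nat_lit 28, nat_lit 60, nat_lit 28, nat_lit 60, nat_lit 28, nat_lit 60, nat_lit 28, nat_lit 60, nat_lit 28], nat_lit 0),
  ([nat_lit 60, nat_lit 156, nat_lit 188, nat_lit 28, nat_lit 60, nat_lit 156, nat_lit 188, nat_lit 28, nat_lit 60, nat_lit 156, nat_lit 188, nat_lit 28], nat_lit 0),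
  ([nat_lit 28, nat_lit 60, nat_lit 156, nat_lit 188, nat_lit 28, nat_lit 60, nat_lit 156, nat_lit 188, nat_lit 28, nat_lit 60, nat_lit 156, nat_lit 188], nat_lit 0),
  ([nat_lit 188, nat_lit 348, nat_lit 60, nat_lit 28, nat_lit 60, nat_lit 28, nat_lit 60, nat_lit 60, nat_lit 28], nat_lit 0),
  ([nat_lit 60, nat_lit 28, nat_lit 60, nat_lit 60, nat_lit 60, nat_lit 156, nat_lit 60, nat_lit 60, nat_lit 28, nat_lit 60, nat_lit 60, nat_lit 60, nat_lit 156, nat_lit 60, nat_lit 60, nat_lit 28, nat_lit 60, nat_lit 60, nat_lit 60, nat_lit 156, nat_lit 60], nat_lit 0),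
  ([nat_lit 60, nat_lit 28, nat_lit 60, nat_lit 28, nat_lit 60, nat_lit 60, nat_lit 60, nat_lit 28, nat_lit 60, nat_lit 28, nat_lit 60, nat_lit 60, nat_lit 60, nat_lit 28, nat_lit 60, nat_lit 28, nat_lit 60, nat_lit 60, nat_lit 60, nat_lit 28, nat_lit 60, nat_lit 28, nat_lit 60, nat_lit 60], nat_lit 0),
  ([nat_lit 92, nat_lit 348, nat_lit 156, nat_lit 92, nat_lit 28, nat_lit 316], nat_lit 0),
  ([nat_lit 60, nat_lit 28, nat_lit 60, nat_lit 60, nat_lit 28, nat_lit 188, nat_lit 348, nat_lit 60, nat_lit 28], nat_lit 0),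
  ([nat_lit 60, nat_lit 60, nat_lit 28, nat_lit 188, nat_lit 348, nat_lit 60, nat_lit 28, nat_lit 60, nat_lit 28], nat_lit 0),
  ([nat_lit 60, nat_lit 60, nat_lit 60, nat_lit 28, nat_lit 60, nat_lit 28, nat_lit 60, nat_lit 60, nat_lit 60, nat_lit 28, nat_lit 60, nat_lit 28, nat_lit 60, nat_lit 60, nat_lit 60, nat_lit 28, nat_lit 60, nat_lit 28, nat_lit 60, nat_lit 60, nat_lit 60, nat_lit 28, nat_lit 60, nat_lit 28], nat_lit 0),
  ([nat_lit 92, nat_lit 60, nat_lit 92, nat_lit 284], nat_lit 0),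
  ([nat_lit 156, nat_lit 188, nat_lit 28, nat_lit 60, nat_lit 156, nat_lit 188, nat_lit 28, nat_lit 60, nat_lit 156, nat_lit 188, nat_lit 28, nat_lit 60], nat_lit 0),
  ([nat_lit 60, nat_lit 60, nat_lit 28, nat_lit 60, nat_lit 28, nat_lit 60, nat_lit 60, nat_lit 60, nat_lit 28, nat_lit 60, nat_lit 28, nat_lit 60, nat_lit 60, nat_lit 60, nat_lit 28, nat_lit 60, nat_lit 28, nat_lit 60, nat_lit 60, nat_lit 60, nat_lit 28, nat_lit 60, nat_lit 28, nat_lit 60], nat_lit 0),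
  ([nat_lit 156, nat_lit 316, nat_lit 28, nat_lit 28, nat_lit 348, nat_lit 156], nat_lit 0),
  ([nat_lit 284, nat_lit 92, nat_lit 60, nat_lit 92], nat_lit 0),
  ([nat_lit 28, nat_lit 348, nat_lit 156, nat_lit 156, nat_lit 316, nat_lit 28], nat_lit 0),
  ([nat_lit 28, nat_lit 60, nat_lit 28, nat_lit 60, nat_lit 60, nat_lit 60, nat_lit 28, nat_lit 60, nat_lit 28, nat_lit 60, nat_lit 60, nat_lit 60, nat_lit 28, nat_lit 60, nat_lit 28, nat_lit 60, nat_lit 60, nat_lit 60, nat_lit 28, nat_lit 60, nat_lit 28, nat_lit 60, nat_lit 60, nat_lit 60], nat_lit 0),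
  ([nat_lit 60, nat_lit 60, nat_lit 28, nat_lit 60, nat_lit 28, nat_lit 60, nat_lit 28, nat_lit 188, nat_lit 156, nat_lit 188, nat_lit 156, nat_lit 188, nat_lit 188, nat_lit 188, nat_lit 92, nat_lit 60, nat_lit 60, nat_lit 60, nat_lit 28, nat_lit 60, nat_lit 28, nat_lit 60, nat_lit 28, nat_lit 188, nat_lit 156, nat_lit 188, nat_lit 156, nat_lit 188, nat_lit 188, nat_lit 188, nat_lit 92, nat_lit 60, nat_lit 60, nat_lit 60, nat_lit 28, nat_lit 60, nat_lit 28, nat_lit 60, nat_lit 28, nat_lit 92, nat_lit 188, nat_lit 156, nat_lit 188, nat_lit 156, nat_lit 188, nat_lit 188, nat_lit 188, nat_lit 92, nat_lit 60], nat_lit 0),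
  ([nat_lit 92, nat_lit 316, nat_lit 156, nat_lit 156, nat_lit 92, nat_lit 348], nat_lit 0),
  ([nat_lit 28, nat_lit 412, nat_lit 92, nat_lit 380, nat_lit 28, nat_lit 412, nat_lit 92, nat_lit 380, nat_lit 28, nat_lit 92, nat_lit 412, nat_lit 92, nat_lit 380], nat_lit 0),
  ([nat_lit 60, nat_lit 60, nat_lit 60, nat_lit 156, nat_lit 60, nat_lit 60, nat_lit 28, nat_lit 60, nat_lit 60, nat_lit 60, nat_lit 156, nat_lit 60, nat_lit 60, nat_lit 28, nat_lit 60, nat_lit 60, nat_lit 60, nat_lit 156, nat_lit 60, nat_lit 60, nat_lit 28], nat_lit 0),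
  ([nat_lit 28, nat_lit 92, nat_lit 28, nat_lit 92], nat_lit 0),
  ([nat_lit 60, nat_lit 156, nat_lit 60, nat_lit 60, nat_lit 28, nat_lit 60, nat_lit 60, nat_lit 60, nat_lit 156, nat_lit 60, nat_lit 60, nat_lit 28, nat_lit 60, nat_lit 60, nat_lit 60, nat_lit 156, nat_lit 60, nat_lit 60, nat_lit 28, nat_lit 60, nat_lit 60], nat_lit 0),
  ([nat_lit 92, nat_lit 380, nat_lit 28, nat_lit 412, nat_lit 92, nat_lit 380, nat_lit 28, nat_lit 412, nat_lit 92, nat_lit 380, nat_lit 28, nat_lit 92, nat_lit 412], nat_lit 0),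
  ([nat_lit 348, nat_lit 92, nat_lit 316, nat_lit 156, nat_lit 156, nat_lit 92], nat_lit 0),
  ([nat_lit 380, nat_lit 28, nat_lit 412, nat_lit 92, nat_lit 380, nat_lit 28, nat_lit 412, nat_lit 92, nat_lit 380, nat_lit 28, nat_lit 92, nat_lit 412, nat_lit 92], nat_lit 0),
  ([nat_lit 28, nat_lit 60, nat_lit 60, nat_lit 60, nat_lit 28, nat_lit 60, nat_lit 28, nat_lit 60, nat_lit 60, nat_lit 60, nat_lit 28, nat_lit 60, nat_lit 28, nat_lit 60, nat_lit 60, nat_lit 60, nat_lit 28, nat_lit 60, nat_lit 28, nat_lit 60, nat_lit 60, nat_lit 60, nat_lit 28, nat_lit 60], nat_lit 0),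
  ([nat_lit 60, nat_lit 60, nat_lit 60, nat_lit 28, nat_lit 60, nat_lit 28, nat_lit 60, nat_lit 28, nat_lit 188, nat_lit 156, nat_lit 188, nat_lit 156, nat_lit 188, nat_lit 188, nat_lit 188, nat_lit 92, nat_lit 60, nat_lit 60, nat_lit 60, nat_lit 28, nat_lit 60, nat_lit 28, nat_lit 60, nat_lit 28, nat_lit 188, nat_lit 156, nat_lit 188, nat_lit 156, nat_lit 188, nat_lit 188, nat_lit 188, nat_lit 92, nat_lit 60, nat_lit 60, nat_lit 60, nat_lit 28, nat_lit 60, nat_lit 28, nat_lit 60, nat_lit 28, nat_lit 92, nat_lit 188, nat_lit 156, nat_lit 188, nat_lit 156, nat_lit 188, nat_lit 188, nat_lit 188, nat_lit 92], nat_lit 0),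
  ([nat_lit 156, nat_lit 348, nat_lit 156, nat_lit 316, nat_lit 156, nat_lit 348, nat_lit 156, nat_lit 316], nat_lit 0),
  ([nat_lit 316, nat_lit 156, nat_lit 156, nat_lit 92, nat_lit 348, nat_lit 92], nat_lit 0),
  ([nat_lit 348, nat_lit 156, nat_lit 316, nat_lit 156, nat_lit 348, nat_lit 156, nat_lit 316, nat_lit 156], nat_lit 0),
  ([nat_lit 28, nat_lit 60, nat_lit 28, nat_lit 60, nat_lit 28, nat_lit 188, nat_lit 156, nat_lit 188, nat_lit 156, nat_lit 188, nat_lit 188, nat_lit 188, nat_lit 92, nat_lit 60, nat_lit 60, nat_lit 60, nat_lit 28, nat_lit 60, nat_lit 28, nat_lit 60, nat_lit 28, nat_lit 188, nat_lit 156, nat_lit 188, nat_lit 156, nat_lit 188, nat_lit 188, nat_lit 188, nat_lit 92, nat_lit 60, nat_lit 60, nat_lit 60, nat_lit 28, nat_lit 60, nat_lit 28, nat_lit 60, nat_lit 28, nat_lit 92, nat_lit 188, nat_lit 156, nat_lit 188, nat_lit 156, nat_lit 188, nat_lit 188, nat_lit 188, nat_lit 92, nat_lit 60,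 nat_lit 60, nat_lit 60], nat_lit 0),
  ([nat_lit 60, nat_lit 28, nat_lit 188, nat_lit 348, nat_lit 60, nat_lit 28, nat_lit 60, nat_lit 28, nat_lit 60], nat_lit 0),
  ([nat_lit 60, nat_lit 60, nat_lit 156, nat_lit 60, nat_lit 60, nat_lit 28, nat_lit 60, nat_lit 60, nat_lit 60, nat_lit 156, nat_lit 60, nat_lit 60, nat_lit 28, nat_lit 60, nat_lit 60, nat_lit 60, nat_lit 156, nat_lit 60, nat_lit 60, nat_lit 28, nat_lit 60], nat_lit 0),
  ([nat_lit 60, nat_lit 28, nat_lit 60, nat_lit 28, nat_lit 60, nat_lit 28, nat_lit 188, nat_lit 156, nat_lit 188, nat_lit 156, nat_lit 188, nat_lit 188, nat_lit 188, nat_lit 92, nat_lit 60, nat_lit 60, nat_lit 60, nat_lit 28, nat_lit 60, nat_lit 28, nat_lit 60, nat_lit 28, nat_lit 188, nat_lit 156, nat_lit 188, nat_lit 156, nat_lit 188, nat_lit 188, nat_lit 188, nat_lit 92, nat_lit 60, nat_lit 60, nat_lit 60, nat_lit 28, nat_lit 60, nat_lit 28, nat_lit 60, nat_lit 28, nat_lit 92,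 nat_lit 188, nat_lit 156, nat_lit 188, nat_lit 156, nat_lit 188, nat_lit 188, nat_lit 188, nat_lit 92, nat_lit 60, nat_lit 60], nat_lit 0),
  ([nat_lit 60, nat_lit 28, nat_lit 60, nat_lit 28, nat_lit 60, nat_lit 28, nat_lit 92, nat_lit 188, nat_lit 156, nat_lit 188, nat_lit 156, nat_lit 188, nat_lit 188, nat_lit 188, nat_lit 92, nat_lit 60, nat_lit 60, nat_lit 60, nat_lit 28, nat_lit 60, nat_lit 28, nat_lit 60, nat_lit 28, nat_lit 188, nat_lit 156, nat_lit 188, nat_lit 156, nat_lit 188, nat_lit 188, nat_lit 188, nat_lit 92, nat_lit 60, nat_lit 60, nat_lit 60, nat_lit 28, nat_lit 60, nat_lit 28, nat_lit 60, nat_lit 28, nat_lit 188, nat_lit 156, nat_lit 188, nat_lit 156, nat_lit 188, nat_lit 188, nat_lit 188, nat_lit 92, nat_lit 60, nat_lit 60], nat_lit 0),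
  ([nat_lit 92, nat_lit 380, nat_lit 28, nat_lit 412, nat_lit 92, nat_lit 380, nat_lit 28, nat_lit 92, nat_lit 412, nat_lit 92, nat_lit 380, nat_lit 28, nat_lit 412], nat_lit 0),
  ([nat_lit 60, nat_lit 60, nat_lit 28, nat_lit 60, nat_lit 60, nat_lit 60, nat_lit 156, nat_lit 60, nat_lit 60, nat_lit 28, nat_lit 60, nat_lit 60, nat_lit 60, nat_lit 156, nat_lit 60, nat_lit 60, nat_lit 28, nat_lit 60, nat_lit 60, nat_lit 60, nat_lit 156], nat_lit 0),
  ([nat_lit 60, nat_lit 28, nat_lit 60, nat_lit 60, nat_lit 60, nat_lit 28, nat_lit 60, nat_lit 28, nat_lit 60, nat_lit 60, nat_lit 60, nat_lit 28, nat_lit 60, nat_lit 28, nat_lit 60, nat_lit 60, nat_lit 60, nat_lit 28, nat_lit 60, nat_lit 28, nat_lit 60, nat_lit 60, nat_lit 60, nat_lit 28], nat_lit 0),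
  ([nat_lit 156, nat_lit 92, nat_lit 348, nat_lit 92, nat_lit 316, nat_lit 156], nat_lit 0),
  ([nat_lit 156, nat_lit 316, nat_lit 156, nat_lit 348, nat_lit 156, nat_lit 316, nat_lit 156, nat_lit 348], nat_lit 0),
  ([nat_lit 156, nat_lit 60, nat_lit 60, nat_lit 28, nat_lit 60, nat_lit 60, nat_lit 60, nat_lit 156, nat_lit 60, nat_lit 60, nat_lit 28, nat_lit 60, nat_lit 60, nat_lit 60, nat_lit 156, nat_lit 60, nat_lit 60, nat_lit 28, nat_lit 60, nat_lit 60, nat_lit 60], nat_lit 0),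
  ([nat_lit 316, nat_lit 316, nat_lit 316, nat_lit 316, nat_lit 316, nat_lit 316, nat_lit 316, nat_lit 316, nat_lit 316, nat_lit 316, nat_lit 316, nat_lit 316], nat_lit 0),
  ([nat_lit 412, nat_lit 92, nat_lit 380, nat_lit 28, nat_lit 92, nat_lit 412, nat_lit 92, nat_lit 380, nat_lit 28, nat_lit 412, nat_lit 92, nat_lit 380, nat_lit 28], nat_lit 0),
  ([nat_lit 28, nat_lit 28, nat_lit 188, nat_lit 28, nat_lit 28, nat_lit 60], nat_lit 0),
  ([nat_lit 28, nat_lit 188, nat_lit 348, nat_lit 60, nat_lit 28, nat_lit 60, nat_lit 28, nat_lit 60, nat_lit 60], nat_lit 0),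
  ([nat_lit 28, nat_lit 60, nat_lit 60, nat_lit 60, nat_lit 156, nat_lit 60, nat_lit 60, nat_lit 28, nat_lit 60, nat_lit 60, nat_lit 60, nat_lit 156, nat_lit 60, nat_lit 60, nat_lit 28, nat_lit 60, nat_lit 60, nat_lit 60, nat_lit 156, nat_lit 60, nat_lit 60], nat_lit 0),
  ([nat_lit 60, nat_lit 28, nat_lit 220, nat_lit 156], nat_lit 0),
  ([nat_lit 60, nat_lit 60, nat_lit 60, nat_lit 28, nat_lit 60, nat_lit 28, nat_lit 60, nat_lit 28, nat_lit 92, nat_lit 188, nat_lit 156, nat_lit 188, nat_lit 156, nat_lit 188, nat_lit 188, nat_lit 188, nat_lit 92, nat_lit 60, nat_lit 60, nat_lit 60, nat_lit 28, nat_lit 60, nat_lit 28, nat_lit 60, nat_lit 28, nat_lit 188, nat_lit 156, nat_lit 188, nat_lit 156, nat_lit 188, nat_lit 188, nat_lit 188, nat_lit 92, nat_lit 60, nat_lit 60, nat_lit 60, nat_lit 28, nat_lit 60, nat_lit 28, nat_lit 60, nat_lit 28, nat_lit 188, nat_lit 156, nat_lit 188, nat_lit 156, nat_lit 188, nat_lit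 188, nat_lit 188, nat_lit 92], nat_lit 0),
  ([nat_lit 92, nat_lit 412, nat_lit 92, nat_lit 380, nat_lit 28, nat_lit 412, nat_lit 92, nat_lit 380, nat_lit 28, nat_lit 412, nat_lit 92, nat_lit 380, nat_lit 28], nat_lit 0),
  ([nat_lit 156, nat_lit 156, nat_lit 92, nat_lit 348, nat_lit 92, nat_lit 316], nat_lit 0),
  ([nat_lit 316, nat_lit 28, nat_lit 316, nat_lit 28, nat_lit 316, nat_lit 28, nat_lit 316, nat_lit 28, nat_lit 316, nat_lit 28, nat_lit 316, nat_lit 28, nat_lit 316, nat_lit 28], nat_lit 0),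
  ([nat_lit 28, nat_lit 28, nat_lit 60, nat_lit 28, nat_lit 28, nat_lit 188], nat_lit 0),
  ([nat_lit 28, nat_lit 28, nat_lit 348, nat_lit 156, nat_lit 156, nat_lit 316], nat_lit 0),
  ([nat_lit 28, nat_lit 60, nat_lit 60, nat_lit 28, nat_lit 188, nat_lit 348, nat_lit 60, nat_lit 28, nat_lit 60], nat_lit 0),
  ([nat_lit 28, nat_lit 92, nat_lit 412, nat_lit 92, nat_lit 380, nat_lit 28, nat_lit 412, nat_lit 92, nat_lit 380, nat_lit 28, nat_lit 412, nat_lit 92, nat_lit 380], nat_lit 0),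
  ([nat_lit 28, nat_lit 316, nat_lit 28, nat_lit 316, nat_lit 28, nat_lit 316, nat_lit 28, nat_lit 316, nat_lit 28, nat_lit 316, nat_lit 28, nat_lit 316, nat_lit 28, nat_lit 316], nat_lit 0),
  ([nat_lit 28, nat_lit 60, nat_lit 28, nat_lit 60, nat_lit 28, nat_lit 92, nat_lit 188, nat_lit 156, nat_lit 188, nat_lit 156, nat_lit 188, nat_lit 188, nat_lit 188, nat_lit 92, nat_lit 60, nat_lit 60, nat_lit 60, nat_lit 28, nat_lit 60, nat_lit 28, nat_lit 60, nat_lit 28, nat_lit 188, nat_lit 156, nat_lit 188, nat_lit 156, nat_lit 188, nat_lit 188, nat_lit 188, nat_lit 92, nat_lit 60, nat_lit 60, nat_lit 60, nat_lit 28, nat_lit 60, nat_lit 28, nat_lit 60, nat_lit 28, nat_lit 188, nat_lit 156, nat_lit 188, nat_lit 156, nat_lit 188, nat_lit 188, nat_lit 188, nat_lit 92, nat_lit 60, nat_lit 60, nat_lit 60], nat_lit 0),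
  ([nat_lit 60, nat_lit 28, nat_lit 60, nat_lit 28, nat_lit 60, nat_lit 412, nat_lit 60, nat_lit 60], nat_lit 0),
  ([nat_lit 60, nat_lit 60, nat_lit 28, nat_lit 60, nat_lit 28, nat_lit 60, nat_lit 28, nat_lit 188, nat_lit 156, nat_lit 188, nat_lit 156, nat_lit 188, nat_lit 188, nat_lit 188, nat_lit 92, nat_lit 60, nat_lit 60, nat_lit 60, nat_lit 28, nat_lit 60, nat_lit 28, nat_lit 60, nat_lit 28, nat_lit 92, nat_lit 188, nat_lit 156, nat_lit 188, nat_lit 156, nat_lit 188, nat_lit 188, nat_lit 188, nat_lit 92, nat_lit 60, nat_lit 60, nat_lit 60, nat_lit 28, nat_lit 60, nat_lit 28, nat_lit 60, nat_lit 28, nat_lit 188, nat_lit 156, nat_lit 188, nat_lit 156, nat_lit 188, nat_lit 188, nat_lit 188, nat_lit 92, nat_lit 60], nat_lit 0),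
  ([nat_lit 60, nat_lit 28, nat_lit 60, nat_lit 28, nat_lit 60, nat_lit 28, nat_lit 188, nat_lit 156, nat_lit 188, nat_lit 156, nat_lit 188, nat_lit 188, nat_lit 188, nat_lit 92, nat_lit 60, nat_lit 60, nat_lit 60, nat_lit 28, nat_lit 60, nat_lit 28, nat_lit 60, nat_lit 28, nat_lit 92, nat_lit 188, nat_lit 156, nat_lit 188, nat_lit 156, nat_lit 188, nat_lit 188, nat_lit 188, nat_lit 92, nat_lit 60, nat_lit 60, nat_lit 60, nat_lit 28, nat_lit 60, nat_lit 28, nat_lit 60, nat_lit 28, nat_lit 188, nat_lit 156, nat_lit 188, nat_lit 156, nat_lit 188, nat_lit 188, nat_lit 188, nat_lit 92, nat_lit 60, nat_lit 60], nat_lit 0),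
  ([nat_lit 156, nat_lit 92, nat_lit 28, nat_lit 316, nat_lit 92, nat_lit 348], nat_lit 0),
  ([nat_lit 156, nat_lit 188, nat_lit 188, nat_lit 188, nat_lit 92, nat_lit 60, nat_lit 60, nat_lit 60, nat_lit 28, nat_lit 60, nat_lit 28, nat_lit 60, nat_lit 28, nat_lit 188, nat_lit 156, nat_lit 188, nat_lit 156, nat_lit 188, nat_lit 188, nat_lit 188, nat_lit 92, nat_lit 60, nat_lit 60, nat_lit 60, nat_lit 28, nat_lit 60, nat_lit 28, nat_lit 60, nat_lit 28, nat_lit 92, nat_lit 188, nat_lit 156, nat_lit 188, nat_lit 156, nat_lit 188, nat_lit 188, nat_lit 188, nat_lit 92, nat_lit 60, nat_lit 60, nat_lit 60, nat_lit 28, nat_lit 60, nat_lit 28, nat_lit 60, nat_lit 28, nat_lit 188, nat_lit 156, nat_lit 188], nat_lit 0),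
  ([nat_lit 188, nat_lit 156, nat_lit 188, nat_lit 156, nat_lit 188, nat_lit 188, nat_lit 188, nat_lit 92, nat_lit 60, nat_lit 60, nat_lit 60, nat_lit 28, nat_lit 60, nat_lit 28, nat_lit 60, nat_lit 28, nat_lit 188, nat_lit 156, nat_lit 188, nat_lit 156, nat_lit 188, nat_lit 188, nat_lit 188, nat_lit 92, nat_lit 60, nat_lit 60, nat_lit 60, nat_lit 28, nat_lit 60, nat_lit 28, nat_lit 60, nat_lit 28, nat_lit 188, nat_lit 156, nat_lit 188, nat_lit 156, nat_lit 188, nat_lit 188, nat_lit 188, nat_lit 92, nat_lit 60, nat_lit 60, nat_lit 60, nat_lit 28, nat_lit 60, nat_lit 28, nat_lit 60, nat_lit 28, nat_lit 92], nat_lit 0),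
  ([nat_lit 316, nat_lit 156, nat_lit 348, nat_lit 156, nat_lit 316, nat_lit 156, nat_lit 348, nat_lit 156], nat_lit 0),
  ([nat_lit 348, nat_lit 156, nat_lit 92, nat_lit 28, nat_lit 316, nat_lit 92], nat_lit 0),
  ([nat_lit 348, nat_lit 348, nat_lit 156, nat_lit 316, nat_lit 316, nat_lit 156, nat_lit 348, nat_lit 348, nat_lit 156, nat_lit 316, nat_lit 316, nat_lit 156], nat_lit 0),
  ([nat_lit 380, nat_lit 28, nat_lit 412, nat_lit 92, nat_lit 380, nat_lit 28, nat_lit 92, nat_lit 412, nat_lit 92, nat_lit 380, nat_lit 28, nat_lit 412, nat_lit 92], nat_lit 0),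
  ([nat_lit 412, nat_lit 92, nat_lit 380, nat_lit 28, nat_lit 412, nat_lit 92, nat_lit 380, nat_lit 28, nat_lit 412, nat_lit 92, nat_lit 380, nat_lit 28, nat_lit 92], nat_lit 0),
  ([nat_lit 412, nat_lit 92, nat_lit 380, nat_lit 28, nat_lit 412, nat_lit 92, nat_lit 380, nat_lit 28, nat_lit 92, nat_lit 412, nat_lit 92, nat_lit 380, nat_lit 28], nat_lit 0)]

noncomputable def gens : List ℕ := [nat_lit 28, nat_lit 60, nat_lit 92, nat_lit 124, nat_lit 156, nat_lit 188, nat_lit 220, nat_lit 252, nat_lit 284, nat_lit 316, nat_lit 348, nat_lit 380, nat_lit 412]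

noncomputable def chk : ℕ → Bool := chkRow1 row (nat_lit 22407) (nat_lit 352) (nat_lit 0x7fff) (nat_lit 0xff8000) (nat_lit 24) (nat_lit 0xff) (nat_lit 0) (nat_lit 0x7fff) (nat_lit 15) (nat_lit 0x1ff) (nat_lit 0xf000000) (nat_lit 444) (nat_lit 476) (nat_lit 6) [] cols erots gens

end Cfsg.Agent.L0.HNTc1
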